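import Cfsg.Agent.BenderSuzuki.U3.Basic
import Cfsg.Agent.UnitaryThreeEven.Field

/-!
The case `|Q| = q ^ 3`: the closed form of the two coordinates on `Q`.
-/

set_option autoImplicit false
set_option linter.unusedSectionVars false

namespace Cfsg.Lib.BenderSuzuki.U3

open MulAction Cfsg.Lib.RankOne

universe u v

variable {G : Type u} {Ω : Type v} [Group G] [Finite G] [MulAction G Ω]

/-- Two coordinates on `Q` in which the action of the two-point stabiliser and of `t` are those of the unitary group.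
The multiplication of `Q` is only known on the first coordinate. -/
structure Closed (Ω : Type v) [MulAction G Ω] (a : Ω) (t : G) (Q : Subgroup G) {E : Type} [Field E] [Fintype E]
    [CharP E 2] (D : UThreeEven.Dat E) (A B : G → E) : Prop where
  input : Input Ω a t Q
  q_eq : D.q = qNum G a
  A_mul : ∀ p ∈ Q, ∀ r ∈ Q, A (p * r) = A p + A r
  A_zero_iff : ∀ p ∈ Q, A p = 0 ↔ p * p = 1
  A_surj : ∀ e, ∃ p ∈ Q, A p = e
  B_zero_iff : ∀ p ∈ Q, B p = 0 ↔ p = 1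
  B_trace : ∀ p ∈ Q, B p + D.bar (B p) = D.bar (A p) * A p
  B_central : ∀ z ∈ Q, z * z = 1 → ∀ p ∈ Q, B (z * p) = B z + B p
  B_inv : ∀ p ∈ Q, B p⁻¹ = D.bar (B p)
  torus : ∀ d ∈ twoStab Ω a t, ∃ l : E, l ≠ 0 ∧
    ∀ p ∈ Q, A (d * p * d⁻¹) = l * A p ∧ B (d * p * d⁻¹) = D.bar l * l * B p
  torus_fixed : ∀ l : E, l ≠ 0 → D.bar l = l → ∃ d ∈ twoStab Ω a t,
    ∀ p ∈ Q, A (d * p * d⁻¹) = l * A p
  torus_cube : ∀ l : E, D.bar l * l = 1 → ∃ d ∈ twoStab Ω a t,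
    ∀ p ∈ Q, A (d * p * d⁻¹) = l ^ 3 * A p
  swap : ∀ p ∈ Q, p ≠ 1 → ∀ r ∈ Q, t • p • t • a = r • t • a → A r = A p / B p ∧ B r = 1 / B p
  delta : ∃ (w : G) (ε : E), w ∈ twoStab Ω a t ∧ ε ≠ 1 ∧ D.bar ε * ε = 1 ∧
    ∀ p ∈ Q, A (w * p * w⁻¹) = ε * A p ∧ B (w * p * w⁻¹) = B p ∧
      ∃ c : E, D.bar c = c ∧ B (p⁻¹ * (w * p * w⁻¹)) = c * (1 + ε)

end Cfsg.Lib.BenderSuzuki.U3
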