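import Cfsg.Agent.UnitaryThreeEven.Field

/-!
Ovals in the affine plane over the fixed field: the tangents of `q + 1` points, no three collinear, pass through
one point.
-/

set_option autoImplicit false
set_option linter.unusedSectionVars false

namespace Cfsg.Lib.BenderSuzuki.U3

open Cfsg.Lib.UThreeEven

universe u v

variable {E : Type u} [Field E] [Fintype E] [CharP E 2] (D : Dat E)

/-- The direction of a vector of the plane over the fixed field. -/
noncomputable def dir (x : E) : E := D.bar x / x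

theorem dir_norm {x : E} (hx : x ≠ 0) : D.bar (dir D x) * dir D x = 1 := by
  have hb : D.bar x ≠ 0 := fun h => hx (by rw [← D.bar_bar x, h, map_zero])
  rw [dir, map_div₀, D.bar_bar]
  field_simp

theorem dir_smul {c x : E} (hc : D.bar c = c) (hc0 : c ≠ 0) : dir D (c * x) = dir D x := by
  rw [dir, map_mul, hc, mul_div_mul_left _ _ hc0]
  rfl

theorem exists_of_dir_eq {x y : E} (hy : y ≠ 0) (h : dir D x = dir D y) (hx : x ≠ 0) :
    ∃ c : E, D.bar c = c ∧ c ≠ 0 ∧ x = c * y := by
  have hb : D.bar y ≠ 0 := fun h => hy (by rw [← D.bar_bar y, h, map_zero])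
  refine ⟨x / y, ?_, div_ne_zero hx hy, (div_mul_cancel₀ x hy).symm⟩
  rw [dir, dir, div_eq_div_iff hx hy] at h
  rw [map_div₀, div_eq_div_iff hb hy]
  linear_combination h

theorem card_norm_one : Nat.card {d : E // D.bar d * d = 1} = D.q + 1 := by
  rw [← D.card_R0]
  exact Nat.card_congr
    { toFun := fun d => ⟨Units.mk0 d.1 (fun h => one_ne_zero (α := E) (by rw [← d.2, h, mul_zero])), D.mem_R0.2 d.2⟩
      invFun := fun r => ⟨((r : Eˣ) : E), D.R0_norm r⟩
      left_inv := fun d => rfl
      right_inv := fun r => Subtype.ext (Units.ext rfl) }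

theorem card_fixed : Nat.card {c : E // D.bar c = c} = D.q := by
  classical
  set f := (D.bar : E →+* E).toAddMonoidHom + AddMonoidHom.id E with hf
  have hker : ∀ c, c ∈ f.ker ↔ D.bar c = c := fun c => CharTwo.add_eq_zero
  have hrange : ∀ c, c ∈ f.range ↔ c ∈ f.ker := by
    intro c
    rw [hker]
    constructor
    · rintro ⟨y, rfl⟩
      show D.bar (D.bar y + y) = D.bar y + y
      rw [map_add, D.bar_bar, add_comm]
    · intro hc
      obtain ⟨y, hy⟩ := D.exists_trace hc
      exact ⟨y, show D.bar y + y = c by rw [add_comm, hy]⟩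
  have h1 := f.ker.card_mul_index
  rw [AddSubgroup.index_ker, AddSubgroup.ext hrange, Nat.card_eq_fintype_card (α := E), D.hF, sq] at h1
  rw [← Nat.mul_self_inj.1 h1]
  exact Nat.card_congr (Equiv.subtypeEquivRight fun c => (hker c).symm)

/-- An involutive map of a set of odd size fixes a point. -/
theorem exists_fixed_of_odd {ι : Type v} [Fintype ι] (hodd : Odd (Fintype.card ι)) (f : ι → ι)
    (hf : ∀ i, f (f i) = i) : ∃ i, f i = i := by
  classical
  by_contra h
  push Not at h
  have : Fact (Nat.Prime 2) := ⟨Nat.prime_two⟩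
  obtain ⟨x, hx⟩ := Equiv.Perm.exists_fixed_point_of_prime (p := 2) (n := 1) (σ := Function.Involutive.toPerm f hf)
    (fun hd => Nat.not_even_iff_odd.2 hodd (even_iff_two_dvd.2 hd)) (Equiv.ext fun i => by
      simp only [pow_one, pow_two, Equiv.Perm.mul_apply, Equiv.Perm.one_apply]
      exact hf i)
  exact h x hx

variable {ι : Type v} [Fintype ι]

/-- The tangents of an oval are in distinct directions and concurrent. -/
theorem oval_nucleus (hι : Fintype.card ι = D.q + 1) (b t : ι → E) (ht : ∀ i, t i ≠ 0)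
    (htan : ∀ i k, i ≠ k → ∀ c : E, D.bar c = c → b i + b k ≠ c * t i)
    (harc : ∀ i k l, i ≠ k → i ≠ l → k ≠ l → ∀ c : E, D.bar c = c → b i + b k ≠ c * (b i + b l)) :
    (∀ i j, i ≠ j → ∀ c : E, D.bar c = c → t i ≠ c * t j) ∧
      ∃ N0 : E, ∀ i, ∃ c : E, D.bar c = c ∧ b i + N0 = c * t i := by
  classical
  have hodd : Odd (Fintype.card ι) := by rw [hι]; exact D.q_even.add_one
  have hne : ∀ i k, i ≠ k → b i + b k ≠ 0 := fun i k h e => htan i k h 0 (map_zero _) (by rw [e, zero_mul])
  have hsum : ∀ x y z : E, (x + y) + (x + z) = y + z := fun x y z => by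
    linear_combination x * (CharTwo.two_eq_zero : (2 : E) = 0)
  -- the directions at a point
  let v : ι → ι → E := fun i k => if k = i then t i else b i + b k
  have hv : ∀ i k, v i k ≠ 0 := fun i k => by
    simp only [v]; split_ifs with h
    · exact ht i
    · exact hne i k (Ne.symm h)
  let σ : ι → ι → {d : E // D.bar d * d = 1} := fun i k => ⟨dir D (v i k), dir_norm D (hv i k)⟩
  have hσ : ∀ i, Function.Bijective (σ i) := by
    intro i
    refine (Fintype.bijective_iff_injective_and_card _).2 ⟨fun k l e => ?_, ?_⟩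
    · by_contra hkl
      obtain ⟨c, hc, hc0, e'⟩ := exists_of_dir_eq D (hv i l) (congrArg Subtype.val e) (hv i k)
      by_cases hk : k = i
      · subst hk
        simp only [v, if_true, if_neg (Ne.symm hkl)] at e'
        refine htan k l hkl c⁻¹ (by rw [map_inv₀, hc]) ?_
        rw [e', inv_mul_cancel_left₀ hc0]
      · by_cases hl : l = i
        · subst hl
          simp only [v, if_true, if_neg hk] at e'
          exact htan l k (Ne.symm hk) c hc e'
        · simp only [v, if_neg hk, if_neg hl] at e'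
          exact harc i k l (Ne.symm hk) (Ne.symm hl) hkl c hc e'
    · rw [hι, ← Nat.card_eq_fintype_card, card_norm_one]
  have hsymm : ∀ i k, σ i k = σ k i := fun i k => by
    by_cases h : k = i
    · rw [h]
    · simp only [σ, v, if_neg h, if_neg (Ne.symm h), add_comm (b i)]
  -- every direction is the direction of exactly one tangent
  have hτs : Function.Surjective fun i => σ i i := by
    intro d
    choose f hf using fun i => (hσ i).2 d
    obtain ⟨i, hi⟩ := exists_fixed_of_odd hodd f fun i => (hσ (f i)).1 (by rw [hf, hsymm, hf])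
    exact ⟨i, by rw [← hf i, hi]⟩
  have hτ : Function.Bijective fun i => σ i i :=
    (Fintype.bijective_iff_surjective_and_card _).2 ⟨hτs, by rw [hι, ← Nat.card_eq_fintype_card, card_norm_one]⟩
  have hdt : ∀ i, (σ i i : E) = dir D (t i) := fun i => by simp [σ, v]
  have hfirst : ∀ i j, i ≠ j → ∀ c : E, D.bar c = c → t i ≠ c * t j := by
    intro i j hij c hc e
    have hc0 : c ≠ 0 := fun h => ht i (by rw [e, h, zero_mul])
    exact hij (hτ.1 (Subtype.ext (by rw [hdt, hdt, e, dir_smul D hc hc0])))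
  refine ⟨hfirst, ?_⟩
  -- every point off the arc is on a tangent
  have hon : ∀ X : E, (∀ m, b m + X ≠ 0) → ∃ m, dir D (b m + X) = dir D (t m) := by
    intro X hX
    choose f hf using fun i => (hσ i).2 ⟨dir D (b i + X), dir_norm D (hX i)⟩
    have hinv : ∀ i, f (f i) = i := fun i => by
      by_cases hk : f i = i
      · rw [hk, hk]
      · refine (hσ (f i)).1 ?_
        rw [hf, hsymm, hf]
        refine Subtype.ext ?_
        show dir D (b (f i) + X) = dir D (b i + X)
        have e : dir D (b i + b (f i)) = dir D (b i + X) := by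
          have := congrArg Subtype.val (hf i)
          simp only [σ, v, if_neg hk] at this
          exact this
        obtain ⟨c, hc, -, hce⟩ := exists_of_dir_eq D (hX i) e (hne i _ (Ne.symm hk))
        have e2 : b (f i) + X = (c + 1) * (b i + X) := by
          rw [add_mul, one_mul, ← hce, hsum]
        rw [e2, dir_smul D (by rw [map_add, hc, map_one]) fun h => hX (f i) (by rw [e2, h, zero_mul])]
    obtain ⟨m, hm⟩ := exists_fixed_of_odd hodd f hinv
    exact ⟨m, by rw [← hdt]; exact (congrArg Subtype.val ((congrArg (σ m) hm).symm.trans (hf m))).symm⟩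
  -- the meet of two tangents
  have hcard2 : 1 < Fintype.card ι := by have := D.hq; omega
  obtain ⟨i, j, hij⟩ := Fintype.exists_pair_of_one_lt_card hcard2
  have hΔ : t i * D.bar (t j) + D.bar (t i) * t j ≠ 0 := by
    intro h
    have hbj : D.bar (t j) ≠ 0 := fun h' => ht j (by rw [← D.bar_bar (t j), h', map_zero])
    refine hfirst i j hij (t i / t j) ?_ (div_mul_cancel₀ _ (ht j)).symm
    rw [map_div₀, div_eq_div_iff hbj (ht j)]
    exact (CharTwo.add_eq_zero.1 h).symm
  obtain ⟨Δ, hΔdef⟩ : ∃ x, x = t i * D.bar (t j) + D.bar (t i) * t j := ⟨_, rfl⟩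
  rw [← hΔdef] at hΔ
  have hbΔ : D.bar Δ = Δ := by rw [hΔdef, map_add, map_mul, map_mul, D.bar_bar, D.bar_bar]; ring
  obtain ⟨α, hα⟩ : ∃ x, x = ((b i + b j) * D.bar (t j) + D.bar (b i + b j) * t j) / Δ := ⟨_, rfl⟩
  obtain ⟨β, hβ⟩ : ∃ x, x = ((b i + b j) * D.bar (t i) + D.bar (b i + b j) * t i) / Δ := ⟨_, rfl⟩
  have hαb : D.bar α = α := by
    rw [hα, map_div₀, hbΔ, map_add, map_mul, map_mul, D.bar_bar, D.bar_bar]; ring
  have hβb : D.bar β = β := by
    rw [hβ, map_div₀, hbΔ, map_add, map_mul, map_mul, D.bar_bar, D.bar_bar]; ring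
  have hαβ : α * t i + β * t j = b i + b j := by
    rw [hα, hβ, div_mul_eq_mul_div, div_mul_eq_mul_div, ← add_div, div_eq_iff hΔ, hΔdef]
    linear_combination (D.bar (b i + b j) * t i * t j) * (CharTwo.two_eq_zero : (2 : E) = 0)
  set N0 := b i + α * t i with hN0
  have hN0j : b j + N0 = β * t j := by
    have h2 : (2 : E) = 0 := CharTwo.two_eq_zero
    linear_combination hN0 + hαβ + (b i - β * t j + b j) * h2
  have hN0i : b i + N0 = α * t i := by rw [hN0, ← add_assoc, Dat.add_self, zero_add]
  have hNarc : ∀ m, b m + N0 ≠ 0 := by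
    intro m h
    have hm : b m = N0 := CharTwo.add_eq_zero.1 h
    by_cases hmi : m = i
    · subst hmi
      refine htan j m (Ne.symm hij) β hβb ?_
      rw [← hN0j, hm]
    · refine htan i m (Ne.symm hmi) α hαb ?_
      rw [← hN0i, hm]
  have hiN : dir D (b i + N0) = dir D (t i) := by
    rw [hN0i, dir_smul D hαb]
    intro h
    exact hNarc i (by rw [hN0i, h, zero_mul])
  have hjN : dir D (b j + N0) = dir D (t j) := by
    rw [hN0j, dir_smul D hβb]
    intro h
    exact hNarc j (by rw [hN0j, h, zero_mul])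
  refine ⟨N0, fun k => ?_⟩
  suffices h : dir D (b k + N0) = dir D (t k) by
    obtain ⟨c, hc, -, e⟩ := exists_of_dir_eq D (ht k) h (hNarc k)
    exact ⟨c, hc, e⟩
  by_contra hk
  -- the secant through the point
  obtain ⟨l, hl⟩ := (hσ k).2 ⟨dir D (b k + N0), dir_norm D (hNarc k)⟩
  have hl' := congrArg Subtype.val hl
  have hkl : k ≠ l := by
    rintro rfl
    exact hk (by rw [← hdt]; exact hl'.symm)
  simp only [σ, v, if_neg (Ne.symm hkl)] at hl'
  obtain ⟨d0, hd0⟩ : ∃ x, x = dir D (b k + b l) := ⟨_, rfl⟩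
  obtain ⟨c0, hc0, hc00, hN⟩ := exists_of_dir_eq D (hne k l hkl) hl'.symm (hNarc k)
  have hc01 : c0 ≠ 1 := fun h => hNarc l (by
    rw [h, one_mul] at hN
    rw [CharTwo.add_eq_zero]
    exact (add_left_cancel hN).symm)
  -- the tangent with the direction of the secant
  obtain ⟨m0, hm0⟩ := hτs ⟨d0, hd0 ▸ dir_norm D (hne k l hkl)⟩
  have hm0' : dir D (t m0) = d0 := by rw [← hdt]; exact congrArg Subtype.val hm0
  have hnotd0 : ∀ m, m = k ∨ m = l → dir D (t m) ≠ d0 := by
    rintro m (rfl | rfl) e
    · obtain ⟨c, hc, -, e'⟩ := exists_of_dir_eq D (ht m) (hd0.symm.trans e.symm) (hne m l hkl)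
      exact htan m l hkl c hc e'
    · obtain ⟨c, hc, -, e'⟩ := exists_of_dir_eq D (ht m) (hd0.symm.trans e.symm) (hne k m hkl)
      exact htan m k (Ne.symm hkl) c hc (by rw [add_comm, e'])
  let C := {c : E // D.bar c = c ∧ c ≠ 0 ∧ c ≠ 1}
  let M := {m : ι // m ≠ k ∧ m ≠ l ∧ m ≠ m0}
  let X : C → E := fun c => b k + c.1 * (b k + b l)
  have hXk : ∀ c : C, b k + X c = c.1 * (b k + b l) := fun c => by
    simp only [X]; rw [← add_assoc, Dat.add_self, zero_add]
  have hXl : ∀ c : C, b l + X c = (c.1 + 1) * (b k + b l) := fun c => by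
    simp only [X]; ring
  have hc1 : ∀ c : C, c.1 + 1 ≠ 0 := fun c h => c.2.2.2 (CharTwo.add_eq_zero.1 h)
  have hcb : ∀ c : C, D.bar (c.1 + 1) = c.1 + 1 := fun c => by rw [map_add, c.2.1, map_one]
  have hoff : ∀ (c : C) m, b m + X c ≠ 0 := by
    intro c m h
    by_cases hmk : m = k
    · subst hmk; rw [hXk] at h; exact mul_ne_zero c.2.2.1 (hne m l hkl) h
    by_cases hml : m = l
    · subst hml; rw [hXl] at h; exact mul_ne_zero (hc1 c) (hne k m hkl) h
    refine harc k m l (Ne.symm hmk) hkl hml c.1 c.2.1 ?_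
    rw [← hXk c, CharTwo.add_eq_zero.1 h]
  have hmem : ∀ (c : C) m, dir D (b m + X c) = dir D (t m) → m ≠ k ∧ m ≠ l ∧ m ≠ m0 := by
    intro c m h
    have h1 : m ≠ k := by
      rintro rfl
      rw [hXk, dir_smul D c.2.1 c.2.2.1, ← hd0] at h
      exact hnotd0 m (Or.inl rfl) h.symm
    have h2 : m ≠ l := by
      rintro rfl
      rw [hXl, dir_smul D (hcb c) (hc1 c), ← hd0] at h
      exact hnotd0 m (Or.inr rfl) h.symm
    refine ⟨h1, h2, ?_⟩
    rintro rfl
    rw [hm0', hd0] at h
    obtain ⟨e, he, -, he'⟩ := exists_of_dir_eq D (hne k l hkl) h (hoff c m)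
    refine harc k m l (Ne.symm h1) hkl h2 (c.1 + e) (by rw [map_add, c.2.1, he]) ?_
    rw [add_mul, ← hXk c, ← he', add_comm (b k) (X c), add_comm (b m) (X c), hsum]
  have hinj : ∀ (c c' : C) m, dir D (b m + X c) = dir D (t m) → dir D (b m + X c') = dir D (t m) → c = c' := by
    intro c c' m h h'
    obtain ⟨e, he, -, hee⟩ := exists_of_dir_eq D (ht m) h (hoff c m)
    obtain ⟨e', he', -, hee'⟩ := exists_of_dir_eq D (ht m) h' (hoff c' m)
    by_contra hcc
    have hne' : c.1 + c'.1 ≠ 0 := fun z => hcc (Subtype.ext (CharTwo.add_eq_zero.1 z))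
    have e1 : (c.1 + c'.1) * (b k + b l) = (e + e') * t m := by
      linear_combination hee + hee' - hXk c - hXk c' + (b k - b m) * (CharTwo.two_eq_zero : (2 : E) = 0)
    have hee0 : e + e' ≠ 0 := fun z => mul_ne_zero hne' (hne k l hkl) (by rw [e1, z, zero_mul])
    refine (hmem c m h).2.2 (hτ.1 (Subtype.ext ?_))
    rw [hdt, hdt, hm0', hd0, ← dir_smul D (x := b k + b l) (show D.bar (c.1 + c'.1) = c.1 + c'.1 by
      rw [map_add, c.2.1, c'.2.1]) hne', e1, dir_smul D (by rw [map_add, he, he']) hee0]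
  choose Φ hΦ using fun c : C => hon (X c) (hoff c)
  let Φ' : C → M := fun c => ⟨Φ c, hmem c _ (hΦ c)⟩
  have hΦi : Function.Injective Φ' := fun c c' e => hinj c c' (Φ c) (hΦ c) (by
    rw [show Φ c = Φ c' from congrArg Subtype.val e]; exact hΦ c')
  have hm0kl : m0 ≠ k ∧ m0 ≠ l := ⟨fun e => hnotd0 m0 (Or.inl e) hm0', fun e => hnotd0 m0 (Or.inr e) hm0'⟩
  have hcards : Nat.card M ≤ Nat.card C := by
    have hM : Nat.card M = D.q + 1 - 3 := by
      rw [Nat.card_eq_fintype_card, Fintype.card_subtype,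
        show Finset.univ.filter (fun m => m ≠ k ∧ m ≠ l ∧ m ≠ m0) = Finset.univ \ {k, l, m0} by
          ext m; simp,
        Finset.card_sdiff, Finset.inter_univ, Finset.card_univ, hι]
      congr 1
      rw [Finset.card_insert_of_notMem (by simp [hkl, Ne.symm hm0kl.1]),
        Finset.card_insert_of_notMem (by simp [Ne.symm hm0kl.2]), Finset.card_singleton]
    have hC : Nat.card C = D.q - 2 := by
      rw [← card_fixed D, Nat.card_eq_fintype_card, Nat.card_eq_fintype_card, Fintype.card_subtype,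
        Fintype.card_subtype]
      rw [show Finset.univ.filter (fun c : E => D.bar c = c ∧ c ≠ 0 ∧ c ≠ 1) =
          Finset.univ.filter (fun c : E => D.bar c = c) \ {0, 1} by ext c; simp [and_assoc],
        Finset.card_sdiff]
      congr 1
      rw [Finset.inter_eq_left.2 (by
        intro x hx
        rcases Finset.mem_insert.1 hx with rfl | hx
        · simp
        · rw [Finset.mem_singleton.1 hx]; simp),
        Finset.card_insert_of_notMem (by simp), Finset.card_singleton]
    rw [hM, hC]
    omega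
  have hbij : Function.Bijective Φ' := hΦi.bijective_of_nat_card_le hcards
  -- the two given tangents
  let C0 : C := ⟨c0, hc0, hc00, hc01⟩
  have hX0 : X C0 = N0 := by
    simp only [X, C0]
    rw [← hN, ← add_assoc, Dat.add_self, zero_add]
  have hfin : ∀ m, dir D (b m + N0) = dir D (t m) → m = Φ C0 := by
    intro m h
    rw [← hX0] at h
    obtain ⟨c, hc⟩ := hbij.2 ⟨m, hmem C0 m h⟩
    have hc' : Φ c = m := congrArg Subtype.val hc
    have := hinj c C0 m (hc' ▸ hΦ c) h
    rw [← hc', this]
  exact hij ((hfin i hiN).trans (hfin j hjN).symm)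

end Cfsg.Lib.BenderSuzuki.U3
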