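import Cfsg.Agent.BenderSuzuki.U3.MuData
import Cfsg.Agent.BenderSuzuki.U3.Closed
import Cfsg.Agent.BenderSuzuki.U3.Oval

/-!
The case `|Q| = q ^ 3`: when the units have their elements in `V` and the arc lies on one norm level, the
coordinates have the closed form of the unitary group.

With `b i = θ i ^ 2 * b₀` the relations of the units say that the scalar of `wi i` is `θ i ^ (-3)` and that
`θ i * bar (θ j) + bar (θ i) * θ j` is inverse to the determinant, so the rows are carried semilinearly to `E`.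
-/

set_option autoImplicit false
set_option linter.unusedSectionVars false

namespace Cfsg.Lib.BenderSuzuki.U3

open MulAction Cfsg.Lib.RankOne

universe u v

/-- The relation between the scalars at three units. -/
theorem three_rel {E : Type} [Field E] [CharP E 2] (bar : E →+* E) {x y z p r α ω : E}
    (hx : bar x * x = 1) (hy : bar y * y = 1) (hz : bar z * z = 1)
    (hαf : bar α = α) (hω : bar ω * ω = 1) (hne : y ≠ z) (h1 : x * x + z * z = α * ω * (y * y))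
    (h2 : x * x + y * y = α * ω⁻¹ * (z * z)) (hpr : ω * p = r) :
    z * y = x * x ∧ p * x ^ 3 = r * y ^ 3 ∧ x * bar y + bar x * y = α := by
  have h2z : (2 : E) = 0 := CharTwo.two_eq_zero
  have hx0 : x ≠ 0 := fun e => one_ne_zero (show (1 : E) = 0 by rw [← hx, e, mul_zero])
  have hy0 : y ≠ 0 := fun e => one_ne_zero (show (1 : E) = 0 by rw [← hy, e, mul_zero])
  have hz0 : z ≠ 0 := fun e => one_ne_zero (show (1 : E) = 0 by rw [← hz, e, mul_zero])
  have hω0 : ω ≠ 0 := fun e => one_ne_zero (show (1 : E) = 0 by rw [← hω, e, mul_zero])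
  have bx : bar x = x⁻¹ := eq_inv_of_mul_eq_one_left hx
  have by' : bar y = y⁻¹ := eq_inv_of_mul_eq_one_left hy
  have bz : bar z = z⁻¹ := eq_inv_of_mul_eq_one_left hz
  have bω : bar ω = ω⁻¹ := eq_inv_of_mul_eq_one_left hω
  have h2' : (x * x + y * y) * ω = α * (z * z) := by rw [h2]; field_simp
  have h1b : (x * x + z * z) * (y * y) * ω = α * (x * x * (z * z)) := by
    have e := congrArg bar h1
    simp only [map_add, map_mul, bx, by', bz, hαf, bω] at e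
    field_simp at e
    linear_combination e
  -- the product of each relation with its conjugate
  have e1 : (x * x + z * z) * (x * x + z * z) = α * α * (x * x * (z * z)) := by
    have hm : (x * x + z * z) * ((x * x + z * z) * (y * y) * ω) =
        (α * ω * (y * y)) * (α * (x * x * (z * z))) := by rw [h1b]; rw [h1]
    refine mul_right_cancel₀ (mul_ne_zero (mul_ne_zero hy0 hy0) hω0) ?_
    linear_combination hm
  have h2b : (x * x + y * y) * (z * z) = α * ω * (x * x * (y * y)) := by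
    have e := congrArg bar h2
    simp only [map_add, map_mul, map_inv₀, bx, by', bz, hαf, bω, inv_inv] at e
    field_simp at e
    linear_combination e
  have e2 : (x * x + y * y) * (x * x + y * y) = α * α * (x * x * (y * y)) := by
    have hm : ((x * x + y * y) * ω) * ((x * x + y * y) * (z * z)) =
        (α * (z * z)) * (α * ω * (x * x * (y * y))) := by rw [h2b, h2']
    refine mul_right_cancel₀ (mul_ne_zero (mul_ne_zero hz0 hz0) hω0) ?_
    linear_combination hm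
  have e1' : x * x + z * z = α * (x * z) :=
    CharTwo.add_eq_zero.1 (mul_self_eq_zero.1 (by linear_combination e1 + (α * α * (x * x * (z * z)) + (x * x + z * z) * (α * (x * z))) * h2z))
  have e2' : x * x + y * y = α * (x * y) :=
    CharTwo.add_eq_zero.1 (mul_self_eq_zero.1 (by linear_combination e2 + (α * α * (x * x * (y * y)) + (x * x + y * y) * (α * (x * y))) * h2z))
  have hzy : z * y = x * x := by
    have h : (z + y) * (x * x + z * y) = 0 := by
      linear_combination y * e1' + z * e2' + z * y * α * x * h2z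
    rcases mul_eq_zero.1 h with h | h
    · exact absurd (CharTwo.add_eq_zero.1 h).symm hne
    · exact (CharTwo.add_eq_zero.1 h).symm
  have hα0 : α ≠ 0 := by
    rintro rfl
    have hxy : x = y := CharTwo.add_eq_zero.1 (mul_self_eq_zero.1 (by linear_combination e2' + x * y * h2z))
    subst hxy
    exact hne (mul_right_cancel₀ hx0 hzy).symm
  refine ⟨hzy, ?_, ?_⟩
  · have hωe : x ^ 3 = ω * y ^ 3 := by
      have h : α * (x * z) = α * ω * (y * y) := e1'.symm.trans h1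
      refine mul_left_cancel₀ hα0 ?_
      linear_combination y * h - α * x * hzy
    rw [← hpr, hωe]; ring
  · rw [bx, by']
    field_simp
    linear_combination e2'

variable {G : Type u} {Ω : Type v} [Group G] [Finite G] [MulAction G Ω] {a : Ω} {t : G} {Q : Subgroup G}

namespace Frame

variable {F E : Type} [Field F] [Fintype F] [CharP F 2] [Field E] [Fintype E] [CharP E 2] (Fr : Frame Ω a t Q F E)

theorem act_centI_inv {w : G} (hw : w • a = a) {c : E} (hc : ∀ e, Fr.act w e = c * e) (hc0 : c ≠ 0) (e : E) :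
    Fr.act w⁻¹ e = c⁻¹ * e := by
  conv_lhs => rw [show e = c * (c⁻¹ * e) from (mul_inv_cancel_left₀ hc0 e).symm, ← hc]
  rw [Fr.act_inv_act hw]

theorem pp_inj {x y x' y' : F × F} (h : dt x y = 1) (h' : dt x' y' = 1) (e : Fr.pp x y = Fr.pp x' y') :
    x = x' ∧ y = y' := by
  rw [pp, dif_pos h, pp, dif_pos h'] at e
  have e' := Fr.P_injective e
  exact ⟨congrArg row₀ e', congrArg row₁ e'⟩

theorem dt_smul_pair {x y : F × F} (h : dt x y = 1) (l : Fˣ) :
    dt ((l : F) • x) (((l⁻¹ : Fˣ) : F) • y) = 1 := by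
  rw [dt_smul_left, dt_smul_right, h, mul_one, ← Units.val_mul, mul_inv_cancel, Units.val_one]

theorem exists_closed (M : Fr.MuData) (hw : ∀ i, Fr.wi i ∈ centI Ω a t)
    (hD : ∀ d ∈ twoStab Ω a t, ∃ (l : Fˣ) (w : G), w ∈ centI Ω a t ∧ d = Fr.kl l * w)
    (hN : ∀ i j, Fr.D.bar (Fr.bi i) * Fr.bi i = Fr.D.bar (Fr.bi j) * Fr.bi j) :
    ∃ A B : G → E, Closed Ω a t Q Fr.D A B := by
  classical
  have hS := Fr.input.setup
  have h2z : (2 : E) = 0 := CharTwo.two_eq_zero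
  -- the scalars of the units
  choose χ hχn _hχ1 hχ using fun i => Fr.act_centI (hw i)
  have hχ0 : ∀ i, χ i ≠ 0 := fun i e => one_ne_zero (show (1 : E) = 0 by rw [← hχn i, e, mul_zero])
  have hwa : ∀ i, Fr.wi i • a = a := fun i => Frame.W_a (Fr.wi_mem i)
  have hμ0 : Fr.ν (M.μ : F) ≠ 0 := (map_ne_zero Fr.ν).2 M.μ.ne_zero
  have hφ : ∀ i, Fr.φ i = χ i * (Fr.ν (M.μ : F) * Fr.bi i) := fun i => by rw [M.φ_eq i, hχ]
  -- the base unit
  obtain ⟨i₀, hi₀⟩ : ∃ i : Fr.Un, i.1 = r₀ := by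
    refine ⟨⟨r₀, by simp [r₀], ?_⟩, rfl⟩
    refine (Fr.Fl_wt_unique (l := 1) (w := 1) (one_mem _) ?_).1
    rw [mul_one]
    simpa using Fr.Pi_line (1 : Fˣ)
  have hwi₀ : Fr.wi i₀ = 1 := by
    show Fr.wt i₀.1 = 1
    rw [hi₀]
    refine (Fr.Fl_wt_unique (l := 1) (w := 1) (one_mem _) ?_).2
    rw [mul_one]
    simpa using Fr.Pi_line (1 : Fˣ)
  have hχ₀ : χ i₀ = 1 := by
    have h := hχ i₀ 1
    rw [hwi₀, Fr.act_one, mul_one] at h
    exact h.symm
  set b₀ := Fr.bi i₀ with hb₀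
  have hb₀0 : b₀ ≠ 0 := M.bi_ne i₀
  -- the square roots
  have hroot : ∀ c : E, ∃ s : E, s * s = c := fun c => by
    have : Fact (Nat.Prime 2) := ⟨Nat.prime_two⟩
    obtain ⟨s, hs⟩ := (PerfectRing.bijective_frobenius (R := E) (p := 2)).surjective c
    exact ⟨s, by rw [← pow_two]; exact hs⟩
  have hsqinj : ∀ {s r : E}, s * s = r * r → s = r := fun {s r} h =>
    CharTwo.add_eq_zero.1 (mul_self_eq_zero.1 (by linear_combination h + (r * r + s * r) * h2z))
  choose θ hθ using fun i => hroot (Fr.bi i * b₀⁻¹)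
  have hbθ : ∀ i, Fr.bi i = θ i * θ i * b₀ := fun i => by rw [hθ, inv_mul_cancel_right₀ hb₀0]
  have hθ0 : ∀ i, θ i ≠ 0 := fun i e => M.bi_ne i (by rw [hbθ, e, mul_zero, zero_mul])
  have hθn : ∀ i, Fr.D.bar (θ i) * θ i = 1 := by
    intro i
    refine hsqinj ?_
    have h := hN i i₀
    rw [hbθ i, map_mul, map_mul, ← hb₀] at h
    refine mul_right_cancel₀ (mul_ne_zero ((map_ne_zero Fr.D.bar).2 hb₀0) hb₀0) ?_
    linear_combination h
  have hθbar : ∀ i, Fr.D.bar (θ i) = (θ i)⁻¹ := fun i => eq_inv_of_mul_eq_one_left (hθn i)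
  have hθ₀ : θ i₀ = 1 := hsqinj (by rw [hθ, ← hb₀, mul_inv_cancel₀ hb₀0, one_mul])
  -- the relations of three units
  have hσw : ∀ i j (x : F), Fr.σ (Fr.wi i * (Fr.wi j)⁻¹) x = x := fun i j x =>
    Fr.σ_of_mem_centI (mul_mem (hw i) (inv_mem (hw j))) x
  have hrhs : ∀ i j, Fr.act (Fr.wi i)⁻¹ (Fr.ν (dt i.1 j.1)⁻¹ * Fr.φ j) =
      Fr.ν ((M.μ : F) * (dt i.1 j.1)⁻¹) * (χ j * (χ i)⁻¹) * Fr.bi j := fun i j => by
    rw [Fr.act_centI_inv (hwa i) (hχ i) (hχ0 i), hφ, map_mul]; ring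
  have hkey : ∀ i j k : Fr.Un, j ≠ i → k ≠ j →
      Fr.wi k * (Fr.wi i)⁻¹ = Fr.wi i * (Fr.wi j)⁻¹ →
      dt i.1 k.1 = Fr.σ (Fr.wi i * (Fr.wi j)⁻¹) (dt i.1 j.1) →
      Fr.bi i + Fr.bi k = Fr.act (Fr.wi i)⁻¹ (Fr.ν (dt i.1 j.1)⁻¹ * Fr.φ j) →
      Fr.bi i + Fr.bi j = Fr.act (Fr.wi i)⁻¹ (Fr.ν (dt i.1 k.1)⁻¹ * Fr.φ k) →
      θ i ≠ θ j ∧ θ k * θ j = θ i * θ i ∧ χ i * θ i ^ 3 = χ j * θ j ^ 3 ∧
        θ i * Fr.D.bar (θ j) + Fr.D.bar (θ i) * θ j = Fr.ν ((M.μ : F) * (dt i.1 j.1)⁻¹) := by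
    intro i j k hji hkj hwk hd h3 h4
    rw [hσw] at hd
    rw [hrhs] at h3 h4
    rw [hd] at h4
    set α := Fr.ν ((M.μ : F) * (dt i.1 j.1)⁻¹) with hα
    have hα0 : α ≠ 0 := (map_ne_zero Fr.ν).2 (mul_ne_zero M.μ.ne_zero (inv_ne_zero (Un.dt_ne Fr hji.symm)))
    set ω := χ j * (χ i)⁻¹ with hω
    have hωk : χ k * (χ i)⁻¹ = ω⁻¹ := by
      have h1 : Fr.act (Fr.wi k * (Fr.wi i)⁻¹) 1 = χ k * (χ i)⁻¹ := by
        rw [Fr.act_mul (hwa k) (inv_smul_eq_iff.2 (hwa i).symm), Fr.act_centI_inv (hwa i) (hχ i) (hχ0 i), hχ,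
          mul_one]
      rw [hwk, Fr.act_mul (hwa i) (inv_smul_eq_iff.2 (hwa j).symm), Fr.act_centI_inv (hwa j) (hχ j) (hχ0 j), hχ,
        mul_one] at h1
      rw [← h1, hω, _root_.mul_inv_rev, inv_inv]
    rw [hωk] at h4
    have hne : θ i ≠ θ j := fun e => by
      have hb : Fr.bi i + Fr.bi j = 0 := by rw [hbθ i, hbθ j, e, CharTwo.add_self_eq_zero]
      rw [hb] at h4
      exact mul_ne_zero (mul_ne_zero hα0 (inv_ne_zero (mul_ne_zero (hχ0 j) (inv_ne_zero (hχ0 i)))))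
        (M.bi_ne k) h4.symm
    have hnkj : θ j ≠ θ k := by
      intro e
      obtain ⟨l, hlj, -, -, -, -, hl⟩ := Fr.step hkj
      have hb : Fr.bi j + Fr.bi k = 0 := by rw [hbθ j, hbθ k, e, CharTwo.add_self_eq_zero]
      rw [hb, hrhs] at hl
      exact mul_ne_zero (mul_ne_zero ((map_ne_zero Fr.ν).2 (mul_ne_zero M.μ.ne_zero
        (inv_ne_zero (Un.dt_ne Fr hlj.symm)))) (mul_ne_zero (hχ0 l) (inv_ne_zero (hχ0 j)))) (M.bi_ne l) hl.symm
    rw [hbθ i, hbθ j, hbθ k] at h3 h4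
    have h3' : θ i * θ i + θ k * θ k = α * ω * (θ j * θ j) :=
      mul_right_cancel₀ hb₀0 (by linear_combination h3)
    have h4' : θ i * θ i + θ j * θ j = α * ω⁻¹ * (θ k * θ k) :=
      mul_right_cancel₀ hb₀0 (by linear_combination h4)
    have hωn : Fr.D.bar ω * ω = 1 := by
      rw [hω, map_mul, map_inv₀, mul_mul_mul_comm, hχn, ← mul_inv, hχn, inv_one, one_mul]
    refine ⟨hne, three_rel Fr.D.bar (hθn i) (hθn j) (hθn k) (Fr.ν_fix _) hωn hnkj h3' h4'
      (by rw [hω, inv_mul_cancel_right₀ (hχ0 i)])⟩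
  have hpair : ∀ i j : Fr.Un, j ≠ i → θ i ≠ θ j ∧ χ i * θ i ^ 3 = χ j * θ j ^ 3 ∧
      θ i * Fr.D.bar (θ j) + Fr.D.bar (θ i) * θ j = Fr.ν ((M.μ : F) * (dt i.1 j.1)⁻¹) := fun i j hji => by
    obtain ⟨k, -, hkj, hwk, hd, h3, h4⟩ := Fr.step hji
    exact ⟨(hkey i j k hji hkj hwk hd h3 h4).1, (hkey i j k hji hkj hwk hd h3 h4).2.2⟩
  have hθinj : Function.Injective θ := fun i j e => by
    by_contra h
    exact (hpair i j (Ne.symm h)).1 e
  have hχθ : ∀ i, χ i = (θ i ^ 3)⁻¹ := by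
    intro i
    refine eq_inv_of_mul_eq_one_left ?_
    rcases eq_or_ne i i₀ with rfl | h
    · rw [hχ₀, hθ₀, one_pow, one_mul]
    · rw [(hpair i i₀ (Ne.symm h)).2.1, hχ₀, hθ₀, one_pow, one_mul]
  -- the coordinate of a row
  let cst : E := Fr.ν (M.μ : F) * b₀
  have hcst : cst ≠ 0 := mul_ne_zero hμ0 hb₀0
  obtain ⟨z, hz⟩ : ∃ z : F × F → E, ∀ x, z x = cst * (Fr.Φ x)⁻¹ := ⟨_, fun _ => rfl⟩
  let g : F → E := fun c => Fr.ν c⁻¹
  have hg0 : g 0 = 0 := by show Fr.ν (0 : F)⁻¹ = 0; rw [inv_zero, map_zero]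
  have hg1 : g 1 = 1 := by show Fr.ν (1 : F)⁻¹ = 1; rw [inv_one, map_one]
  have hgm : ∀ c e, g (c * e) = g c * g e := fun c e => by show Fr.ν (c * e)⁻¹ = _; rw [mul_inv, map_mul]
  have hgne : ∀ {c}, c ≠ 0 → g c ≠ 0 := fun hc => (map_ne_zero Fr.ν).2 (inv_ne_zero hc)
  have hgf : ∀ c, Fr.D.bar (g c) = g c := fun c => Fr.ν_fix _
  have hzs : ∀ c x, z (c • x) = g c * z x := fun c x => by
    rw [hz, hz]
    show cst * _ = Fr.ν c⁻¹ * (cst * _)
    rw [Fr.Φ_smul, mul_inv, map_inv₀]; ring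
  have hz0 : z 0 = 0 := by rw [hz, Fr.Φ_zero, inv_zero, mul_zero]
  have hzne : ∀ {x}, x ≠ 0 → z x ≠ 0 := fun hx => by rw [hz]; exact mul_ne_zero hcst (inv_ne_zero (Fr.Φ_ne hx))
  have hzu : ∀ i : Fr.Un, z i.1 = θ i := by
    intro i
    rw [hz]
    show cst * (Fr.φ i)⁻¹ = θ i
    rw [hφ i, hχθ i, hbθ i]
    have := hθ0 i
    show Fr.ν (M.μ : F) * b₀ * _ = _
    field_simp
  let f : E → E → E := fun x y => x * Fr.D.bar y + Fr.D.bar x * y
  have hff : ∀ x, f x x = 0 := fun x => by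
    show x * _ + _ = 0; rw [mul_comm (Fr.D.bar x) x, CharTwo.add_self_eq_zero]
  have hdec : ∀ e x y, f x y * e = f e y * x + f x e * y := fun e x y => by
    show (x * _ + _) * e = (e * _ + _) * x + (x * _ + _) * y
    linear_combination -(Fr.D.bar e * x * y) * h2z
  have hdecomp : ∀ x : F × F, x ≠ 0 → ∃ (c : F) (i : Fr.Un), x = c • i.1 := fun x hx =>
    ⟨(Fr.Fl x : F), Fr.unit x hx, by
      show x = (Fr.Fl x : F) • (((Fr.Fl x)⁻¹ : Fˣ) : F) • x
      rw [smul_smul, ← Units.val_mul, mul_inv_cancel, Units.val_one, one_smul]⟩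
  have hH : ∀ x y, f (z x) (z y) = Fr.ν (M.μ : F) * g (dt x y) := by
    intro x y
    have z1 : ∀ u, f 0 u = 0 := fun u => by show _ + _ = _; rw [map_zero, zero_mul, zero_mul, add_zero]
    have z2 : ∀ u, f u 0 = 0 := fun u => by show _ + _ = _; rw [map_zero, mul_zero, mul_zero, add_zero]
    by_cases hx : x = 0
    · rw [hx, hz0, z1, show dt (0 : F × F) y = 0 by simp [dt], hg0, mul_zero]
    by_cases hy : y = 0
    · rw [hy, hz0, z2, show dt x (0 : F × F) = 0 by simp [dt], hg0, mul_zero]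
    obtain ⟨c, i, rfl⟩ := hdecomp x hx
    obtain ⟨e, j, rfl⟩ := hdecomp y hy
    have hs : f (g c * θ i) (g e * θ j) = g c * g e * f (θ i) (θ j) := by
      show g c * θ i * Fr.D.bar (g e * θ j) + Fr.D.bar (g c * θ i) * (g e * θ j) = _ * (_ + _)
      rw [map_mul, map_mul, hgf, hgf]; ring
    rw [hzs, hzs, hzu, hzu, hs, dt_smul_left, dt_smul_right, hgm, hgm]
    rcases eq_or_ne j i with rfl | hji
    · rw [hff, dt_self, hg0]; ring
    · rw [show f (θ i) (θ j) = _ from (hpair i j hji).2.2, map_mul]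
      show _ = Fr.ν _ * (g c * (g e * Fr.ν (dt i.1 j.1)⁻¹))
      ring
  have hlin : ∀ (c e : F) (x y : F × F), dt x y ≠ 0 → z (c • x + e • y) = g c * z x + g e * z y := by
    intro c e x y hxy
    have h := hdec (z (c • x + e • y)) (z x) (z y)
    rw [hH, hH, hH, dt_add_left, dt_add_right, dt_smul_left, dt_smul_left, dt_smul_right, dt_smul_right, dt_self,
      dt_self, mul_zero, mul_zero, add_zero, zero_add, hgm, hgm] at h
    refine mul_left_cancel₀ (mul_ne_zero hμ0 (hgne hxy)) ?_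
    linear_combination h
  have hga : ∀ c e, g (c + e) = g c + g e := by
    intro c e
    have hx : dt ((1, 0) : F × F) (0, 1) = 1 := by simp [dt]
    have hne : dt ((1, 0) : F × F) (0, 1) ≠ 0 := by rw [hx]; exact one_ne_zero
    have hne' : dt ((1, 0) : F × F) ((1, 0) + (0, 1)) ≠ 0 := by
      rw [dt_add_right, dt_self, zero_add]; exact hne
    have h1 := hlin c e _ _ hne'
    have h2 := hlin (c + e) e _ _ hne
    have h3 := hlin 1 1 _ _ hne
    rw [one_smul, one_smul, hg1, one_mul, one_mul] at h3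
    rw [show c • ((1, 0) : F × F) + e • ((1, 0) + (0, 1)) = (c + e) • (1, 0) + e • (0, 1) by
      rw [smul_add, add_smul, add_assoc], h2, h3] at h1
    exact mul_right_cancel₀ (hzne (dt_ne_left hne)) (by linear_combination h1)
  have hza : ∀ x y, z (x + y) = z x + z y := by
    intro x y
    by_cases hy : y = 0
    · rw [hy, add_zero, hz0, add_zero]
    by_cases h : dt x y = 0
    · obtain ⟨c, rfl⟩ := exists_smul_of_dt hy h
      nth_rw 2 [← one_smul F y]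
      rw [← add_smul, hzs, hzs, hga, hg1]; ring
    · have := hlin 1 1 x y h
      rwa [one_smul, one_smul, hg1, one_mul, one_mul] at this
  -- the two coordinates
  obtain ⟨s₀, hs₀f, hs₀⟩ := Fr.D.exists_sqrt (Fr.ν_fix (M.μ : F))
  have hs₀0 : s₀ ≠ 0 := fun e => hμ0 (by rw [← hs₀, e, mul_zero])
  let A : G → E := fun p => s₀ * cst⁻¹ * Fr.ca p
  let B : G → E := fun p =>
    if h : ∃ x y : F × F, dt x y = 1 ∧ Fr.pp x y = p then z h.choose * (z h.choose_spec.choose)⁻¹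
    else if h : ∃ c, Fr.zc c = p then g h.choose else 0
  have hzc2 : ∀ (c : F) (x y : F × F), dt x y = 1 → Fr.pp x y ≠ Fr.zc c := fun c x y h e =>
    Fr.pp_sq h (by rw [e, Fr.coord.zc_sq])
  have hBpp : ∀ {x y : F × F}, dt x y = 1 → B (Fr.pp x y) = z x * (z y)⁻¹ := by
    intro x y h
    have he : ∃ x' y' : F × F, dt x' y' = 1 ∧ Fr.pp x' y' = Fr.pp x y := ⟨x, y, h, rfl⟩
    show dite _ _ _ = _
    rw [dif_pos he]
    obtain ⟨h1, h2⟩ := he.choose_spec.choose_spec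
    obtain ⟨e1, e2⟩ := Fr.pp_inj h1 h h2
    rw [e2, e1]
  have hBzc : ∀ c, B (Fr.zc c) = g c := by
    intro c
    have he : ∃ c', Fr.zc c' = Fr.zc c := ⟨c, rfl⟩
    show dite _ _ _ = _
    rw [dif_neg (fun h => hzc2 c _ _ h.choose_spec.choose_spec.1 h.choose_spec.choose_spec.2), dif_pos he,
      Fr.coord.zc_inj he.choose_spec]
  have hApp : ∀ {x y : F × F}, dt x y = 1 → A (Fr.pp x y) = s₀ * (z y)⁻¹ := by
    intro x y h
    show s₀ * cst⁻¹ * Fr.ca _ = _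
    rw [Fr.ca_pp h, hz]
    simp only [_root_.mul_inv_rev, inv_inv]
    ring
  have hAzc : ∀ c, A (Fr.zc c) = 0 := fun c => by show _ * Fr.ca _ = 0; rw [Fr.ca_zc, mul_zero]
  have hcases : ∀ p ∈ Q, (∃ c, p = Fr.zc c) ∨ ∃ x y : F × F, dt x y = 1 ∧ p = Fr.pp x y := by
    intro p hp
    by_cases h : p * p = 1
    · obtain ⟨c, hc⟩ := (Fr.coord.mem_range p).2 ⟨hp, h⟩
      exact Or.inl ⟨c, hc.symm⟩
    · obtain ⟨x, y, hxy, e⟩ := Fr.pp_surj hp h
      exact Or.inr ⟨x, y, hxy, e.symm⟩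
  have hzy0 : ∀ {x y : F × F}, dt x y = 1 → z x ≠ 0 ∧ z y ≠ 0 := fun h =>
    ⟨hzne (dt_ne_left (by rw [h]; exact one_ne_zero)), hzne (dt_ne_right (by rw [h]; exact one_ne_zero))⟩
  have hBcen : ∀ (c : F), ∀ p ∈ Q, B (Fr.zc c * p) = g c + B p := by
    intro c p hp
    rcases hcases p hp with ⟨e, rfl⟩ | ⟨x, y, hxy, rfl⟩
    · rw [← Fr.coord.zc_add, hBzc, hBzc, hga]
    · have h' : dt (x + c • y) y = 1 := by rw [dt_add_left, dt_smul_left, dt_self, mul_zero, add_zero, hxy]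
      rw [← Fr.pp_add hxy, hBpp h', hBpp hxy, hza, hzs, add_mul, mul_assoc, mul_inv_cancel₀ (hzy0 hxy).2,
        mul_one, add_comm]
  have hBtr : ∀ p ∈ Q, B p + Fr.D.bar (B p) = Fr.D.bar (A p) * A p := by
    intro p hp
    rcases hcases p hp with ⟨c, rfl⟩ | ⟨x, y, hxy, rfl⟩
    · rw [hBzc, hAzc, hgf, CharTwo.add_self_eq_zero, mul_zero]
    · have hb : Fr.D.bar (z y) ≠ 0 := (map_ne_zero Fr.D.bar).2 (hzy0 hxy).2
      have hy0 := (hzy0 hxy).2
      have e : z x * Fr.D.bar (z y) + Fr.D.bar (z x) * z y = Fr.ν (M.μ : F) := by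
        have := hH x y
        rwa [hxy, hg1, mul_one] at this
      rw [hBpp hxy, hApp hxy, map_mul, map_mul, map_inv₀, hs₀f]
      field_simp
      linear_combination e - hs₀
  -- conjugation by inverted elements
  have hkl : ∀ (l : Fˣ), ∀ p ∈ Q, A (Fr.kl l * p * (Fr.kl l)⁻¹) = g l * A p ∧
      B (Fr.kl l * p * (Fr.kl l)⁻¹) = g l * g l * B p := by
    intro l p hp
    refine ⟨?_, ?_⟩
    · show _ * Fr.ca _ = _ * (_ * Fr.ca p)
      rw [← Fr.ca_kl l p hp]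
      have : g l * Fr.ν (l : F) = 1 := by
        show Fr.ν _ * _ = 1; rw [← map_mul, inv_mul_cancel₀ l.ne_zero, map_one]
      linear_combination -(s₀ * cst⁻¹ * Fr.ca (Fr.kl l * p * (Fr.kl l)⁻¹)) * this
    · rcases hcases p hp with ⟨c, rfl⟩ | ⟨x, y, hxy, rfl⟩
      · rw [Fr.coord.kl_zc, hBzc, hBzc, hgm, hgm]
      · rw [← Fr.pp_smul hxy, hBpp (dt_smul_pair hxy l), hBpp hxy, hzs, hzs, mul_inv, Units.val_inv_eq_inv_val,
          show g (l : F)⁻¹ = Fr.ν (l : F) by show Fr.ν _ = _; rw [inv_inv]]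
        show _ = _
        rw [show (Fr.ν (l : F))⁻¹ = g l from (map_inv₀ Fr.ν _).symm]
        ring
  -- conjugation by elements of `V`
  have hV : ∀ w ∈ centI Ω a t, ∀ c : E, (∀ e, Fr.act w e = c * e) →
      ∀ p ∈ Q, A (w * p * w⁻¹) = c * A p ∧ B (w * p * w⁻¹) = B p := by
    intro w hwI c hc p hp
    have hwD : w ∈ twoStab Ω a t := (Subgroup.mem_inf.1 hwI).1
    have hwa' : w • a = a := (Subgroup.mem_inf.1 hwD).1
    have hca : ∀ r ∈ Q, Fr.ca (w * r * w⁻¹) = c * Fr.ca r := fun r hr => by rw [← Fr.act_ca hwa' hr, hc]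
    refine ⟨?_, ?_⟩
    · show _ * Fr.ca _ = _ * (_ * Fr.ca p); rw [hca p hp]; ring
    rcases hcases p hp with ⟨e, rfl⟩ | ⟨x, y, hxy, rfl⟩
    · congr 1
      rw [Fr.σ_zc (centI_le_centT (hS := hS) hwI), Fr.σ_of_mem_centI hwI]
    · have hmem := hS.conj_mem w hwa' _ hp
      obtain ⟨x', y', hxy', e⟩ := Fr.pp_surj hmem (fun h => Fr.pp_sq hxy (conj_eq_one_iff.1 (by
        rw [← h]; group : w * (Fr.pp x y * Fr.pp x y) * w⁻¹ = 1)))
      have ey : Fr.Φ y' = c * Fr.Φ y := by rw [← Fr.ca_pp hxy', e, hca _ hp, Fr.ca_pp hxy]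
      have hyx := (dt_comm y x).trans hxy
      have ex : Fr.Φ x' = c * Fr.Φ x := by
        rw [← Fr.ca_pp ((dt_comm y' x').trans hxy'), Fr.pp_swap hxy', e,
          (Fr.input.fh_conj hp (Fr.pp_ne hxy) hwD).1, Fr.w_t (centI_le_centT (hS := hS) hwI),
          ← Fr.pp_swap hxy, hca _ (Fr.pp_mem hyx), Fr.ca_pp hyx]
      have hc0 : c ≠ 0 := fun h0 => Fr.Φ_ne (dt_ne_right (by rw [hxy']; exact one_ne_zero)) (by
        rw [ey, h0, zero_mul])
      rw [← e, hBpp hxy', hBpp hxy]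
      rw [hz, hz, hz, hz, ey, ex]
      field_simp
  refine ⟨A, B, ?_⟩
  refine
    { input := Fr.input
      q_eq := Fr.q_eq
      A_mul := fun p hp r hr => by show _ * Fr.ca _ = _ + _; rw [Fr.ca_mul p hp r hr, mul_add]
      A_zero_iff := fun p hp => by
        rw [← Fr.ca_zero_iff p hp]
        show _ * Fr.ca p = 0 ↔ _
        rw [mul_eq_zero, or_iff_right (mul_ne_zero hs₀0 (inv_ne_zero hcst))]
      A_surj := fun e => by
        obtain ⟨p, hp, h⟩ := Fr.ca_surj ((s₀ * cst⁻¹)⁻¹ * e)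
        exact ⟨p, hp, by show _ * Fr.ca p = e; rw [h, mul_inv_cancel_left₀ (mul_ne_zero hs₀0 (inv_ne_zero hcst))]⟩
      B_zero_iff := ?_
      B_trace := hBtr
      B_central := fun x hx hx2 p hp => by
        obtain ⟨c, rfl⟩ := (Fr.coord.mem_range x).2 ⟨hx, hx2⟩
        rw [hBcen c p hp, hBzc]
      B_inv := ?_
      torus := ?_
      torus_fixed := ?_
      torus_cube := ?_
      swap := ?_
      delta := ?_ }
  · intro p hp
    refine ⟨fun h => ?_, fun h => by rw [h, ← Fr.coord.zc_zero, hBzc, hg0]⟩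
    rcases hcases p hp with ⟨c, rfl⟩ | ⟨x, y, hxy, rfl⟩
    · rw [hBzc] at h
      rw [show c = 0 from not_not.1 fun hc => hgne hc h, Fr.coord.zc_zero]
    · rw [hBpp hxy] at h
      exact absurd h (mul_ne_zero (hzy0 hxy).1 (inv_ne_zero (hzy0 hxy).2))
  · -- at units first, then on every line
    have hu : ∀ (T : F × F) (i : Fr.Un), dt T i.1 = 1 →
        B (Fr.pp T i.1)⁻¹ = Fr.D.bar (B (Fr.pp T i.1)) := by
      intro T i hT
      obtain ⟨j, hji, rfl⟩ := Fr.top_eq hT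
      have hp := Fr.pp_mem hT
      obtain ⟨c, hc⟩ := Fr.exists_zc_of_ca_eq (inv_mem hp) hp (Fr.ca_inv hp)
      have hc0 : c ≠ 0 := fun e => Fr.pp_sq hT (by
        rw [e, Fr.coord.zc_zero, one_mul] at hc
        nth_rw 1 [← hc]
        exact inv_mul_cancel _)
      rw [← Fr.pp_add hT] at hc
      have hT' : dt ((dt i.1 j.1)⁻¹ • j.1 + c • i.1) i.1 = 1 := by
        rw [dt_add_left, hT, dt_smul_left, dt_self, mul_zero, add_zero]
      obtain ⟨k, hki, he⟩ := Fr.top_eq hT'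
      rw [he] at hc hT'
      have hkj : k ≠ j := by
        rintro rfl
        rw [add_eq_left, smul_eq_zero] at he
        exact he.elim hc0 (Un.ne Fr i)
      obtain ⟨h1, h2, h3⟩ := Fr.pair_rel hji hki hc
      obtain ⟨-, -, h4⟩ := Fr.pair_rel hki hji (by rw [← hc, inv_inv])
      obtain ⟨-, hkθ, -, -⟩ := hkey i j k hji hkj h1 h2 h3 h4
      rw [hσw] at h2
      rw [hc, hBpp hT', hBpp hT, hzs, hzs, h2, hzu, hzu, hzu, map_mul, map_mul, hgf, map_inv₀, hθbar, hθbar]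
      have := hθ0 i
      have := hθ0 j
      generalize g (dt i.1 j.1)⁻¹ = γ
      field_simp
      linear_combination γ * hkθ
    intro p hp
    rcases hcases p hp with ⟨c, rfl⟩ | ⟨x, y, hxy, rfl⟩
    · rw [inv_eq_of_mul_eq_one_right (Fr.coord.zc_sq c), hBzc, hgf]
    · obtain ⟨c, i, rfl⟩ := hdecomp y (dt_ne_right (by rw [hxy]; exact one_ne_zero))
      have hc : c ≠ 0 := by
        rintro rfl; rw [zero_smul] at hxy; simp [dt] at hxy
      let l : Fˣ := Units.mk0 c hc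
      have hT : dt (c • x) i.1 = 1 := by rw [dt_smul_left, ← dt_smul_right]; exact hxy
      have e : Fr.pp x (c • i.1) = Fr.kl l⁻¹ * Fr.pp (c • x) i.1 * (Fr.kl l⁻¹)⁻¹ := by
        rw [← Fr.pp_smul hT, inv_inv, smul_smul, Units.val_inv_eq_inv_val, show (l : F) = c from rfl,
          inv_mul_cancel₀ hc, one_smul]
      rw [e, show (Fr.kl l⁻¹ * Fr.pp (c • x) i.1 * (Fr.kl l⁻¹)⁻¹)⁻¹ =
        Fr.kl l⁻¹ * (Fr.pp (c • x) i.1)⁻¹ * (Fr.kl l⁻¹)⁻¹ by group, (hkl _ _ (inv_mem (Fr.pp_mem hT))).2,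
        (hkl _ _ (Fr.pp_mem hT)).2, hu _ _ hT, map_mul, map_mul, hgf]
  · intro d hd
    obtain ⟨l, w, hwI, rfl⟩ := hD d hd
    obtain ⟨c, hcn, -, hc⟩ := Fr.act_centI hwI
    refine ⟨g l * c, mul_ne_zero (hgne l.ne_zero)
      (fun e => one_ne_zero (show (1 : E) = 0 by rw [← hcn, e, mul_zero])), fun p hp => ?_⟩
    have hp' : w * p * w⁻¹ ∈ Q := hS.conj_mem w (Subgroup.mem_inf.1 (Subgroup.mem_inf.1 hwI).1).1 _ hp
    obtain ⟨a1, b1⟩ := hkl l _ hp'
    obtain ⟨a2, b2⟩ := hV w hwI c hc p hp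
    rw [show Fr.kl l * w * p * (Fr.kl l * w)⁻¹ = Fr.kl l * (w * p * w⁻¹) * (Fr.kl l)⁻¹ by group]
    refine ⟨by rw [a1, a2, mul_assoc], ?_⟩
    rw [b1, b2, map_mul, hgf]
    linear_combination -(g l * g l * B p) * hcn
  · intro e he hef
    obtain ⟨c, rfl⟩ := Fr.ν_surj e hef
    have hc : c ≠ 0 := fun h => he (by rw [h, map_zero])
    refine ⟨Fr.kl (Units.mk0 c hc)⁻¹, Fr.coord.kl_D _, fun p hp => ?_⟩
    rw [(hkl _ p hp).1]
    congr 1
    show Fr.ν _ = _
    rw [Units.val_inv_eq_inv_val, Units.val_mk0, inv_inv]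
  · intro l hl
    have hb : Function.Bijective (fun i => (⟨θ i, hθn i⟩ : {d : E // Fr.D.bar d * d = 1})) := by
      refine Function.Injective.bijective_of_nat_card_le (fun i j h => hθinj (congrArg Subtype.val h)) ?_
      rw [card_norm_one Fr.D, Nat.card_eq_fintype_card, Fr.card_Un]
    have hl' : Fr.D.bar l⁻¹ * l⁻¹ = 1 := by rw [map_inv₀, ← mul_inv, hl, inv_one]
    obtain ⟨i, hi⟩ := hb.2 ⟨l⁻¹, hl'⟩
    refine ⟨Fr.wi i, (Subgroup.mem_inf.1 (hw i)).1, fun p hp => ?_⟩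
    rw [(hV _ (hw i) _ (hχ i) p hp).1, hχθ i, show θ i = l⁻¹ from congrArg Subtype.val hi, inv_pow, inv_inv]
  · intro p hp hp1 r hr he
    have hrf : r = Fr.input.f p := Fr.input.pts_inj hr (Fr.input.f_mem hp hp1) (by rw [← he, Fr.input.f_pt hp hp1])
    rcases hcases p hp with ⟨c, rfl⟩ | ⟨x, y, hxy, rfl⟩
    · have hc : c ≠ 0 := fun h => hp1 (by rw [h, Fr.coord.zc_zero])
      have h := (Fr.fh_zc (Units.mk0 c hc)).1
      rw [Units.val_mk0] at h
      rw [hrf, h, hAzc, hAzc, hBzc, hBzc, Units.val_inv_eq_inv_val, Units.val_mk0, zero_div, one_div]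
      refine ⟨rfl, ?_⟩
      show Fr.ν _ = (Fr.ν _)⁻¹
      rw [map_inv₀]
    · have hyx := (dt_comm y x).trans hxy
      rw [hrf, ← Fr.pp_swap hxy, hApp hyx, hApp hxy, hBpp hyx, hBpp hxy]
      have := (hzy0 hxy).1
      have := (hzy0 hxy).2
      constructor <;> field_simp
  · refine ⟨Fr.v, Fr.ε, (Subgroup.mem_inf.1 Fr.v_mem).1, Fr.ε_ne, Fr.ε_norm, fun p hp => ?_⟩
    obtain ⟨a2, b2⟩ := hV Fr.v Fr.v_mem Fr.ε Fr.act_v p hp
    refine ⟨a2, b2, ?_⟩
    by_cases he : Fr.ca p = 0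
    · refine ⟨0, map_zero _, ?_⟩
      obtain ⟨c, rfl⟩ := (Fr.coord.mem_range p).2 ⟨hp, (Fr.ca_zero_iff p hp).1 he⟩
      rw [(Fr.v_comm_zc c).eq, mul_inv_cancel_right, inv_mul_cancel, zero_mul, ← Fr.coord.zc_zero, hBzc, hg0]
    · rw [Fr.δh_eq hp]
      have hm := Fr.δh_mem (Fr.ca p)
      rcases hcases _ hm with ⟨c, hc⟩ | ⟨x, y, hxy, hd⟩
      · exfalso
        have h := Fr.ca_δh (Fr.ca p)
        rw [hc, Fr.ca_zc] at h
        exact mul_ne_zero Fr.one_add_ε_ne he h.symm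
      · obtain ⟨c, hc0, hc⟩ := M.Bf_line _ he
        have ey : Fr.Φ y = (1 + Fr.ε) * Fr.ca p := by rw [← Fr.ca_pp hxy, ← hd, Fr.ca_δh]
        have ex : Fr.Φ x = Fr.ν c * Fr.ca p := by
          rw [← Fr.ca_pp ((dt_comm y x).trans hxy), Fr.pp_swap hxy, ← hd]; exact hc
        refine ⟨(Fr.ν c)⁻¹, by rw [map_inv₀, Fr.ν_fix], ?_⟩
        rw [hd, hBpp hxy]
        rw [hz, hz, ey, ex]
        have := (map_ne_zero Fr.ν).2 hc0
        have := Fr.one_add_ε_ne
        field_simp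

end Frame

end Cfsg.Lib.BenderSuzuki.U3
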