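import Mathlib
import Cfsg.Agent.UnitaryThreeEven.Model
import Cfsg.Agent.Classical.Unitary.Matrix

/-!
A large simple subgroup of the projective general unitary group of degree three is the projective special one.
-/

set_option autoImplicit false
set_option linter.style.haveILetI false

namespace Cfsg.Lib.BenderSuzuki.U3

open Cfsg.Lib
open scoped commutatorElement

theorem center_map {A B : Type*} [Group A] [Group B] (e : A ≃* B) :
    (Subgroup.center A).map (e : A →* B) = Subgroup.center B := by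
  ext g
  simp only [Subgroup.mem_map, Subgroup.mem_center_iff]
  constructor
  · rintro ⟨a, ha, rfl⟩ g
    obtain ⟨b, rfl⟩ := e.surjective g
    show e b * e a = e a * e b
    rw [← map_mul, ← map_mul, ha]
  · intro hg
    refine ⟨e.symm g, fun b => e.injective ?_, e.apply_symm_apply g⟩
    rw [map_mul, map_mul, MulEquiv.apply_symm_apply, hg]

theorem iso_psu_of_embedding {E : Type} [Field E] [Fintype E] [CharP E 2] (D : UThreeEven.Dat E) {H : Type*}
    [Group H] [Finite H] [IsSimpleGroup H] (hnc : ∃ x y : H, x * y ≠ y * x) (ψ : H →* UThreeEven.Model.PJ D)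
    (hψ : Function.Injective ψ)
    (hcard : D.q ^ 3 * (D.q ^ 3 + 1) * (D.q ^ 2 - 1) ≤ Nat.gcd 3 (D.q + 1) * Nat.card H) :
    Nonempty (H ≃* Cfsg.PSU 3 E D.q) := by
  classical
  obtain ⟨e⟩ := UThreeEven.Model.exists_equiv_GU D
  let ψ₁ : H →* Cfsg.GU 3 E D.q ⧸ Subgroup.center (Cfsg.GU 3 E D.q) :=
    (QuotientGroup.congr _ _ e (center_map e)).toMonoidHom.comp ψ
  have hψ₁ : Function.Injective ψ₁ := fun a b h =>
    hψ ((QuotientGroup.congr _ _ e (center_map e)).injective h)
  set Zc := Subgroup.center (Cfsg.GU 3 E D.q) with hZc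
  let ι : Cfsg.SU 3 E D.q →* Cfsg.GU 3 E D.q :=
    (Matrix.SpecialLinearGroup.toGL.comp (Cfsg.SU 3 E D.q).subtype).codRestrict _ (fun A => A.2)
  have hι : Function.Injective ι := fun A B h => Subtype.ext (Subtype.ext (by
    exact congrArg (fun z : Cfsg.GU 3 E D.q => ((z : GL (Fin 3) E) : Matrix (Fin 3) (Fin 3) E)) h :))
  let f : Cfsg.SU 3 E D.q →* Cfsg.GU 3 E D.q ⧸ Zc := (QuotientGroup.mk' Zc).comp ι
  have hcomm : commutator (Cfsg.GU 3 E D.q ⧸ Zc) ≤ f.range := by
    rw [commutator_def, Subgroup.commutator_le]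
    intro x _ y _
    obtain ⟨a, rfl⟩ := QuotientGroup.mk'_surjective Zc x
    obtain ⟨b, rfl⟩ := QuotientGroup.mk'_surjective Zc y
    have hd : ((⁅a, b⁆ : Cfsg.GU 3 E D.q) : GL (Fin 3) E).val.det = 1 := by
      rw [← Matrix.GeneralLinearGroup.val_det_apply,
        show Matrix.GeneralLinearGroup.det ((⁅a, b⁆ : Cfsg.GU 3 E D.q) : GL (Fin 3) E) = 1 by
          show (Matrix.GeneralLinearGroup.det.comp (Cfsg.GU 3 E D.q).subtype) ⁅a, b⁆ = 1
          rw [map_commutatorElement]
          exact commutatorElement_eq_one_iff_mul_comm.2 (mul_comm _ _), Units.val_one]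
    refine ⟨⟨⟨_, hd⟩, (⁅a, b⁆ : Cfsg.GU 3 E D.q).2⟩, ?_⟩
    show QuotientGroup.mk' Zc (ι _) = _
    rw [← map_commutatorElement]
    exact congrArg _ (Subtype.ext (Units.ext rfl))
  have htop : commutator H = ⊤ := by
    refine (IsSimpleGroup.eq_bot_or_eq_top_of_normal _ inferInstance).resolve_left fun h => ?_
    obtain ⟨x, y, hxy⟩ := hnc
    have h1 : ⁅x, y⁆ ∈ commutator H := Subgroup.commutator_mem_commutator (Subgroup.mem_top x) (Subgroup.mem_top y)
    rw [h, Subgroup.mem_bot] at h1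
    exact hxy (commutatorElement_eq_one_iff_mul_comm.1 h1)
  have hle : ψ₁.range ≤ f.range := by
    refine le_trans ?_ hcomm
    rw [MonoidHom.range_eq_map, ← htop, commutator_def, Subgroup.map_commutator, commutator_def]
    exact Subgroup.commutator_mono le_top le_top
  let ψ₂ : H →* f.range := ψ₁.codRestrict f.range fun x => hle ⟨x, rfl⟩
  have hψ₂ : Function.Injective ψ₂ := fun a b h => hψ₁ (congrArg Subtype.val h)
  have hker : f.ker ≤ Subgroup.center (Cfsg.SU 3 E D.q) := by
    intro A hA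
    rw [Subgroup.mem_center_iff]
    intro B
    refine hι ?_
    rw [map_mul, map_mul]
    exact Subgroup.mem_center_iff.1 ((QuotientGroup.eq_one_iff _).1 hA) (ι B)
  let g : f.range →* Cfsg.PSU 3 E D.q :=
    ((QuotientGroup.map f.ker (Subgroup.center (Cfsg.SU 3 E D.q)) (MonoidHom.id _) (hker.trans (Subgroup.comap_id _).ge))).comp (QuotientGroup.quotientKerEquivRange f).symm.toMonoidHom
  let χ : H →* Cfsg.PSU 3 E D.q := g.comp ψ₂
  have hgker : ∀ x y : f.range, g x = 1 → x * y = y * x := by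
    rintro ⟨_, A, rfl⟩ ⟨_, B, rfl⟩ hx
    have hA : A ∈ Subgroup.center (Cfsg.SU 3 E D.q) := by
      have : (QuotientGroup.quotientKerEquivRange f).symm ⟨f A, A, rfl⟩ = (A : Cfsg.SU 3 E D.q ⧸ f.ker) :=
        (MulEquiv.symm_apply_eq _).2 rfl
      change QuotientGroup.map f.ker (Subgroup.center (Cfsg.SU 3 E D.q)) (MonoidHom.id _) (hker.trans (Subgroup.comap_id _).ge)
        ((QuotientGroup.quotientKerEquivRange f).symm ⟨f A, A, rfl⟩) = 1 at hx
      rw [this, QuotientGroup.map_mk] at hx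
      exact (QuotientGroup.eq_one_iff _).1 hx
    refine Subtype.ext ?_
    show f A * f B = f B * f A
    rw [← map_mul, ← map_mul, Subgroup.mem_center_iff.1 hA B]
  have hχ : Function.Injective χ := by
    refine (MonoidHom.ker_eq_bot_iff χ).1
      ((IsSimpleGroup.eq_bot_or_eq_top_of_normal χ.ker inferInstance).resolve_right fun h => ?_)
    obtain ⟨x, y, hxy⟩ := hnc
    refine hxy (hψ₂ ?_)
    rw [map_mul, map_mul]
    refine hgker _ _ ?_
    have hx : x ∈ χ.ker := h.symm ▸ Subgroup.mem_top x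
    exact hx
  have hF := D.hF
  have h1 := Classical.card_SU_mul (n := 3) hF (by norm_num)
  have h2 := Classical.card_center_SU (n := 3) hF (by norm_num)
  have hPSU : Nat.gcd 3 (D.q + 1) * Nat.card (Cfsg.PSU 3 E D.q) = D.q ^ 3 * (D.q ^ 3 + 1) * (D.q ^ 2 - 1) := by
    apply Nat.eq_of_mul_eq_mul_left (show 0 < D.q + 1 by omega)
    rw [← h2, mul_comm (Nat.card (Subgroup.center _)), ← Subgroup.card_eq_card_quotient_mul_card_subgroup, h1,
      Classical.cardGUFormula]
    simp [Finset.prod_range_succ, parity_simps]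
    ring
  refine ⟨MulEquiv.ofBijective χ ?_⟩
  refine hχ.bijective_of_nat_card_le ?_
  rw [← hPSU] at hcard
  exact Nat.le_of_mul_le_mul_left hcard (Nat.gcd_pos_of_pos_left _ (by norm_num))

end Cfsg.Lib.BenderSuzuki.U3
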