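import Cfsg.Agent.BenderSuzuki.U3.Closed
import Cfsg.Agent.UnitaryThreeEven.Main
import Cfsg.Agent.UnitaryThreeEven.Model
import Cfsg.Agent.BenderSuzuki.U3.PSU

/-!
The case `|Q| = q ^ 3`: from the closed form to the unitary group.

The second coordinate is forced on the products `p⁻¹ * (w * p * w⁻¹)` of a norm one scalar `w`; these represent
every class modulo the central involutions, so the two coordinates identify `Q` with the root group of the unital,
and the points with the points of the unital.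
-/

set_option autoImplicit false
set_option linter.unusedSectionVars false
set_option linter.style.haveILetI false

namespace Cfsg.Lib.BenderSuzuki.U3

open MulAction Cfsg.Lib.RankOne
open Cfsg.Lib.UThreeEven (Pt)

universe u v

namespace Closed

variable {G : Type u} {Ω : Type v} [Group G] [Finite G] [MulAction G Ω] {a : Ω} {t : G} {Q : Subgroup G}
  {E : Type} [Field E] [Fintype E] [CharP E 2] {D : UThreeEven.Dat E} {A B : G → E} (h : Closed Ω a t Q D A B)
include h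

theorem A_one : A 1 = 0 := (h.A_zero_iff 1 (one_mem Q)).2 (one_mul 1)

theorem B_one : B 1 = 0 := (h.B_zero_iff 1 (one_mem Q)).2 rfl

theorem A_inv {p : G} (hp : p ∈ Q) : A p⁻¹ = A p := by
  have e := h.A_mul p hp p⁻¹ (inv_mem hp)
  rw [mul_inv_cancel, h.A_one] at e
  exact (CharTwo.add_eq_zero.1 e.symm).symm

theorem sq_sq {p : G} (hp : p ∈ Q) : p * p * (p * p) = 1 :=
  (h.input.mem_Z.1 (h.input.sq_mem hp)).2

theorem comm_zero {z p : G} (hz : z ∈ Q) (hz2 : z * z = 1) (hp : p ∈ Q) : z * p = p * z :=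
  h.input.Z_comm (h.input.mem_Z.2 ⟨hz, hz2⟩) hp

theorem bar_B_zero {z : G} (hz : z ∈ Q) (hz2 : z * z = 1) : D.bar (B z) = B z := by
  have e := h.B_trace z hz
  rw [(h.A_zero_iff z hz).2 hz2, mul_zero] at e
  exact (CharTwo.add_eq_zero.1 e).symm

/-- The second coordinate of a square. -/
theorem B_sq {p : G} (hp : p ∈ Q) : B (p * p) = D.bar (A p) * A p := by
  have e : p⁻¹ = p * p * p := inv_eq_of_mul_eq_one_left (by rw [mul_assoc, h.sq_sq hp])
  have e1 := h.B_inv p hp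
  rw [e, h.B_central _ (mul_mem hp hp) (h.sq_sq hp) p hp] at e1
  have e2 := h.B_trace p hp
  linear_combination e1 + e2 - B p * (CharTwo.two_eq_zero : (2 : E) = 0)

theorem comm_sq {m n : G} (hm : m ∈ Q) (hn : n ∈ Q) :
    m * n * m⁻¹ * n⁻¹ ∈ Q ∧ m * n * m⁻¹ * n⁻¹ * (m * n * m⁻¹ * n⁻¹) = 1 :=
  h.input.mem_Z.1 (h.input.comm_mem hm hn)

/-- The second coordinate of a commutator. -/
theorem B_comm {m n : G} (hm : m ∈ Q) (hn : n ∈ Q) :
    B (m * n * m⁻¹ * n⁻¹) = D.bar (A m) * A n + D.bar (A n) * A m := by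
  set k := m⁻¹ * n with hk
  have hkQ : k ∈ Q := mul_mem (inv_mem hm) hn
  have hnn : (n * n)⁻¹ = n * n := inv_eq_of_mul_eq_one_right (h.sq_sq hn)
  have e : m * n * m⁻¹ * n⁻¹ = m * m * (k * k * (n * n)) := by
    rw [← hnn, hk]; group
  rw [e, h.B_central _ (mul_mem hm hm) (h.sq_sq hm) _ (mul_mem (mul_mem hkQ hkQ) (mul_mem hn hn)),
    h.B_central _ (mul_mem hkQ hkQ) (h.sq_sq hkQ) _ (mul_mem hn hn), h.B_sq hm, h.B_sq hkQ, h.B_sq hn]
  rw [hk, h.A_mul _ (inv_mem hm) _ hn, h.A_inv hm, map_add]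
  linear_combination (D.bar (A m) * A m + D.bar (A n) * A n) * (CharTwo.two_eq_zero : (2 : E) = 0)

/-- The second coordinate is the one of the root group. -/
theorem B_mul {m n : G} (hm : m ∈ Q) (hn : n ∈ Q) : B (m * n) = B m + B n + D.bar (A m) * A n := by
  obtain ⟨w, ε, hw, hε1, hεn, hwp⟩ := h.delta
  have hS := h.input.setup
  have hσ : ∀ p ∈ Q, w * p * w⁻¹ ∈ Q := fun p hp => hS.conj_mem w (Subgroup.mem_inf.1 hw).1 p hp
  have h2 : (2 : E) = 0 := CharTwo.two_eq_zero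
  have hne : ε + D.bar ε ≠ 0 := by
    intro e
    have e1 : D.bar ε = ε := (CharTwo.add_eq_zero.1 e).symm
    rw [e1] at hεn
    refine hε1 (CharTwo.add_eq_zero.1 (pow_eq_zero_iff two_ne_zero |>.1 (?_ : (ε + 1) ^ 2 = 0)))
    rw [CharTwo.add_sq, one_pow, sq, hεn, CharTwo.add_self_eq_zero]
  have h1ε : 1 + ε ≠ 0 := fun e => hε1 (CharTwo.add_eq_zero.1 e).symm
  set δ : G → G := fun p => p⁻¹ * (w * p * w⁻¹) with hδ
  have hδQ : ∀ p ∈ Q, δ p ∈ Q := fun p hp => mul_mem (inv_mem hp) (hσ p hp)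
  have hδA : ∀ p ∈ Q, A (δ p) = (1 + ε) * A p := fun p hp => by
    rw [hδ]
    show A (p⁻¹ * (w * p * w⁻¹)) = _
    rw [h.A_mul _ (inv_mem hp) _ (hσ p hp), h.A_inv hp, (hwp p hp).1]
    ring
  have hδB : ∀ p ∈ Q, B (δ p) = D.bar (A p) * A p * (1 + ε) := fun p hp => by
    obtain ⟨c, hc, e⟩ := (hwp p hp).2.2
    have e' : B (δ p) = c * (1 + ε) := e
    have etr := h.B_trace _ (hδQ p hp)
    rw [e', hδA p hp, map_mul, map_mul, map_add, map_one, hc] at etr
    have : c * (ε + D.bar ε) = D.bar (A p) * A p * (ε + D.bar ε) := by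
      linear_combination etr + (D.bar (A p) * A p) * hεn + (D.bar (A p) * A p - c) * h2
    rw [e', mul_right_cancel₀ hne this]
  -- every element is a product of such an element and a central involution
  have key : ∀ x ∈ Q, ∃ z p, z ∈ Q ∧ z * z = 1 ∧ p ∈ Q ∧ x = z * δ p ∧ A x = A (δ p) := by
    intro x hx
    obtain ⟨p, hp, hpA⟩ := h.A_surj (A x / (1 + ε))
    have hA : A (δ p) = A x := by rw [hδA p hp, hpA, mul_div_cancel₀ _ h1ε]
    refine ⟨x * (δ p)⁻¹, p, mul_mem hx (inv_mem (hδQ p hp)), ?_, hp, by rw [inv_mul_cancel_right], hA.symm⟩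
    refine (h.A_zero_iff _ (mul_mem hx (inv_mem (hδQ p hp)))).1 ?_
    rw [h.A_mul _ hx _ (inv_mem (hδQ p hp)), h.A_inv (hδQ p hp), hA, CharTwo.add_self_eq_zero]
  obtain ⟨z, p, hz, hz2, hp, em, hAm⟩ := key m hm
  obtain ⟨z', r, hz', hz'2, hr, en, hAn⟩ := key n hn
  have hdp := hδQ p hp
  have hdr := hδQ r hr
  have e1 : m * n = z * (z' * (δ p * δ r)) := by
    rw [em, en, mul_assoc, ← mul_assoc (δ p) z', ← h.comm_zero hz' hz'2 hdp, mul_assoc z']
  have e2 : δ (p * r) = r⁻¹ * δ p * r⁻¹⁻¹ * (δ p)⁻¹ * (δ p * δ r) := by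
    simp only [hδ]; group
  obtain ⟨hcQ, hc2⟩ := h.comm_sq (inv_mem hr) hdp
  have e3 : B (δ (p * r)) = B (r⁻¹ * δ p * r⁻¹⁻¹ * (δ p)⁻¹) + B (δ p * δ r) := by
    rw [e2, h.B_central _ hcQ hc2 _ (mul_mem hdp hdr)]
  rw [h.B_comm (inv_mem hr) hdp, h.A_inv hr, hδA p hp, hδB _ (mul_mem hp hr), h.A_mul p hp r hr, map_mul, map_add,
    map_add, map_one] at e3
  rw [e1, h.B_central z hz hz2 _ (mul_mem hz' (mul_mem hdp hdr)), h.B_central z' hz' hz'2 _ (mul_mem hdp hdr), hAm, hAn,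
    show B m = B z + B (δ p) by rw [em, h.B_central z hz hz2 _ hdp],
    show B n = B z' + B (δ r) by rw [en, h.B_central z' hz' hz'2 _ hdr],
    hδA p hp, hδA r hr, hδB p hp, hδB r hr, map_mul, map_add, map_one]
  linear_combination -e3 - D.bar (A p) * A r * hεn - D.bar (A p) * A r * (1 + D.bar ε) * h2

/-- Every fixed value is taken on a central involution. -/
theorem exists_B {c : E} (hc : D.bar c = c) : ∃ z ∈ Q, z * z = 1 ∧ B z = c := by
  obtain ⟨s, hs, hs2⟩ := D.exists_sqrt hc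
  obtain ⟨p, hp, hA⟩ := h.A_surj s
  exact ⟨p * p, mul_mem hp hp, h.sq_sq hp, by rw [h.B_sq hp, hA, hs, hs2]⟩

theorem nondeg : Nondeg a Q := by
  intro x hx hx2 z hz
  have hzQ := inv_mem_Q h.input.setup hz.1 hz.2.2
  have hzb := h.bar_B_zero hzQ hz.2.2
  have ha : D.bar (A x) ≠ 0 := (map_ne_zero D.bar).2 fun e => hx2 ((h.A_zero_iff x hx).1 e)
  obtain ⟨τ, hτ⟩ := D.exists_trace_one
  obtain ⟨y, hy, hyA⟩ := h.A_surj (B z * τ / D.bar (A x))
  refine ⟨y, hy, ?_⟩
  obtain ⟨hgQ, hg2⟩ := h.comm_sq hx hy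
  have e : B (z * (x * y * x⁻¹ * y⁻¹)) = 0 := by
    rw [h.B_central z hzQ hz.2.2 _ hgQ, h.B_comm hx hy, hyA, map_div₀, map_mul, hzb, D.bar_bar]
    have ha' : A x ≠ 0 := fun e => ha (by rw [e, map_zero])
    field_simp
    linear_combination B z * hτ + B z * (CharTwo.two_eq_zero : (2 : E) = 0)
  rw [h.B_zero_iff _ (mul_mem hzQ hgQ), mul_eq_one_iff_inv_eq, inv_of_sq hz.2.2] at e
  exact e.symm

/-- The root group. -/
noncomputable def toPt : Q →* Pt D :=
  MonoidHom.mk' (fun p => ⟨A p, B p, h.B_trace p p.2⟩) fun p r =>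
    Pt.ext (h.A_mul p p.2 r r.2) (h.B_mul p.2 r.2)

theorem toPt_bijective : Function.Bijective h.toPt := by
  constructor
  · rw [injective_iff_map_eq_one]
    intro p hp
    exact Subtype.ext ((h.B_zero_iff p p.2).1 (congrArg Pt.b hp))
  · intro x
    obtain ⟨p, hp, hA⟩ := h.A_surj x.a
    have hfix : D.bar (x.b + B p) = x.b + B p := by
      have e1 := x.h
      have e2 := h.B_trace p hp
      rw [hA] at e2
      rw [map_add]
      linear_combination e1 + e2 - (x.b + B p - D.bar x.a * x.a) * (CharTwo.two_eq_zero : (2 : E) = 0)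
    obtain ⟨z, hz, hz2, hzB⟩ := h.exists_B hfix
    refine ⟨⟨z * p, mul_mem hz hp⟩, Pt.ext ?_ ?_⟩
    · show A (z * p) = x.a
      rw [h.A_mul z hz p hp, (h.A_zero_iff z hz).2 hz2, zero_add, hA]
    · show B (z * p) = x.b
      rw [h.B_central z hz hz2 p hp, hzB, add_assoc, CharTwo.add_self_eq_zero, add_zero]

/-- The root group, identified. -/
noncomputable def ptEquiv : Q ≃* Pt D := MulEquiv.ofBijective h.toPt h.toPt_bijective

theorem ptEquiv_a (p : Q) : (h.ptEquiv p).a = A p := rfl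

theorem ptEquiv_b (p : Q) : (h.ptEquiv p).b = B p := rfl

/-- The points of the unital. -/
noncomputable def ptsEquiv : Option (Pt D) ≃ Ω :=
  Equiv.ofBijective (fun x => x.elim a fun y => ((h.ptEquiv.symm y : Q) : G) • t • a) ⟨fun x y e => by
    have hS := h.input.setup
    have hne : ∀ p : Q, (p : G) • t • a ≠ a := fun p e => ta_ne hS (smul_left_cancel (p : G) (e.trans (fix_a hS p.2).symm))
    rcases x with _ | x <;> rcases y with _ | y
    · rfl
    · exact absurd e.symm (hne _)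
    · exact absurd e (hne _)
    · exact congrArg some (h.ptEquiv.symm.injective (Subtype.ext (h.input.pts_inj (h.ptEquiv.symm x).2
        (h.ptEquiv.symm y).2 e))), fun p => by
    by_cases hp : p = a
    · exact ⟨none, hp.symm⟩
    · obtain ⟨q, hq, -⟩ := regular h.input.setup (ta_ne h.input.setup) hp
      exact ⟨some (h.ptEquiv q), by simpa using hq⟩⟩

theorem pts_none : h.ptsEquiv none = a := rfl

theorem pts_some (p : Q) : h.ptsEquiv (some (h.ptEquiv p)) = (p : G) • t • a := by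
  show ((h.ptEquiv.symm (h.ptEquiv p) : Q) : G) • t • a = _
  rw [MulEquiv.symm_apply_apply]

/-- The permutation representation on the unital. -/
noncomputable def rep : G →* Equiv.Perm (Option (Pt D)) where
  toFun g := (h.ptsEquiv.trans (MulAction.toPerm g)).trans h.ptsEquiv.symm
  map_one' := by ext x; simp
  map_mul' g g' := by ext x; simp [mul_smul]

theorem rep_apply (g : G) (x : Option (Pt D)) : h.ptsEquiv (h.rep g x) = g • h.ptsEquiv x := by
  simp [rep]

theorem rep_injective : Function.Injective h.rep := by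
  rw [injective_iff_map_eq_one]
  intro g hg
  haveI := h.input.sim.faithful
  refine eq_of_smul_eq_smul fun p : Ω => ?_
  obtain ⟨x, rfl⟩ := h.ptsEquiv.surjective p
  rw [← h.rep_apply, hg, Equiv.Perm.one_apply, one_smul]

theorem rep_eq {g : G} {e : Equiv.Perm (Option (Pt D))} (h0 : g • a = h.ptsEquiv (e none))
    (h1 : ∀ p : Q, g • (p : G) • t • a = h.ptsEquiv (e (some (h.ptEquiv p)))) : h.rep g = e := by
  refine Equiv.ext fun x => h.ptsEquiv.injective ?_
  rw [h.rep_apply]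
  rcases x with _ | y
  · exact h0
  · obtain ⟨p, rfl⟩ := h.ptEquiv.surjective y
    rw [h.pts_some]
    exact h1 p

theorem rep_Q (q : Q) : h.rep q = UThreeEven.tau D (h.ptEquiv q) := by
  refine h.rep_eq (fix_a h.input.setup q.2) fun p => ?_
  show _ = h.ptsEquiv (some (h.ptEquiv q * h.ptEquiv p))
  rw [← map_mul, h.pts_some, ← mul_smul]
  rfl

theorem rep_t : h.rep t = UThreeEven.omega D := by
  have hS := h.input.setup
  refine h.rep_eq ?_ fun p => ?_
  · show _ = h.ptsEquiv (some 1)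
    rw [← map_one h.ptEquiv, h.pts_some, OneMemClass.coe_one, one_smul]
  by_cases hp : p = 1
  · subst hp
    rw [OneMemClass.coe_one, one_smul, map_one,
      show UThreeEven.omega D (some 1) = none by simp [UThreeEven.omega, UThreeEven.omegaFun]]
    exact t_ta hS
  have hpG : (p : G) ≠ 1 := fun e => hp (Subtype.ext e)
  have hne : t • (p : G) • t • a ≠ a := fun e => hpG (h.input.eq_one_of_pts p.2
    (smul_left_cancel t (e.trans (t_ta hS).symm)))
  obtain ⟨r, hr, -⟩ := regular hS (ta_ne hS) hne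
  have hr' : (r : G) • t • a = t • (p : G) • t • a := hr
  obtain ⟨hA, hB⟩ := h.swap p p.2 hpG r r.2 hr'.symm
  have hp1 : h.ptEquiv p ≠ 1 := fun e => hp (h.ptEquiv.injective (e.trans (map_one _).symm))
  rw [show UThreeEven.omega D (some (h.ptEquiv p)) = some (Pt.flip (h.ptEquiv p)) by
      simp [UThreeEven.omega, UThreeEven.omegaFun, hp1],
    show Pt.flip (h.ptEquiv p) = h.ptEquiv r from (Pt.ext hA hB).symm, h.pts_some, hr']

theorem exists_lam (d : twoStab Ω a t) :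
    ∃ l : Eˣ, ∀ p ∈ Q, A (d * p * (d : G)⁻¹) = l * A p ∧ B (d * p * (d : G)⁻¹) = D.bar (l : E) * l * B p := by
  obtain ⟨l, hl, e⟩ := h.torus d d.2
  exact ⟨Units.mk0 l hl, e⟩

theorem lam_unique {d : twoStab Ω a t} {l m : Eˣ} (hl : ∀ p ∈ Q, A (d * p * (d : G)⁻¹) = l * A p)
    (hm : ∀ p ∈ Q, A (d * p * (d : G)⁻¹) = m * A p) : l = m := by
  obtain ⟨p, hp, hA⟩ := h.A_surj 1
  have e := (hl p hp).symm.trans (hm p hp)
  rw [hA, mul_one, mul_one] at e
  exact Units.ext e

/-- The scalar of an element of the two-point stabiliser. -/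
noncomputable def lam : twoStab Ω a t →* Eˣ :=
  MonoidHom.mk' (fun d => (h.exists_lam d).choose) fun d e => by
    refine h.lam_unique (d := d * e) (fun p hp => ((h.exists_lam (d * e)).choose_spec p hp).1) fun p hp => ?_
    show A (((d : G) * e) * p * ((d : G) * e)⁻¹) = _
    rw [Units.val_mul, mul_assoc ((_ : Eˣ) : E) _ (A p), ← ((h.exists_lam e).choose_spec p hp).1,
      ← ((h.exists_lam d).choose_spec _ (h.input.setup.conj_mem e (Subgroup.mem_inf.1 e.2).1 p hp)).1]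
    congr 1
    show ((d : G) * e) * p * ((d : G) * e)⁻¹ = _
    group

theorem lam_A (d : twoStab Ω a t) {p : G} (hp : p ∈ Q) : A (d * p * (d : G)⁻¹) = h.lam d * A p :=
  ((h.exists_lam d).choose_spec p hp).1

theorem lam_B (d : twoStab Ω a t) {p : G} (hp : p ∈ Q) :
    B (d * p * (d : G)⁻¹) = D.bar (h.lam d : E) * h.lam d * B p :=
  ((h.exists_lam d).choose_spec p hp).2

theorem rep_D (d : twoStab Ω a t) : h.rep d = UThreeEven.delta D (h.lam d) := by
  have hd := Subgroup.mem_inf.1 d.2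
  refine h.rep_eq hd.1 fun p => ?_
  have hc := h.input.setup.conj_mem d hd.1 p p.2
  show _ = h.ptsEquiv (some (Pt.sca D (h.lam d) (h.ptEquiv p)))
  rw [show Pt.sca D (h.lam d) (h.ptEquiv p) = h.ptEquiv ⟨_, hc⟩ from
    (Pt.ext (h.lam_A d p.2) (h.lam_B d p.2)).symm, h.pts_some]
  show _ = ((d : G) * p * (d : G)⁻¹) • t • a
  rw [mul_smul ((d : G) * p), inv_smul_eq_iff.2 (show (d : G) • t • a = t • a from hd.2).symm, mul_smul]

theorem lam_injective : Function.Injective h.lam := by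
  rw [injective_iff_map_eq_one]
  intro d hd
  refine Subtype.ext (h.rep_injective ?_)
  rw [OneMemClass.coe_one, map_one, h.rep_D, hd]
  refine Equiv.ext fun x => ?_
  rcases x with _ | y
  · rfl
  · simp [UThreeEven.delta]

theorem rep_mem (g : G) : h.rep g ∈ UThreeEven.range0 D := by
  have hS := h.input.setup
  by_cases hg : g ∈ stabilizer G a
  · obtain ⟨q, hq, d, hd, rfl⟩ := qd hS hg
    exact Or.inl ⟨_, _, by rw [map_mul, h.rep_Q ⟨q, hq⟩, h.rep_D ⟨d, hd⟩]⟩
  · obtain ⟨⟨p1, p2⟩, ⟨h1, h2, e⟩, -⟩ := bruhat hS hg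
    simp only at h1 h2 e
    obtain ⟨q, hq, d, hd, rfl⟩ := qd hS h1
    exact Or.inr ⟨_, _, _, by
      rw [e, map_mul, map_mul, map_mul, h.rep_Q ⟨q, hq⟩, h.rep_D ⟨d, hd⟩, h.rep_t, h.rep_Q ⟨p2, h2⟩]⟩

theorem exists_embedding : ∃ ψ : G →* UThreeEven.Model.PJ D, Function.Injective ψ := by
  obtain ⟨hyp⟩ := UThreeEven.Model.exists_hyp D
  obtain ⟨b⟩ := hyp.exists_Base
  let f : G →* b.rep.range := h.rep.codRestrict b.rep.range fun g => (b.rep_range _).2 (h.rep_mem g)
  refine ⟨(MonoidHom.ofInjective b.rep_injective).symm.toMonoidHom.comp f, fun x y e => h.rep_injective ?_⟩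
  exact congrArg Subtype.val ((MonoidHom.ofInjective b.rep_injective).symm.injective e)

theorem card_le : D.q ^ 3 * (D.q ^ 3 + 1) * (D.q ^ 2 - 1) ≤ Nat.gcd 3 (D.q + 1) * Nat.card G := by
  set H := h.lam.range with hH
  have hcard : Nat.card H = Nat.card (twoStab Ω a t) := (Nat.card_congr (MonoidHom.ofInjective h.lam_injective).toEquiv).symm
  have hq : 1 ≤ D.q := by have := D.hq; omega
  have hfix : (powMonoidHom (D.q - 1) : Eˣ →* Eˣ).ker ≤ H := by
    intro l hl
    have hl' : l ^ (D.q - 1) = 1 := hl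
    have hb : D.bar (l : E) = l := by
      rw [D.bar_apply, show D.q = (D.q - 1) + 1 by omega, pow_succ, ← Units.val_pow_eq_pow_val, hl', Units.val_one,
        one_mul]
    obtain ⟨d, hd, e⟩ := h.torus_fixed l l.ne_zero hb
    exact ⟨⟨d, hd⟩, h.lam_unique (fun p hp => h.lam_A ⟨d, hd⟩ hp) e⟩
  let f : D.R0 →* Eˣ := (powMonoidHom 3).comp D.R0.subtype
  have hcube : f.range ≤ H := by
    rintro _ ⟨r, rfl⟩
    obtain ⟨d, hd, e⟩ := h.torus_cube _ (D.R0_norm r)
    refine ⟨⟨d, hd⟩, h.lam_unique (fun p hp => h.lam_A ⟨d, hd⟩ hp) fun p hp => ?_⟩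
    show _ = ((((r : Eˣ) ^ 3 : Eˣ)) : E) * A p
    rw [Units.val_pow_eq_pow_val]
    exact e p hp
  have h1 : D.q - 1 ∣ Nat.card H := by
    have e := Subgroup.card_dvd_of_le hfix
    rwa [IsCyclic.card_powMonoidHom_ker, D.card_units, D.q_sq_sub_one, Nat.gcd_mul_left_left] at e
  have h2 : D.q + 1 ∣ Nat.gcd 3 (D.q + 1) * Nat.card H := by
    have e := f.ker.card_mul_index
    rw [Subgroup.index_ker, D.card_R0] at e
    have hker : f.ker = (powMonoidHom 3 : D.R0 →* D.R0).ker := by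
      ext r
      rw [MonoidHom.mem_ker, MonoidHom.mem_ker, powMonoidHom_apply]
      show (r : Eˣ) ^ 3 = 1 ↔ _
      rw [← SubmonoidClass.coe_pow, OneMemClass.coe_eq_one]
    rw [hker, IsCyclic.card_powMonoidHom_ker, D.card_R0, Nat.gcd_comm] at e
    exact (dvd_of_eq e.symm).trans (mul_dvd_mul_left _ (Subgroup.card_dvd_of_le hcube))
  have h3 : (D.q + 1) * (D.q - 1) ∣ Nat.gcd 3 (D.q + 1) * Nat.card H :=
    D.coprime_add_sub.mul_dvd_of_dvd_of_dvd h2 (h1.mul_left _)
  have h4 : D.q ^ 2 - 1 ≤ Nat.gcd 3 (D.q + 1) * Nat.card (twoStab Ω a t) := by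
    rw [D.q_sq_sub_one, ← hcard]
    exact Nat.le_of_dvd (Nat.mul_pos (Nat.gcd_pos_of_pos_right _ (by omega)) Nat.card_pos) h3
  calc D.q ^ 3 * (D.q ^ 3 + 1) * (D.q ^ 2 - 1)
      ≤ D.q ^ 3 * (D.q ^ 3 + 1) * (Nat.gcd 3 (D.q + 1) * Nat.card (twoStab Ω a t)) := Nat.mul_le_mul_left _ h4
    _ = _ := by rw [card_group h.input.setup, h.input.card_Q, ← h.q_eq]; ring

end Closed

/-- The closed form gives nondegeneracy and the unitary group. -/
theorem closed_nondeg_ident {G : Type u} {Ω : Type v} [Group G] [Finite G] [MulAction G Ω] {a : Ω} {t : G}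
    {Q : Subgroup G} {E : Type} [Field E] [Fintype E] [CharP E 2] {D : UThreeEven.Dat E} {A B : G → E}
    (h : Closed Ω a t Q D A B) : Nondeg a Q ∧ Ident G := by
  refine ⟨h.nondeg, ?_⟩
  haveI := h.input.sim.simple
  obtain ⟨ψ, hψ⟩ := h.exists_embedding
  obtain ⟨x, -, y, -, hxy⟩ := h.input.nonab
  have hn : 2 ≤ D.n := by
    by_contra hlt
    have h1 : 2 ^ D.n ≤ 2 ^ 1 := Nat.pow_le_pow_right two_pos (by omega)
    have := D.hq
    rw [D.hn] at this
    omega
  obtain ⟨e⟩ := iso_psu_of_embedding D ⟨x, y, hxy⟩ ψ hψ h.card_le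
  refine Or.inr (Or.inr ⟨E, inferInstance, inferInstance, D.n, hn, by rw [D.hF, D.hn], ?_⟩)
  have key : ∀ q, D.q = q → Nonempty (G ≃* Cfsg.PSU 3 E q) := fun q hq => hq ▸ ⟨e⟩
  exact key _ D.hn

end Cfsg.Lib.BenderSuzuki.U3
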