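import Cfsg.Agent.BenderSuzuki.U3.MuData
import Cfsg.Agent.BenderSuzuki.SuzukiCase

/-!
The case `|Q| = q ^ 3`: the units induce one field automorphism, so the two-point stabiliser is `K V`, and the
points `bi i` have one norm.

Two units are in one class if they induce the same automorphism. Inside a class the norms of the points are equal;
between two classes the equation of the coordinates bounds the size of each class by twice the fixed field of the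
quotient of the automorphisms, which is too small for `q + 1` units.
-/

set_option autoImplicit false
set_option linter.unusedSectionVars false
set_option linter.unusedSimpArgs false
set_option linter.style.haveILetI false

namespace Cfsg.Lib.BenderSuzuki.U3

open MulAction Cfsg.Lib.RankOne

universe u v

variable {G : Type u} {Ω : Type v} [Group G] [Finite G] [MulAction G Ω] {a : Ω} {t : G} {Q : Subgroup G}

/-- A quadratic in characteristic two has at most two roots. -/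
theorem two_roots {K : Type*} [Field K] [CharP K 2] {s p r x x' : K} (hs : s ≠ 0) (h : s * x * x + p * x + r = 0)
    (h' : s * x' * x' + p * x' + r = 0) : x' = x ∨ x' = x + p / s := by
  have h1 : (x + x') * (s * (x + x') + p) = 0 := by
    linear_combination h + h' + (s * x * x' - r) * CharTwo.two_eq_zero (R := K)
  rcases mul_eq_zero.1 h1 with h2 | h2
  · exact Or.inl (CharTwo.add_eq_zero.1 h2).symm
  · refine Or.inr (mul_left_cancel₀ hs ?_)
    rw [mul_add, mul_div_cancel₀ _ hs]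
    linear_combination h2 - (s * x + p) * CharTwo.two_eq_zero (R := K)

/-- The count which excludes a second class. -/
theorem count_false {k : ℕ} (h : 2 ^ k + 1 ≤ 2 * k * (2 ^ (k / 3) - 1)) : False := by
  have h2 : ∀ e : ℕ, 2 ≤ e → 2 * (3 * e + 2) ≤ 2 ^ (2 * e) := by
    intro e he
    induction e, he using Nat.le_induction with
    | base => norm_num
    | succ e he ih => rw [show 2 * (e + 1) = 2 * e + 2 by ring, pow_add]; omega
  rcases (show k / 3 = 0 ∨ k / 3 = 1 ∨ 2 ≤ k / 3 by omega) with he | he | he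
  · rw [he] at h
    simp at h
  · rw [he] at h
    have hk : k ∈ Finset.Icc 3 5 := Finset.mem_Icc.2 (by omega)
    fin_cases hk <;> norm_num at h
  · have e1 : 2 ^ (3 * (k / 3)) ≤ 2 ^ k := Nat.pow_le_pow_right two_pos (by omega)
    have e2 : 2 * k * (2 ^ (k / 3) - 1) ≤ 2 * (3 * (k / 3) + 2) * 2 ^ (k / 3) :=
      Nat.mul_le_mul (by omega) (Nat.sub_le _ _)
    have e3 := Nat.mul_le_mul_right (2 ^ (k / 3)) (h2 _ he)
    rw [← pow_add, show 2 * (k / 3) + k / 3 = 3 * (k / 3) by ring] at e3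
    omega

/-- A field with `2 ^ k` elements has at most `k` automorphisms. -/
theorem card_ringAut_le {F : Type} [Field F] [Fintype F] [CharP F 2] {k : ℕ} (hk : Fintype.card F = 2 ^ k) :
    Nat.card (F ≃+* F) ≤ k := by
  haveI := Fact.mk Nat.prime_two
  letI : Algebra (ZMod 2) F := ZMod.algebra F 2
  have hr : Module.finrank (ZMod 2) F = k := by
    have h := Module.card_eq_pow_finrank (K := ZMod 2) (V := F)
    rw [hk, ZMod.card] at h
    exact (Nat.pow_right_injective le_rfl h).symm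
  let f : (F ≃+* F) → (F ≃ₐ[ZMod 2] F) := fun σ => AlgEquiv.ofRingEquiv (f := σ) fun x => by
    exact RingHom.congr_fun (Subsingleton.elim ((σ : F →+* F).comp (algebraMap (ZMod 2) F)) (algebraMap (ZMod 2) F)) x
  have hb := Nat.card_congr (Equiv.ofBijective _ (FiniteField.bijective_frobeniusAlgEquivOfAlgebraic_pow (ZMod 2) F))
  rw [Nat.card_eq_fintype_card, Fintype.card_fin, hr] at hb
  haveI : Finite (F ≃ₐ[ZMod 2] F) := Finite.of_surjective _
    (FiniteField.bijective_frobeniusAlgEquivOfAlgebraic_pow (ZMod 2) F).2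
  rw [hb]
  exact Nat.card_le_card_of_injective f fun σ τ h => RingEquiv.ext fun x => congrArg (fun g : F ≃ₐ[ZMod 2] F => g x) h

/-- An automorphism of odd order other than the identity fixes at most `2 ^ (k / 3)` elements. -/
theorem card_fixed_le {F : Type} [Field F] [Fintype F] [CharP F 2] {k : ℕ} (hk : Fintype.card F = 2 ^ k)
    (δ : RingAut F) (hodd : Odd (orderOf δ)) (h1 : δ ≠ 1) : Nat.card {x : F // δ x = x} ≤ 2 ^ (k / 3) := by
  classical
  haveI : Finite (RingAut F) := Finite.of_injective (fun e : F ≃+* F => (e : F → F)) DFunLike.coe_injective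
  let H : Subgroup (RingAut F) := Subgroup.zpowers δ
  letI : Fintype H := Fintype.ofFinite H
  haveI : FaithfulSMul H F := ⟨fun h => Subtype.ext (RingEquiv.ext h)⟩
  have hr := FixedPoints.finrank_eq_card H F
  have hH : Fintype.card H = orderOf δ := by rw [← Nat.card_eq_fintype_card]; exact Nat.card_zpowers δ
  rw [hH] at hr
  have ho : 3 ≤ orderOf δ := by
    obtain ⟨j, hj⟩ := hodd
    have : orderOf δ ≠ 1 := fun e => h1 (orderOf_eq_one_iff.1 e)
    omega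
  letI : Fintype (FixedPoints.subfield H F) := Fintype.ofFinite _
  have hc := Module.card_eq_pow_finrank (K := FixedPoints.subfield H F) (V := F)
  rw [hr, hk] at hc
  obtain ⟨e, -, he⟩ := (Nat.dvd_prime_pow Nat.prime_two).1
    (show Fintype.card (FixedPoints.subfield H F) ∣ 2 ^ k from hc ▸ dvd_pow_self _ (by omega))
  rw [he, ← pow_mul] at hc
  have hek : k = e * orderOf δ := Nat.pow_right_injective le_rfl hc
  have hle : Nat.card {x : F // δ x = x} ≤ Fintype.card (FixedPoints.subfield H F) := by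
    rw [← Nat.card_eq_fintype_card]
    refine Nat.card_le_card_of_injective (fun x => (⟨x.1, fun h => ?_⟩ : FixedPoints.subfield H F))
      (fun x y h => Subtype.ext (congrArg Subtype.val h :))
    obtain ⟨n, hn⟩ := Subgroup.mem_zpowers_iff.1 h.2
    show (h : RingAut F) x.1 = x.1
    rw [← hn]
    have hst : δ ∈ MulAction.stabilizer (RingAut F) x.1 := x.2
    exact zpow_mem hst n
  refine hle.trans (he ▸ Nat.pow_le_pow_right two_pos ?_)
  rw [Nat.le_div_iff_mul_le (by norm_num), hek]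
  exact Nat.mul_le_mul_left e ho

namespace Frame

variable {F E : Type} [Field F] [Fintype F] [CharP F 2] [Field E] [Fintype E] [CharP E 2] (Fr : Frame Ω a t Q F E)

/-- The norm, as an element of the small field. -/
noncomputable def Nf (e : E) : F := (Fr.ν_surj _ (Fr.D.bar_norm e)).choose

theorem ν_Nf (e : E) : Fr.ν (Fr.Nf e) = Fr.D.bar e * e := (Fr.ν_surj _ (Fr.D.bar_norm e)).choose_spec

theorem Nf_mul (x y : E) : Fr.Nf (x * y) = Fr.Nf x * Fr.Nf y := Fr.ν_inj (by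
  rw [map_mul, Fr.ν_Nf, Fr.ν_Nf, Fr.ν_Nf, map_mul]; ring)

theorem Nf_ν (c : F) : Fr.Nf (Fr.ν c) = c * c := Fr.ν_inj (by rw [Fr.ν_Nf, Fr.ν_fix, map_mul])

theorem Nf_one : Fr.Nf (1 : E) = 1 := Fr.ν_inj (by rw [Fr.ν_Nf, map_one, map_one, mul_one])

theorem Nf_ne {e : E} (he : e ≠ 0) : Fr.Nf e ≠ 0 := fun h => by
  have h1 := Fr.ν_Nf e
  rw [h, map_zero, eq_comm, mul_eq_zero, map_eq_zero, or_self] at h1
  exact he h1

theorem Nf_norm_one {c : E} (hc : Fr.D.bar c * c = 1) : Fr.Nf c = 1 :=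
  Fr.ν_inj (by rw [Fr.ν_Nf, hc, map_one])

theorem Nf_act {w : G} (hw : w ∈ centT Ω a t) (e : E) :
    Fr.Nf (Fr.act w e) = Fr.Nf (Fr.act w 1) * Fr.σ w (Fr.Nf e) := by
  obtain ⟨σE, c, -, hν, -, -, hc⟩ := Fr.σ_spec hw
  have hact : ∀ x, Fr.act w x = c * σE x := fun x => by rw [act, hc _ (Fr.lift_mem x), Fr.ca_lift]
  have hbar : ∀ x, Fr.D.bar (σE x) = σE (Fr.D.bar x) := fun x => by
    rw [Fr.D.bar_apply, Fr.D.bar_apply, map_pow]
  rw [hact, hact, map_one, mul_one, Fr.Nf_mul]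
  congr 1
  exact Fr.ν_inj (by rw [Fr.ν_Nf, hbar, ← map_mul, ← hν, Fr.ν_Nf])

theorem mem_centI_of_σ_eq {w w' : G} (hw : w ∈ centT Ω a t) (hw' : w' ∈ centT Ω a t) (h : Fr.σ w = Fr.σ w') :
    w⁻¹ * w' ∈ centI Ω a t :=
  Fr.mem_centI_of_σ (mul_mem (inv_mem hw) hw') fun x => by
    rw [Fr.σ_mul (inv_mem hw) hw', Fr.σ_inv hw, ← h, RingEquiv.symm_apply_apply]

theorem Nf_act_centI {w : G} (hw : w ∈ centI Ω a t) (e : E) : Fr.Nf (Fr.act w e) = Fr.Nf e := by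
  obtain ⟨c, hc, -, hact⟩ := Fr.act_centI hw
  rw [hact, Fr.Nf_mul, Fr.Nf_norm_one hc, one_mul]

/-- The norm factor depends only on the automorphism. -/
theorem Nf_act_congr {w w' : G} (hw : w ∈ centT Ω a t) (hw' : w' ∈ centT Ω a t) (h : Fr.σ w = Fr.σ w') :
    Fr.Nf (Fr.act w 1) = Fr.Nf (Fr.act w' 1) := by
  have hx := Fr.mem_centI_of_σ_eq hw hw' h
  have e : Fr.act w' 1 = Fr.act w (Fr.act (w⁻¹ * w') 1) := by
    rw [← Fr.act_mul (Frame.W_a hw) (Frame.W_a (centI_le_centT (hS := Fr.input.setup) hx)), mul_inv_cancel_left]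
  rw [e, Fr.Nf_act hw (Fr.act (w⁻¹ * w') 1), Fr.Nf_act_centI hx, Fr.Nf_one, map_one, mul_one]

/-- The automorphism of a unit. -/
noncomputable def σi (i : Fr.Un) : F ≃+* F := Fr.σ (Fr.wi i)

/-- The quotient of two units. -/
noncomputable def U (i j : Fr.Un) : G := (Fr.wi i)⁻¹ * Fr.wi j

theorem U_mem (i j : Fr.Un) : Fr.U i j ∈ centT Ω a t := mul_mem (inv_mem (Fr.wi_mem i)) (Fr.wi_mem j)

theorem σ_U (i j : Fr.Un) (x : F) : Fr.σ (Fr.U i j) x = (Fr.σi i).symm (Fr.σi j x) := by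
  rw [U, Fr.σ_mul (inv_mem (Fr.wi_mem i)) (Fr.wi_mem j), Fr.σ_inv (Fr.wi_mem i)]
  rfl

/-- The moved inverse determinant. -/
noncomputable def Af (i j : Fr.Un) : F := (Fr.σi i).symm (dt i.1 j.1)⁻¹

theorem Af_ne {i j : Fr.Un} (h : i ≠ j) : Fr.Af i j ≠ 0 :=
  (map_ne_zero (Fr.σi i).symm).2 (inv_ne_zero (Un.dt_ne Fr h))

theorem Af_swap (i j : Fr.Un) : Fr.Af j i = Fr.σ (Fr.U j i) (Fr.Af i j) := by
  rw [Fr.σ_U, Af, Af, RingEquiv.apply_symm_apply, dt_comm j.1]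

variable (M : Fr.MuData)
include M

/-- The equation of the coordinates. -/
theorem eqI {i j : Fr.Un} (hj : j ≠ i) : ∃ k : Fr.Un, k ≠ i ∧ k ≠ j ∧
    Fr.wi k = Fr.wi i * (Fr.wi j)⁻¹ * Fr.wi i ∧
    dt i.1 k.1 = Fr.σ (Fr.wi i * (Fr.wi j)⁻¹) (dt i.1 j.1) ∧
    Fr.bi i + Fr.bi k = Fr.ν (Fr.Af i j * Fr.σ (Fr.U i j) (M.μ : F)) * Fr.act (Fr.U i j) (Fr.bi j) ∧
    Fr.bi i + Fr.bi j = Fr.ν (Fr.Af j i * Fr.σ (Fr.U j i) (M.μ : F)) * Fr.act (Fr.U j i) (Fr.bi k) := by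
  obtain ⟨k, hk, hkj, h1, h2, h3, h4⟩ := Fr.step hj
  have hwi := Fr.wi_mem i
  have key : ∀ l : Fr.Un, Fr.act (Fr.wi i)⁻¹ (Fr.ν (dt i.1 l.1)⁻¹ * Fr.φ l) =
      Fr.ν (Fr.Af i l * Fr.σ (Fr.U i l) (M.μ : F)) * Fr.act (Fr.U i l) (Fr.bi l) := fun l => by
    rw [M.φ_eq, Fr.act_ν (inv_mem hwi), ← Fr.act_mul (Frame.W_a (inv_mem hwi)) (Frame.W_a (Fr.wi_mem l)),
      show (Fr.wi i)⁻¹ * Fr.wi l = Fr.U i l from rfl, Fr.act_ν (Fr.U_mem i l), Fr.σ_inv hwi, map_mul, mul_assoc]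
    rfl
  have hk' : Fr.wi k = Fr.wi i * (Fr.wi j)⁻¹ * Fr.wi i := by rw [← h1, inv_mul_cancel_right]
  have hU : Fr.U i k = Fr.U j i := by rw [U, U, hk']; group
  have hA : Fr.Af i k = Fr.Af j i := by
    show (Fr.σi i).symm _ = (Fr.σi j).symm _
    rw [h2, ← map_inv₀, Fr.σ_mul hwi (inv_mem (Fr.wi_mem j)), Fr.σ_inv (Fr.wi_mem j), dt_comm j.1]
    exact RingEquiv.symm_apply_apply _ _
  rw [key] at h3 h4
  rw [hU, hA] at h4
  exact ⟨k, hk, hkj, hk', h2, h3, h4⟩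

theorem bi_injective : Function.Injective Fr.bi := by
  intro i j h
  by_contra hne
  obtain ⟨k, -, -, -, -, -, h2⟩ := Fr.eqI M (Ne.symm hne)
  rw [h, CharTwo.add_self_eq_zero, eq_comm, mul_eq_zero, map_eq_zero, mul_eq_zero, map_eq_zero] at h2
  rcases h2 with (h2 | h2) | h2
  · exact Fr.Af_ne (Ne.symm hne) h2
  · exact M.μ.ne_zero h2
  · exact Fr.act_ne_zero (Frame.W_a (Fr.U_mem j i)) (M.bi_ne k) h2

/-- A degenerate pair. -/
def Deg (i j : Fr.Un) : Prop := i ≠ j ∧ Fr.wi i = Fr.wi j ∧ dt i.1 j.1 = Fr.σi i (M.μ : F)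

theorem same_class {i j : Fr.Un} (hne : i ≠ j) (hσ : Fr.σi i = Fr.σi j) :
    Fr.Nf (Fr.bi i) = Fr.Nf (Fr.bi j) ∨ Fr.Deg M i j := by
  have hU : Fr.U i j ∈ centI Ω a t := Fr.mem_centI_of_σ_eq (Fr.wi_mem i) (Fr.wi_mem j) hσ
  have hU' : Fr.U j i ∈ centI Ω a t := Fr.mem_centI_of_σ_eq (Fr.wi_mem j) (Fr.wi_mem i) hσ.symm
  obtain ⟨ω, hω, hω1, hact⟩ := Fr.act_centI hU
  have hω0 : ω ≠ 0 := fun e => by rw [e, mul_zero] at hω; exact zero_ne_one hω
  have hact' : ∀ e, Fr.act (Fr.U j i) e = ω⁻¹ * e := fun e => by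
    have h := Fr.act_inv_act (Frame.W_a (Fr.U_mem i j)) (ω⁻¹ * e)
    rwa [hact, mul_inv_cancel_left₀ hω0, show (Fr.U i j)⁻¹ = Fr.U j i by rw [U, U]; group] at h
  have hAsw : Fr.Af j i = Fr.Af i j := by rw [Fr.Af_swap, Fr.σ_of_mem_centI hU']
  set α := Fr.ν (Fr.Af i j * (M.μ : F)) with hα
  have hα0 : α ≠ 0 := (map_ne_zero Fr.ν).2 (mul_ne_zero (Fr.Af_ne hne) M.μ.ne_zero)
  have hαb : Fr.D.bar α = α := Fr.ν_fix _
  have hωb : Fr.D.bar ω = ω⁻¹ := eq_inv_of_mul_eq_one_left hω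
  have hωb' : Fr.D.bar ω⁻¹ = ω := by rw [map_inv₀, hωb, inv_inv]
  obtain ⟨k, hk, -, -, -, e1, e2⟩ := Fr.eqI M hne.symm
  rw [Fr.σ_of_mem_centI hU, hact] at e1
  rw [hAsw, Fr.σ_of_mem_centI hU', hact'] at e2
  obtain ⟨k', hk', -, -, -, e1', e2'⟩ := Fr.eqI M hne
  rw [hAsw, Fr.σ_of_mem_centI hU', hact'] at e1'
  rw [Fr.σ_of_mem_centI hU, hact] at e2'
  rw [← hα] at e1 e2 e1' e2'
  by_cases hdeg : α * ω = 1 ∨ α * ω⁻¹ = 1
  · refine Or.inr ⟨hne, ?_⟩
    have hω2 : ω = 1 := by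
      have h2 : Fr.D.bar ω = ω := by
        rcases hdeg with h | h
        · rw [eq_inv_of_mul_eq_one_right h, map_inv₀, hαb]
        · rw [mul_inv_eq_one₀ hω0] at h
          rw [← h, hαb]
      have h3 : ω ^ 2 = 1 ^ 2 := by rw [one_pow, pow_two]; nth_rw 1 [← h2]; exact hω
      exact (CharTwo.sq_injective (R := E)) h3
    have hα1 : α = 1 := by rcases hdeg with h | h <;> simpa [hω2] using h
    refine ⟨inv_mul_eq_one.1 (hω1 hω2), ?_⟩
    have hA : Fr.Af i j * (M.μ : F) = 1 := Fr.ν_inj (by rw [← hα, hα1, map_one])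
    have h4 : (Fr.σi i).symm (dt i.1 j.1) = (M.μ : F) := by
      rw [Af, map_inv₀] at hA
      exact inv_mul_eq_one₀ ((map_ne_zero (Fr.σi i).symm).2 (Un.dt_ne Fr hne)) |>.1 hA
    rw [← h4, RingEquiv.apply_symm_apply]
  · refine Or.inl ?_
    push Not at hdeg
    have hM : (1 + α * ω) * (1 + α * ω⁻¹) ≠ 0 := mul_ne_zero
      (fun h => hdeg.1 (CharTwo.add_eq_zero.1 h).symm) (fun h => hdeg.2 (CharTwo.add_eq_zero.1 h).symm)
    -- one of the brackets
    have key : ∀ x y ω' : E, Fr.D.bar ω' = ω'⁻¹ → (1 + α * ω') * (1 + α * ω'⁻¹) ≠ 0 →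
        x * (1 + α * ω') = y * (1 + α * ω'⁻¹) → Fr.Nf x = Fr.Nf y := by
      intro x y ω' hb hne' h
      have h1 : Fr.D.bar (x * (1 + α * ω')) * (x * (1 + α * ω')) =
          Fr.D.bar (y * (1 + α * ω'⁻¹)) * (y * (1 + α * ω'⁻¹)) := by rw [h]
      simp only [map_mul, map_add, map_one, map_inv₀, hαb, hb, inv_inv] at h1
      exact Fr.ν_inj (mul_right_cancel₀ hne' (by rw [Fr.ν_Nf, Fr.ν_Nf]; linear_combination h1))
    have n1 : Fr.Nf (Fr.bi j) = Fr.Nf (Fr.bi k) := key _ _ ω hωb hM (by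
      linear_combination e1 + e2 - (Fr.bi i + Fr.bi k - α * (Fr.bi j * ω)) * CharTwo.two_eq_zero (R := E))
    have n2 : Fr.Nf (Fr.bi i) = Fr.Nf (Fr.bi k') := key _ _ ω⁻¹ (by rw [hωb', inv_inv])
      (by rw [inv_inv, mul_comm]; exact hM) (by
        rw [inv_inv]
        linear_combination e1' + e2' - (Fr.bi j + Fr.bi k' - α * (Fr.bi i * ω⁻¹)) * CharTwo.two_eq_zero (R := E))
    have n3 : Fr.Nf (Fr.bi i + Fr.bi j) = Fr.Nf α * Fr.Nf (Fr.bi k) := by
      rw [e2, Fr.Nf_mul, Fr.Nf_mul ω⁻¹, Fr.Nf_norm_one (c := ω⁻¹) (by rw [hωb', mul_inv_cancel₀ hω0]), one_mul]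
    have n4 : Fr.Nf (Fr.bi i + Fr.bi j) = Fr.Nf α * Fr.Nf (Fr.bi k') := by
      rw [add_comm, e2', Fr.Nf_mul, Fr.Nf_mul ω, Fr.Nf_norm_one hω, one_mul]
    rw [n2, n1]
    exact (mul_left_cancel₀ (Fr.Nf_ne hα0) (n3.symm.trans n4)).symm

/-- The third member of a degenerate pair. -/
theorem deg_third {i j : Fr.Un} (h : Fr.Deg M i j) : ∃ k : Fr.Un, k ≠ i ∧ k ≠ j ∧ Fr.wi k = Fr.wi i ∧
    k.1 = i.1 + j.1 ∧ Fr.bi k = Fr.bi i + Fr.bi j ∧ Fr.Deg M i k ∧ Fr.Deg M j k := by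
  obtain ⟨hne, hw, hd⟩ := h
  have hU : Fr.U j i = 1 := by rw [U, hw, inv_mul_cancel]
  have hA : Fr.Af j i * (M.μ : F) = 1 := by
    rw [Af, dt_comm j.1, hd, map_inv₀, show Fr.σi j = Fr.σi i by rw [σi, σi, hw], RingEquiv.symm_apply_apply,
      inv_mul_cancel₀ M.μ.ne_zero]
  obtain ⟨k, hki, hkj, hwk, hdk, -, e2⟩ := Fr.eqI M hne.symm
  obtain ⟨k', hk'j, hk'i, hwk', hdk', e1', -⟩ := Fr.eqI M hne
  rw [hU, Fr.σ_one, hA, map_one, one_mul, Fr.act_one] at e2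
  rw [hU, Fr.σ_one, hA, map_one, one_mul, Fr.act_one] at e1'
  have hkk : k' = k := Fr.bi_injective M (by
    rw [← e2]; linear_combination e1' - Fr.bi j * CharTwo.two_eq_zero (R := E))
  subst hkk
  rw [hw, mul_inv_cancel, Fr.σ_one] at hdk
  rw [hw, mul_inv_cancel, one_mul] at hwk
  rw [hw, mul_inv_cancel, Fr.σ_one, dt_comm j.1 i.1] at hdk'
  have hwk2 : Fr.wi k' = Fr.wi i := hwk.trans hw.symm
  obtain ⟨c, hc⟩ := exists_smul_of_dt (Un.ne Fr i) (show dt (k'.1 + j.1) i.1 = 0 by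
    rw [dt_add_left, dt_comm k'.1, dt_comm j.1, hdk, CharTwo.add_self_eq_zero])
  have hc1 : c = 1 := by
    have h1 : dt j.1 (k'.1 + j.1) = dt i.1 j.1 := by rw [dt_add_right, dt_self, add_zero, hdk']
    rw [hc, dt_smul_right, dt_comm j.1] at h1
    exact (mul_eq_right₀ (Un.dt_ne Fr hne)).1 h1
  rw [hc1, one_smul] at hc
  refine ⟨k', hk'i, hk'j, hwk2, ?_, e2.symm, ⟨Ne.symm hk'i, hwk2.symm, hdk.trans hd⟩,
    ⟨Ne.symm hk'j, (hwk2.trans hw).symm, ?_⟩⟩
  · rw [← hc, add_assoc, CharTwo.add_self_eq_zero, add_zero]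
  · rw [hdk', hd, σi, σi, hw]

/-- The norm is constant on a class. -/
theorem Nf_class {i j : Fr.Un} (hσ : Fr.σi i = Fr.σi j) : Fr.Nf (Fr.bi i) = Fr.Nf (Fr.bi j) := by
  by_cases hij : i = j
  · rw [hij]
  rcases Fr.same_class M hij hσ with h | h
  · exact h
  obtain ⟨k, hki, hkj, hwk, hk, hbk, hik, hjk⟩ := Fr.deg_third M h
  obtain ⟨-, hw, hd⟩ := h
  have hσk : Fr.σi k = Fr.σi i := by rw [σi, σi, hwk]
  by_cases hl : ∃ l, l ≠ i ∧ l ≠ j ∧ l ≠ k ∧ Fr.σi l = Fr.σi i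
  · -- a fourth member
    have once : ∀ l x y z : Fr.Un, Fr.σi x = Fr.σi i → Fr.σi y = Fr.σi i → z.1 = x.1 + y.1 →
        l ≠ z → Fr.Deg M x l → Fr.Deg M y l → False := by
      intro l x y z hx hy hz hlz h1 h2
      refine Un.dt_ne Fr (Ne.symm hlz) ?_
      rw [hz, dt_add_left, h1.2.2, h2.2.2, hx, hy, CharTwo.add_self_eq_zero]
    obtain ⟨l, hli, hlj, hlk, hσl⟩ := hl
    have hor : ∀ x, l ≠ x → Fr.σi x = Fr.σi i → ¬ Fr.Deg M x l → Fr.Nf (Fr.bi x) = Fr.Nf (Fr.bi l) :=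
      fun x hx hσx hn => (Fr.same_class M hx.symm (hσx.trans hσl.symm)).resolve_right hn
    have hj' : j.1 = i.1 + k.1 := by rw [hk, ← add_assoc, CharTwo.add_self_eq_zero, zero_add]
    have hi' : i.1 = j.1 + k.1 := by rw [hk, add_left_comm, CharTwo.add_self_eq_zero, add_zero]
    have hno : ∀ x y z l' : Fr.Un, Fr.σi x = Fr.σi i → Fr.σi y = Fr.σi i → Fr.σi z = Fr.σi i →
        z.1 = x.1 + y.1 → y.1 = x.1 + z.1 → Fr.bi z = Fr.bi x + Fr.bi y →
        l' ≠ x → l' ≠ y → l' ≠ z → Fr.σi l' = Fr.σi i → Fr.Deg M x l' → x ≠ y → False := by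
      intro x y z l' hx hy hz e1 e2 eb hlx hly hlz hσl' hdl hxy
      obtain ⟨m, hmx, hml, hwm, hm, hbm, hxm, -⟩ := Fr.deg_third M hdl
      have hσm : Fr.σi m = Fr.σi i := by rw [← hx, σi, σi, hwm]
      have hmy : m ≠ y := fun e => hlz (Subtype.ext (by
        rw [e1, ← e, hm, ← add_assoc, CharTwo.add_self_eq_zero, zero_add]))
      have hmz : m ≠ z := fun e => hly (Subtype.ext (by
        rw [e2, ← e, hm, ← add_assoc, CharTwo.add_self_eq_zero, zero_add]))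
      have nl : ∀ n : Fr.Un, n ≠ y → n ≠ z → Fr.σi n = Fr.σi i → Fr.Deg M x n →
          Fr.Nf (Fr.bi n) = Fr.Nf (Fr.bi y) ∧ Fr.Nf (Fr.bi n) = Fr.Nf (Fr.bi z) := by
        intro n hny hnz hσn hxn
        constructor
        · exact (((Fr.same_class M (Ne.symm hny) (hy.trans hσn.symm)).resolve_right
            fun hd' => once n x y z hx hy e1 hnz hxn hd')).symm
        · exact (((Fr.same_class M (Ne.symm hnz) (hz.trans hσn.symm)).resolve_right
            fun hd' => once n x z y hx hz e2 hny hxn hd')).symm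
      obtain ⟨ny, nz⟩ := nl l' hly hlz hσl' hdl
      obtain ⟨my, -⟩ := nl m hmy hmz hσm hxm
      have root : ∀ p q : Fr.Un, Fr.bi p + Fr.bi q = Fr.bi x → Fr.Nf (Fr.bi p) = Fr.Nf (Fr.bi y) →
          Fr.Nf (Fr.bi q) = Fr.Nf (Fr.bi y) →
          Fr.D.bar (Fr.bi x) * Fr.bi p * Fr.bi p + Fr.D.bar (Fr.bi x) * Fr.bi x * Fr.bi p +
            Fr.bi x * Fr.ν (Fr.Nf (Fr.bi y)) = 0 := by
        intro p q hpq hp hq
        have hp' := Fr.ν_Nf (Fr.bi p)
        rw [hp] at hp'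
        have hq' := Fr.ν_Nf (Fr.bi q)
        rw [hq, show Fr.bi q = Fr.bi x + Fr.bi p by rw [← hpq, add_comm, ← add_assoc, CharTwo.add_self_eq_zero,
          zero_add], map_add] at hq'
        linear_combination (-Fr.bi p) * hq' + (Fr.bi p + Fr.bi x) * hp'
      have r1 := root y z (by rw [eb, add_left_comm, CharTwo.add_self_eq_zero, add_zero]) rfl
        (nz.symm.trans ny)
      have r2 := root l' m (by rw [hbm, add_left_comm, CharTwo.add_self_eq_zero, add_zero]) ny my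
      rcases two_roots ((map_ne_zero _).2 (M.bi_ne x)) r1 r2 with e | e
      · exact hly (Fr.bi_injective M e)
      · refine hlz (Fr.bi_injective M ?_)
        rw [e, eb, mul_div_cancel_left₀ _ ((map_ne_zero _).2 (M.bi_ne x)), add_comm]
    have hσj : Fr.σi j = Fr.σi i := hσ.symm
    have hbj : Fr.bi i = Fr.bi j + Fr.bi k := by
      rw [hbk, add_left_comm, CharTwo.add_self_eq_zero, add_zero]
    have ni : ¬ Fr.Deg M i l := fun h' => hno i j k l rfl hσj hσk hk hj' hbk hli hlj hlk hσl h' hij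
    have nj : ¬ Fr.Deg M j l := fun h' => hno j i k l hσj rfl hσk (hk.trans (add_comm _ _)) hi'
      (hbk.trans (add_comm _ _)) hlj hli hlk hσl h' (Ne.symm hij)
    rw [hor i hli rfl ni, hor j hlj hσj nj]
  · -- the class has three members and contains an orbit
    push Not at hl
    have hst : ∀ x : Fr.Un, Fr.σi (M.st x) = Fr.σi x := fun x => RingEquiv.ext fun y => by
      have hv := centI_le_centT (hS := Fr.input.setup) Fr.v_mem
      show Fr.σ (Fr.wi (M.st x)) y = Fr.σ (Fr.wi x) y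
      rw [M.wi_st, Fr.σ_mul (mul_mem hv (Fr.wi_mem x)) (centI_le_centT (hS := Fr.input.setup) M.c₁_mem),
        Fr.σ_mul hv (Fr.wi_mem x), Fr.σ_of_mem_centI Fr.v_mem, Fr.σ_of_mem_centI M.c₁_mem]
    have hN : ∀ x : Fr.Un, Fr.Nf (Fr.bi (M.st x)) = Fr.Nf (Fr.bi x) := fun x => by
      rw [M.bi_st, Fr.Nf_mul, Fr.Nf_norm_one M.m_norm, one_mul]
    have hm0 : M.m ≠ 0 := fun e => by have := M.m_norm; rw [e, mul_zero] at this; exact zero_ne_one this
    have n1 : M.st i ≠ i := fun e => M.m_ne (by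
      have h1 := M.bi_st i
      rw [e] at h1
      exact (mul_eq_right₀ (M.bi_ne i)).1 h1.symm)
    have n2 : M.st (M.st i) ≠ M.st i := fun e => M.m_ne (by
      have h1 := M.bi_st (M.st i)
      rw [e] at h1
      exact (mul_eq_right₀ (M.bi_ne _)).1 h1.symm)
    have n3 : M.st (M.st i) ≠ i := fun e => M.m_ne (CharTwo.sq_injective (R := E) (show M.m ^ 2 = 1 ^ 2 by
      have h1 := M.bi_st (M.st i)
      rw [e, M.bi_st, ← mul_assoc] at h1
      rw [one_pow, pow_two]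
      exact (mul_eq_right₀ (M.bi_ne i)).1 h1.symm))
    have hmem : ∀ x, Fr.σi x = Fr.σi i → x ≠ i → x = j ∨ x = k := fun x hx hxi => by
      by_contra hh
      push Not at hh
      exact hl x hxi hh.1 hh.2 hx
    rcases hmem _ (hst i) n1 with h1 | h1
    · rw [← h1, hN]
    · rcases hmem _ ((hst _).trans (hst i)) n3 with h2 | h2
      · rw [← h2, hN, hN]
      · exact absurd (h2.trans h1.symm) n2

/-- The value of the equation of the coordinates on two classes. -/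
noncomputable def Cc (i j : Fr.Un) (k : Fr.Un) : F :=
  Fr.σ (Fr.U i j) (M.μ : F) ^ 2 * Fr.Nf (Fr.act (Fr.U i j) 1) * Fr.σ (Fr.U i j) (Fr.Nf (Fr.bi k))

theorem Cc_congr {i i' j j' k k' : Fr.Un} (hi : Fr.σi i = Fr.σi i') (hj : Fr.σi j = Fr.σi j')
    (hk : Fr.σi k = Fr.σi k') : Fr.Cc M i j k = Fr.Cc M i' j' k' := by
  have h : Fr.σ (Fr.U i j) = Fr.σ (Fr.U i' j') := RingEquiv.ext fun x => by rw [Fr.σ_U, Fr.σ_U, hi, hj]
  rw [Cc, Cc, Fr.Nf_class M hk, Fr.Nf_act_congr (Fr.U_mem i j) (Fr.U_mem i' j') h, h]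

/-- The norm of a sum of two points. -/
theorem Nf_add {i j : Fr.Un} (hj : j ≠ i) : ∃ k, Fr.σi k = (Fr.σi i).trans ((Fr.σi j).symm.trans (Fr.σi i)) ∧
    Fr.Nf (Fr.bi i + Fr.bi j) = Fr.Af j i ^ 2 * Fr.Cc M j i k := by
  obtain ⟨k, -, -, hwk, -, -, e2⟩ := Fr.eqI M hj
  refine ⟨k, RingEquiv.ext fun x => ?_, ?_⟩
  · show Fr.σ (Fr.wi k) x = Fr.σ (Fr.wi i) ((Fr.σ (Fr.wi j)).symm (Fr.σ (Fr.wi i) x))
    rw [hwk, Fr.σ_mul (mul_mem (Fr.wi_mem i) (inv_mem (Fr.wi_mem j))) (Fr.wi_mem i),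
      Fr.σ_mul (Fr.wi_mem i) (inv_mem (Fr.wi_mem j)), Fr.σ_inv (Fr.wi_mem j)]
  · rw [e2, Fr.Nf_mul, Fr.Nf_ν, Fr.Nf_act (Fr.U_mem j i), Cc]
    ring

set_option maxHeartbeats 1000000 in
open scoped _root_.Classical in
/-- A class which differs from the class of `i` is small. -/
theorem class_le {i j : Fr.Un} (hσ : Fr.σi i ≠ Fr.σi j) :
    (Finset.univ.filter fun l : Fr.Un => Fr.σi l = Fr.σi j).card ≤ 2 * (2 ^ (Fr.D.n / 3) - 1) := by
  set S := Finset.univ.filter fun l : Fr.Un => Fr.σi l = Fr.σi j with hS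
  set δ : RingAut F := Fr.σ (Fr.U j i) with hδ
  have hne : ∀ {l}, Fr.σi l = Fr.σi j → l ≠ i := fun {l} hl e => hσ (e ▸ hl)
  have hδl : ∀ {l}, Fr.σi l = Fr.σi j → ∀ x, Fr.σ (Fr.U l i) x = δ x := fun {l} hl x => by
    rw [hδ, Fr.σ_U, Fr.σ_U, hl]
  have hcard : Fintype.card F = 2 ^ Fr.D.n := by rw [Fr.coord.card, ← Fr.q_eq, Fr.D.hn]
  have hfix : Nat.card {x : F // δ x = x} ≤ 2 ^ (Fr.D.n / 3) := by
    refine card_fixed_le hcard δ ?_ fun h1 => hσ (RingEquiv.ext fun x => ?_)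
    · let s : ↥(centT Ω a t) →* RingAut F :=
        { toFun := fun w => Fr.σ w.1
          map_one' := RingEquiv.ext Fr.σ_one
          map_mul' := fun w w' => RingEquiv.ext (Fr.σ_mul w.2 w'.2) }
      have h2 : orderOf δ ∣ orderOf (⟨_, Fr.U_mem j i⟩ : ↥(centT Ω a t)) := orderOf_map_dvd s _
      exact (Fr.input.setup.odd_card.of_dvd_nat (Subgroup.card_dvd_of_le inf_le_left)).of_dvd_nat
        (h2.trans (orderOf_dvd_natCard _))
    · have h3 : δ x = x := by rw [h1]; rfl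
      rw [hδ, Fr.σ_U, RingEquiv.symm_apply_eq] at h3
      exact h3
  -- the value attached to a member
  have hA : ∀ {l}, Fr.σi l = Fr.σi j → Fr.Af l i = δ (Fr.Af i l) := fun {l} hl => by
    rw [Fr.Af_swap i l, hδl hl]
  obtain ⟨k₀, hk₀, e₀⟩ := Fr.Nf_add M (hne rfl)
  obtain ⟨k₁, hk₁, e₁⟩ := Fr.Nf_add M (hne rfl).symm
  set C₀ := Fr.Cc M j i k₀
  set C₁ := Fr.Cc M i j k₁
  have hval : ∀ {l}, Fr.σi l = Fr.σi j → Fr.Nf (Fr.bi i + Fr.bi l) = δ (Fr.Af i l) ^ 2 * C₀ ∧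
      Fr.Nf (Fr.bi i + Fr.bi l) = Fr.Af i l ^ 2 * C₁ := by
    intro l hl
    obtain ⟨k, hk, e⟩ := Fr.Nf_add M (hne hl)
    obtain ⟨k', hk', e'⟩ := Fr.Nf_add M (hne hl).symm
    rw [hA hl] at e
    rw [Fr.Cc_congr M hl rfl (show Fr.σi k = Fr.σi k₀ by rw [hk, hk₀, hl])] at e
    rw [Fr.Cc_congr M rfl hl (show Fr.σi k' = Fr.σi k₁ by rw [hk', hk₁, hl]), add_comm] at e'
    exact ⟨e, e'⟩
  have hC₀ : C₀ ≠ 0 := fun h => by
    have h2 := (hval (l := j) rfl).1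
    rw [h, mul_zero] at h2
    exact Fr.Nf_ne (fun e => hne rfl (Fr.bi_injective M (CharTwo.add_eq_zero.1 e).symm)) h2
  set A₀ := Fr.Af i j with hA₀d
  have hA₀ : A₀ ≠ 0 := Fr.Af_ne (hne rfl).symm
  have hrat : ∀ {l}, Fr.σi l = Fr.σi j → δ (Fr.Af i l / A₀) = Fr.Af i l / A₀ := by
    intro l hl
    obtain ⟨a1, a2⟩ := hval hl
    obtain ⟨b1, b2⟩ := hval (l := j) rfl
    rw [map_div₀, div_eq_div_iff ((map_ne_zero δ).2 hA₀) hA₀]
    apply CharTwo.sq_injective (R := F)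
    show (δ (Fr.Af i l) * A₀) ^ 2 = (Fr.Af i l * δ A₀) ^ 2
    refine mul_right_cancel₀ hC₀ ?_
    linear_combination A₀ ^ 2 * (a1.symm.trans a2) - Fr.Af i l ^ 2 * (b1.symm.trans b2)
  have him : (S.image fun l => Fr.Af i l / A₀).card ≤ 2 ^ (Fr.D.n / 3) - 1 := by
    have hsub : (S.image fun l => Fr.Af i l / A₀) ⊆ (Finset.univ.filter fun x : F => δ x = x).erase 0 := by
      intro x hx
      obtain ⟨l, hl, rfl⟩ := Finset.mem_image.1 hx
      replace hl := (Finset.mem_filter.1 hl).2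
      exact Finset.mem_erase.2 ⟨div_ne_zero (Fr.Af_ne (hne hl).symm) hA₀, Finset.mem_filter.2 ⟨Finset.mem_univ _, hrat hl⟩⟩
    refine (Finset.card_le_card hsub).trans ?_
    have h0 : (0 : F) ∈ Finset.univ.filter fun x : F => δ x = x :=
      Finset.mem_filter.2 ⟨Finset.mem_univ _, map_zero δ⟩
    rw [Finset.card_erase_of_mem h0]
    rw [Nat.card_eq_fintype_card, Fintype.card_subtype] at hfix
    omega
  refine (Finset.card_le_mul_card_image S 2 fun c hc => ?_).trans (Nat.mul_le_mul_left 2 him)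
  obtain ⟨l₀, hl₀, rfl⟩ := Finset.mem_image.1 hc
  replace hl₀ := (Finset.mem_filter.1 hl₀).2
  have hs : Fr.D.bar (Fr.bi i) ≠ 0 := (map_ne_zero _).2 (M.bi_ne i)
  set p := Fr.D.bar (Fr.bi i) * Fr.bi i + Fr.ν (Fr.Nf (Fr.bi j)) + Fr.ν (Fr.Nf (Fr.bi i + Fr.bi l₀)) with hp
  refine (Finset.card_le_card_of_injOn Fr.bi
    (t := {Fr.bi l₀, Fr.bi l₀ + p / Fr.D.bar (Fr.bi i)}) ?_ (Fr.bi_injective M).injOn).trans Finset.card_le_two
  intro l hl
  simp only [Finset.coe_filter, Set.mem_ofPred_eq] at hl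
  obtain ⟨hl, he⟩ := hl
  replace hl := (Finset.mem_filter.1 hl).2
  have hAl : Fr.Af i l = Fr.Af i l₀ := (div_left_inj' hA₀).1 he
  have root : ∀ x : Fr.Un, Fr.σi x = Fr.σi j → Fr.Af i x = Fr.Af i l₀ →
      Fr.D.bar (Fr.bi i) * Fr.bi x * Fr.bi x + p * Fr.bi x + Fr.bi i * Fr.ν (Fr.Nf (Fr.bi j)) = 0 := by
    intro x hx hAx
    have h1 := Fr.ν_Nf (Fr.bi x)
    rw [Fr.Nf_class M hx] at h1
    have h2 := Fr.ν_Nf (Fr.bi i + Fr.bi x)
    rw [(hval hx).2, hAx, ← (hval hl₀).2, map_add] at h2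
    rw [hp]
    linear_combination Fr.bi x * h2 + (Fr.bi i + Fr.bi x) * h1 +
      (Fr.D.bar (Fr.bi i) * Fr.bi x * Fr.bi x + Fr.D.bar (Fr.bi i) * Fr.bi i * Fr.bi x +
        Fr.D.bar (Fr.bi x) * Fr.bi i * Fr.bi x + Fr.D.bar (Fr.bi x) * Fr.bi x * Fr.bi x) *
        CharTwo.two_eq_zero (R := E)
  simp only [Finset.coe_insert, Finset.coe_singleton, Set.mem_insert_iff, Set.mem_singleton_iff]
  exact two_roots hs (root l₀ hl₀ rfl) (root l hl hAl)

/-- All units induce one automorphism. -/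
theorem σi_eq (i j : Fr.Un) : Fr.σi i = Fr.σi j := by
  classical
  by_contra hij
  have hB : ∀ b ∈ (Finset.univ : Finset Fr.Un).image Fr.σi,
      (Finset.univ.filter fun l : Fr.Un => Fr.σi l = b).card ≤ 2 * (2 ^ (Fr.D.n / 3) - 1) := by
    intro b hb
    obtain ⟨l, -, rfl⟩ := Finset.mem_image.1 hb
    rcases eq_or_ne (Fr.σi i) (Fr.σi l) with h | h
    · exact Fr.class_le M (i := j) (j := l) fun e => hij (h.trans e.symm)
    · exact Fr.class_le M h
  have h1 := Finset.card_le_mul_card_image _ _ hB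
  rw [Finset.card_univ, Fr.card_Un, Fr.D.hn] at h1
  have hcard : Fintype.card F = 2 ^ Fr.D.n := by rw [Fr.coord.card, ← Fr.q_eq, Fr.D.hn]
  haveI : Finite (F ≃+* F) := Finite.of_injective (fun e : F ≃+* F => (e : F → F)) DFunLike.coe_injective
  letI : Fintype (F ≃+* F) := Fintype.ofFinite _
  have h2 : ((Finset.univ : Finset Fr.Un).image Fr.σi).card ≤ Fr.D.n := by
    refine (Finset.card_le_univ _).trans ?_
    rw [← Nat.card_eq_fintype_card]
    exact card_ringAut_le hcard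
  refine count_false (h1.trans ?_)
  calc _ ≤ 2 * (2 ^ (Fr.D.n / 3) - 1) * Fr.D.n := Nat.mul_le_mul_left _ h2
    _ = _ := by ring

theorem wi_mem_centI : ∀ i, Fr.wi i ∈ centI Ω a t := by
  intro i
  have hr : (r₀ : F × F) ≠ 0 := by simp [r₀]
  have h1 : Fr.wi (Fr.unit r₀ hr) = 1 := by
    have h := Fr.Pi_line 1
    rw [Units.val_one, one_smul] at h
    show Fr.wt ((((Fr.Fl r₀)⁻¹ : Fˣ) : F) • r₀) = 1
    rw [(Fr.Fl_smul _ hr).2]
    exact (Fr.Fl_wt_unique (l := 1) (one_mem _) (by rw [h, mul_one])).2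
  refine Fr.mem_centI_of_σ (Fr.wi_mem i) fun x => ?_
  show Fr.σi i x = x
  rw [Fr.σi_eq M i (Fr.unit r₀ hr), σi, h1, Fr.σ_one]

theorem norm_bi_eq : ∀ i j, Fr.D.bar (Fr.bi i) * Fr.bi i = Fr.D.bar (Fr.bi j) * Fr.bi j := fun i j => by
  rw [← Fr.ν_Nf, ← Fr.ν_Nf, Fr.Nf_class M (Fr.σi_eq M i j)]

theorem twoStab_eq : ∀ d ∈ twoStab Ω a t, ∃ (l : Fˣ) (w : G), w ∈ centI Ω a t ∧ d = Fr.kl l * w := by
  have hS := Fr.input.setup
  obtain ⟨A, hA, hAn⟩ := Fr.input.exists_KV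
  obtain ⟨C, hC, -, hCn⟩ := inverted_subgroup hS Fr.input.two
  have hCA : ∀ k ∈ C, k ∈ A := fun k hk => (hA k).2 ⟨k, Set.ext_iff.1 hC k |>.1 hk, 1, one_mem _, (mul_one k).symm⟩
  have hklA : ∀ l, Fr.kl l ∈ A := fun l => (hA _).2 ⟨_, Fr.coord.kl_mem l, 1, one_mem _, (mul_one _).symm⟩
  have hVA : ∀ w ∈ centI Ω a t, w ∈ A := fun w hw =>
    (hA _).2 ⟨Fr.kl 1, Fr.coord.kl_mem 1, w, hw, by rw [map_one, one_mul]⟩
  have hAD : ∀ x ∈ A, x ∈ twoStab Ω a t := fun x hx => by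
    obtain ⟨k, hk, w, hw, rfl⟩ := (hA x).1 hx
    exact mul_mem hk.1 (Subgroup.mem_inf.1 hw).1
  have htA : ∀ x ∈ A, t * x * t ∈ A := fun x hx => by
    obtain ⟨k, hk, w, hw, rfl⟩ := (hA x).1 hx
    obtain ⟨l, rfl⟩ := Fr.coord.kl_surj k hk
    rw [show t * (Fr.kl l * w) * t = (t * Fr.kl l * t) * (t * w * t) by
      rw [show t * Fr.kl l * t * (t * w * t) = t * Fr.kl l * (t * t) * w * t by simp only [mul_assoc], hS.mul_self]
      simp only [mul_assoc, one_mul], Fr.coord.t_kl hS, Fr.w_t (centI_le_centT (hS := hS) hw)]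
    exact mul_mem (hklA _) (hVA w hw)
  -- the values of `h`
  have hwt : ∀ {x : F × F}, x ≠ 0 → Fr.wt x ∈ A := fun {x} hx => by
    have h := Fr.wi_mem_centI M (Fr.unit x hx)
    rw [show Fr.wi (Fr.unit x hx) = Fr.wt x from (Fr.Fl_smul _ hx).2] at h
    exact hVA _ h
  have hPi : ∀ {x : F × F}, x ≠ 0 → Fr.Pi x ∈ A := fun {x} hx => by
    rw [Fr.Pi_eq]; exact mul_mem (inv_mem (hklA _)) (hwt hx)
  have hhA : ∀ q ∈ Q, q ≠ 1 → Fr.input.hh q ∈ A := by
    intro q hq hq1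
    by_cases hq2 : q * q = 1
    · obtain ⟨c, rfl⟩ := (Fr.coord.mem_range q).2 ⟨hq, hq2⟩
      have hc : c ≠ 0 := fun e => hq1 (by rw [e, Fr.coord.zc_zero])
      have h := (Fr.fh_zc (Units.mk0 c hc)).2
      rw [Units.val_mk0] at h
      rw [h]; exact hklA _
    · obtain ⟨x, y, hxy, rfl⟩ := Fr.pp_surj hq hq2
      show Fr.η x y ∈ A
      have hd : dt x y ≠ 0 := by rw [hxy]; exact one_ne_zero
      rw [← Fr.Hd_of_one hxy, Fr.Hd_eq_Pi hd]
      exact mul_mem (hPi (dt_ne_left hd)) (inv_mem (hPi (dt_ne_right hd)))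
  have hAa : ∀ {x}, x ∈ A → x • a = a := fun {x} hx => Frame.D_a (hAD x hx)
  have hcj : ∀ {x q}, x ∈ A → q ∈ Q → x * q * x⁻¹ ∈ Q := fun {x q} hx hq => hS.conj_mem x (hAa hx) q hq
  let P : G → Prop := fun g => (∃ q ∈ Q, ∃ x ∈ A, g = q * x) ∨ ∃ q ∈ Q, ∃ x ∈ A, ∃ r ∈ Q, g = q * x * t * r
  have hQP : ∀ s ∈ Q, ∀ g, P g → P (s * g) := by
    rintro s hs g (⟨q, hq, x, hx, rfl⟩ | ⟨q, hq, x, hx, r, hr, rfl⟩)
    · exact Or.inl ⟨s * q, mul_mem hs hq, x, hx, by simp only [mul_assoc]⟩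
    · exact Or.inr ⟨s * q, mul_mem hs hq, x, hx, r, hr, by simp only [mul_assoc]⟩
  have hAP : ∀ s ∈ A, ∀ g, P g → P (s * g) := by
    rintro s hs g (⟨q, hq, x, hx, rfl⟩ | ⟨q, hq, x, hx, r, hr, rfl⟩)
    · exact Or.inl ⟨s * q * s⁻¹, hcj hs hq, s * x, mul_mem hs hx, by group⟩
    · exact Or.inr ⟨s * q * s⁻¹, hcj hs hq, s * x, mul_mem hs hx, r, hr, by group⟩
  have htx : ∀ x, t * x = t * x * t * t := fun x => by simp only [mul_assoc, hS.mul_self, mul_one]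
  have htP : ∀ g, P g → P (t * g) := by
    rintro g (⟨q, hq, x, hx, rfl⟩ | ⟨q, hq, x, hx, r, hr, rfl⟩)
    all_goals
      have hq' : x⁻¹ * q * x ∈ Q := by
        have h := hcj (inv_mem hx) hq
        rwa [inv_inv] at h
    · refine Or.inr ⟨1, one_mem _, t * x * t, htA x hx, _, hq', ?_⟩
      rw [one_mul, ← htx]
      group
    · set y := x⁻¹ * q * x with hy
      have e : t * (q * x * t * r) = t * x * t * (t * y * t) * r := by
        rw [show t * x * t * (t * y * t) * r = t * x * (t * t) * y * t * r by simp only [mul_assoc], hS.mul_self, hy]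
        group
      rw [e]
      by_cases hy1 : y = 1
      · refine Or.inl ⟨(t * x * t) * r * (t * x * t)⁻¹, hcj (htA x hx) hr, t * x * t, htA x hx, ?_⟩
        rw [hy1, mul_one, hS.mul_self, mul_one, inv_mul_cancel_right]
      · obtain ⟨hf, -, r', hr', eq⟩ := Fr.input.fh_spec hq' hy1
        refine Or.inr ⟨(t * x * t) * Fr.input.f y * (t * x * t)⁻¹, hcj (htA x hx) hf, t * x * t * Fr.input.hh y,
          mul_mem (htA x hx) (hhA y hq' hy1), r' * r, mul_mem hr' hr, ?_⟩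
        rw [eq]
        group
  have htop : Subgroup.closure ((Q : Set G) ∪ C ∪ {t}) = ⊤ := gen_top Fr.input.sim hC _
    (fun x hx => Subgroup.subset_closure (Or.inl (Or.inl hx)))
    (fun x hx => Subgroup.subset_closure (Or.inl (Or.inr hx))) (Subgroup.subset_closure (Or.inr rfl))
  have hall : ∀ g, P g := fun g => by
    have hg : g ∈ Subgroup.closure ((Q : Set G) ∪ C ∪ {t}) := htop ▸ Subgroup.mem_top g
    induction hg using Subgroup.closure_induction_left with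
    | one => exact Or.inl ⟨1, one_mem _, 1, one_mem _, (one_mul 1).symm⟩
    | mul_left x hx y _ ih =>
      rcases hx with (hx | hx) | hx
      · exact hQP x hx y ih
      · exact hAP x (hCA x hx) y ih
      · rw [Set.mem_singleton_iff.1 hx]; exact htP y ih
    | inv_mul_cancel x hx y _ ih =>
      rcases hx with (hx | hx) | hx
      · exact hQP _ (inv_mem hx) y ih
      · exact hAP _ (inv_mem (hCA x hx)) y ih
      · rw [Set.mem_singleton_iff.1 hx, t_inv hS]; exact htP y ih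
  intro d hd
  have hdA : d ∈ A := by
    rcases hall d with ⟨q, hq, x, hx, rfl⟩ | ⟨q, hq, x, hx, r, hr, rfl⟩
    · have hqD : q ∈ twoStab Ω a t := by
        have h := mul_mem hd (inv_mem (hAD x hx))
        rwa [mul_inv_cancel_right] at h
      rw [Fr.input.eq_one_of_pts hq (Subgroup.mem_inf.1 hqD).2, one_mul]
      exact hx
    · exfalso
      have h := (Subgroup.mem_inf.1 hd).1
      rw [mem_stabilizer_iff, mul_smul, mul_smul, mul_smul, fix_a hS hr,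
        show x • t • a = t • a from (Subgroup.mem_inf.1 (hAD x hx)).2] at h
      exact ta_ne hS (smul_left_cancel q (h.trans (fix_a hS hq).symm))
  obtain ⟨k, hk, w, hw, rfl⟩ := (hA d).1 hdA
  obtain ⟨l, rfl⟩ := Fr.coord.kl_surj k hk
  exact ⟨l, w, hw, rfl⟩

end Frame

end Cfsg.Lib.BenderSuzuki.U3
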