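import Cfsg.Agent.BenderSuzuki.U3.Units

/-!
The case `|Q| = q ^ 3`: what is known about the units once the arc of the points `bi i` is determined.
-/

set_option autoImplicit false
set_option linter.unusedSectionVars false

namespace Cfsg.Lib.BenderSuzuki.U3

open MulAction Cfsg.Lib.RankOne

universe u v

variable {G : Type u} {Ω : Type v} [Group G] [Finite G] [MulAction G Ω] {a : Ω} {t : G} {Q : Subgroup G}

namespace Frame

variable {F E : Type} [Field F] [Fintype F] [CharP F 2] [Field E] [Fintype E] [CharP E 2] (Fr : Frame Ω a t Q F E)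

/-- The coordinates of the units are one multiple of the points of the arc, and `v` permutes the units. -/
structure MuData where
  /-- the multiplier -/
  μ : Fˣ
  /-- the permutation of the units given by `v` -/
  st : Fr.Un → Fr.Un
  /-- the constant element of `V` of that permutation -/
  c₁ : G
  /-- its scalar on the arc -/
  m : E
  bi_ne : ∀ i, Fr.bi i ≠ 0
  φ_eq : ∀ i, Fr.φ i = Fr.act (Fr.wi i) (Fr.ν (μ : F) * Fr.bi i)
  c₁_mem : c₁ ∈ centI Ω a t
  st_row : ∀ i, (st i).1 = Fr.θv i.1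
  wi_st : ∀ i, Fr.wi (st i) = Fr.v * Fr.wi i * c₁
  bi_st : ∀ i, Fr.bi (st i) = m * Fr.bi i
  m_ne : m ≠ 1
  m_norm : Fr.D.bar m * m = 1
  m_pow : m ^ orderOf Fr.v = 1
  Bf_line : ∀ e : E, e ≠ 0 → ∃ c : F, c ≠ 0 ∧ Fr.Bf e = Fr.ν c * e

end Frame

end Cfsg.Lib.BenderSuzuki.U3
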