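import Cfsg.Agent.BenderSuzuki.U3.Line
import Cfsg.Agent.BenderSuzuki.U3.MuData

/-!
The case `|Q| = q ^ 3`: the triangle given by the twisted square at a unit, and the constant multiplier.
-/

set_option autoImplicit false
set_option linter.unusedSectionVars false
set_option linter.unusedSimpArgs false

namespace Cfsg.Lib.BenderSuzuki.U3

open MulAction Cfsg.Lib.RankOne

universe u v

variable {G : Type u} {Ω : Type v} [Group G] [Finite G] [MulAction G Ω] {a : Ω} {t : G} {Q : Subgroup G}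

namespace Frame

variable {F E : Type} [Field F] [Fintype F] [CharP F 2] [Field E] [Fintype E] [CharP E 2] (Fr : Frame Ω a t Q F E)

theorem ε_ne_zero : Fr.ε ≠ 0 := fun e => by
  have := Fr.ε_norm
  rw [e, mul_zero] at this
  exact zero_ne_one this

/-- The frame with `v` replaced by its inverse. -/
noncomputable def flip : Frame Ω a t Q F E :=
  { Fr with
    v := Fr.v⁻¹
    ε := Fr.ε⁻¹
    v_mem := inv_mem Fr.v_mem
    v_prime := by rw [orderOf_inv]; exact Fr.v_prime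
    v_norm := fun w hw => by
      rw [Subgroup.zpowers_inv, show w * Fr.v⁻¹ * w⁻¹ = (w * Fr.v * w⁻¹)⁻¹ by group]
      exact inv_mem (Fr.v_norm w hw)
    ca_v := fun p hp => by
      have hp' : Fr.v⁻¹ * p * Fr.v⁻¹⁻¹ ∈ Q :=
        Fr.input.setup.conj_mem _ (inv_smul_eq_iff.2 Fr.v_a.symm) p hp
      have h := Fr.ca_v _ hp'
      rw [show Fr.v * (Fr.v⁻¹ * p * Fr.v⁻¹⁻¹) * Fr.v⁻¹ = p by group] at h
      rw [h, inv_mul_cancel_left₀ Fr.ε_ne_zero]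
    ε_ne := fun h => Fr.ε_ne (inv_eq_one.1 h)
    ε_norm := by rw [map_inv₀, ← mul_inv, Fr.ε_norm, inv_one] }

/-- The same for the inverse of the twisted square. -/
theorem ca_f_δh_inv {e : E} (he : e ≠ 0) :
    ∃ c : F, c ≠ 0 ∧ Fr.ca (Fr.input.f (Fr.δh e)⁻¹) = Fr.ν c * (Fr.ε * e) := by
  obtain ⟨c, hc, h⟩ := Fr.flip.Bf_line (e := Fr.ε * e) (mul_ne_zero Fr.ε_ne_zero he)
  refine ⟨c, hc, ?_⟩
  have hp : Fr.v * Fr.lift e * Fr.v⁻¹ ∈ Q := Fr.input.setup.conj_mem _ Fr.v_a _ (Fr.lift_mem e)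
  have h1 : Fr.flip.δh (Fr.ε * e) = (Fr.δh e)⁻¹ := by
    have h2 := Fr.flip.δh_eq hp
    rw [show Fr.flip.ca (Fr.v * Fr.lift e * Fr.v⁻¹) = Fr.ε * e by
      show Fr.ca _ = _; rw [Fr.ca_v _ (Fr.lift_mem e), Fr.ca_lift]] at h2
    rw [← h2, δh]
    show (Fr.v * Fr.lift e * Fr.v⁻¹)⁻¹ * (Fr.v⁻¹ * (Fr.v * Fr.lift e * Fr.v⁻¹) * Fr.v⁻¹⁻¹) = _
    group
  rw [Bf, h1] at h
  exact h

theorem δh_kl (c : F) (hc : c ≠ 0) (e : E) :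
    Fr.δh (Fr.ν c * e) = Fr.kl (Units.mk0 c hc)⁻¹ * Fr.δh e * (Fr.kl (Units.mk0 c hc)⁻¹)⁻¹ := by
  set k := Fr.kl (Units.mk0 c hc)⁻¹ with hk
  have hkp := Fr.input.setup.conj_mem k (Fr.kl_a _) _ (Fr.lift_mem e)
  have h2 : Fr.ca (k * Fr.lift e * k⁻¹) = Fr.ν c * e := by
    rw [← Fr.act_ca (Fr.kl_a _) (Fr.lift_mem e), Fr.ca_lift, Fr.act_kl_inv]; rfl
  rw [← h2, ← Fr.δh_eq hkp]
  show _ = k * ((Fr.lift e)⁻¹ * (Fr.v * Fr.lift e * Fr.v⁻¹)) * k⁻¹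
  have hc' : Commute Fr.v k := Fr.v_comm_kl _
  calc (k * Fr.lift e * k⁻¹)⁻¹ * (Fr.v * (k * Fr.lift e * k⁻¹) * Fr.v⁻¹)
      = k * (Fr.lift e)⁻¹ * k⁻¹ * ((Fr.v * k) * Fr.lift e * (Fr.v * k)⁻¹) := by group
    _ = k * (Fr.lift e)⁻¹ * k⁻¹ * ((k * Fr.v) * Fr.lift e * (k * Fr.v)⁻¹) := by rw [hc'.eq]
    _ = _ := by group

include Fr in
theorem centI_conj {x w : G} (hx : x ∈ centI Ω a t) (hw : w ∈ centT Ω a t) : w⁻¹ * x * w ∈ centI Ω a t := by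
  have hxT := centI_le_centT (hS := Fr.input.setup) hx
  refine Fr.mem_centI_of_σ (mul_mem (mul_mem (inv_mem hw) hxT) hw) fun y => ?_
  rw [Fr.σ_mul (mul_mem (inv_mem hw) hxT) hw, Fr.σ_mul (inv_mem hw) hxT, Fr.σ_of_mem_centI hx,
    ← Fr.σ_mul (inv_mem hw) hw, inv_mul_cancel, Fr.σ_one]

theorem smul_unit {y : F × F} (hy : y ≠ 0) : y = (Fr.Fl y : F) • (Fr.unit y hy).1 := by
  show y = (Fr.Fl y : F) • (((Fr.Fl y)⁻¹ : Fˣ) : F) • y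
  rw [smul_smul, ← Units.val_mul, mul_inv_cancel, Units.val_one, one_smul]

/-- What the triangle at a unit gives: `h` of the twisted square, and one equation. -/
structure Tri (m : E) (i : Fr.Un) (γ : Fˣ) (u : G) (Y e' : E) (μ α : F) : Prop where
  u_mem : u ∈ centI Ω a t
  hh_eq : Fr.input.hh (Fr.δh (Fr.φ i)) = Fr.kl γ * u⁻¹
  tang_eq : Fr.tang i = Fr.ν μ * Fr.bi i
  γ_eq : Fr.σ (Fr.wi i)⁻¹ (γ : F) = μ * α
  act_v' : ∀ x, Fr.act ((Fr.wi i)⁻¹ * Fr.v * Fr.wi i) x = e' * x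
  act_u' : ∀ x, Fr.act ((Fr.wi i)⁻¹ * u * Fr.wi i) x = Y * x
  Y_sq : Y * Y * m = e'
  eq : (1 + m) * Y = Fr.ν α * (1 + e')
  e'_ne : 1 + e' ≠ 0

theorem exists_tri {c₁ : G} {m : E} (hc₁ : c₁ ∈ centI Ω a t) (hm : ∀ e, Fr.act c₁⁻¹ e = m * e)
    (hst : ∀ i, (Fr.st i).1 = Fr.θv i.1 ∧ Fr.wi (Fr.st i) = Fr.v * Fr.wi i * c₁ ∧
      Fr.bi (Fr.st i) = m * Fr.bi i) (i : Fr.Un) :
    ∃ γ u Y e' μ α, Fr.Tri m i γ u Y e' μ α := by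
  have hS := Fr.input.setup
  obtain ⟨hs1, hs2, hs3⟩ := hst i
  obtain ⟨μ, hμ, htang⟩ := Fr.bi_tang i
  set δ := Fr.δh (Fr.φ i) with hδ
  have hδQ : δ ∈ Q := Fr.δh_mem (Fr.φ i)
  have hca : Fr.ca δ = (1 + Fr.ε) * Fr.φ i := Fr.ca_δh _
  have hδ2 : δ * δ ≠ 1 := fun h => mul_ne_zero Fr.one_add_ε_ne (Fr.φ_ne i)
    (hca.symm.trans ((Fr.ca_zero_iff δ hδQ).2 h))
  obtain ⟨T, r, hTr, hpp⟩ := Fr.pp_surj hδQ hδ2
  have hr0 : r ≠ 0 := dt_ne_right (x := T) (by rw [hTr]; exact one_ne_zero)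
  -- the top
  obtain ⟨cB, hcB, hB⟩ := Fr.Bf_line (Fr.φ_ne i)
  have hT : T = cB • i.1 := Fr.Φ_bijective.1 (by
    rw [Fr.Φ_smul, ← Fr.ca_pp ((dt_comm r T).trans hTr), Fr.pp_swap hTr, hpp]
    exact hB)
  -- the top of the inverse
  obtain ⟨c, hc⟩ := Fr.exists_zc_of_ca_eq (inv_mem hδQ) hδQ (Fr.ca_inv hδQ)
  rw [← hpp, ← Fr.pp_add hTr, hpp] at hc
  have hTr' : dt (T + c • r) r = 1 := by rw [dt_add_left, hTr, dt_smul_left, dt_self, mul_zero, add_zero]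
  obtain ⟨cI, hcI, hI⟩ := Fr.ca_f_δh_inv (Fr.φ_ne i)
  have hT' : T + c • r = cI • (Fr.st i).1 := Fr.Φ_bijective.1 (by
    rw [Fr.Φ_smul, hs1, Fr.Φ_θv, ← Fr.ca_pp ((dt_comm r _).trans hTr'), Fr.pp_swap hTr', ← hc]
    exact hI)
  -- the base
  set i' := Fr.unit r hr0 with hi'
  set a' := Fr.Fl r with ha'
  have hr : r = (a' : F) • i'.1 := Fr.smul_unit hr0
  have hi'r : ((a'⁻¹ : Fˣ) : F) • r = i'.1 := rfl
  have hd1 : (a' : F) * cB * dt i'.1 i.1 = 1 := by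
    rw [hT, hr, dt_smul_left, dt_smul_right, dt_comm i.1] at hTr
    linear_combination hTr
  have hd2 : (a' : F) * cI * dt i'.1 (Fr.st i).1 = 1 := by
    rw [hT', hr, dt_smul_left, dt_smul_right, dt_comm (Fr.st i).1] at hTr'
    linear_combination hTr'
  have hne1 : i ≠ i' := fun e => by rw [← e, dt_self, mul_zero] at hd1; exact zero_ne_one hd1
  have hne2 : Fr.st i ≠ i' := fun e => by rw [← e, dt_self, mul_zero] at hd2; exact zero_ne_one hd2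
  set K := Fr.kl a' with hK
  have e1 : Fr.pp ((dt i'.1 i.1)⁻¹ • i.1) i'.1 = K * δ * K⁻¹ := by
    rw [← hpp, hK, ← Fr.pp_smul hTr, hi'r, hT, smul_smul, eq_inv_of_mul_eq_one_left hd1]
  have e2 : Fr.pp ((dt i'.1 (Fr.st i).1)⁻¹ • (Fr.st i).1) i'.1 = K * δ⁻¹ * K⁻¹ := by
    rw [hc, hK, ← Fr.pp_smul hTr', hi'r, hT', smul_smul, eq_inv_of_mul_eq_one_left hd2]
  obtain ⟨hu, hdd, hI1⟩ := Fr.pair_rel hne1 hne2 (by rw [e1, e2]; group)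
  obtain ⟨-, -, hI2⟩ := Fr.pair_rel hne2 hne1 (by rw [e1, e2]; group)
  set u := Fr.wi i' * (Fr.wi i)⁻¹ with huu
  have huT : u ∈ centT Ω a t := mul_mem (Fr.wi_mem i') (inv_mem (Fr.wi_mem i))
  have hst2 : Fr.wi (Fr.st i) = u * u * Fr.wi i := by
    calc Fr.wi (Fr.st i) = Fr.wi (Fr.st i) * (Fr.wi i')⁻¹ * Fr.wi i' := by group
      _ = u * (u * Fr.wi i) := by rw [hu, huu]; group
      _ = _ := (mul_assoc _ _ _).symm
  have huV : u ∈ centI Ω a t := by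
    have h2 : u * u ∈ centI Ω a t := by
      rw [show u * u = Fr.v * ((Fr.wi i)⁻¹⁻¹ * c₁ * (Fr.wi i)⁻¹) by
        rw [show u * u = u * u * Fr.wi i * (Fr.wi i)⁻¹ by group, ← hst2, hs2]; group]
      exact mul_mem Fr.v_mem (Fr.centI_conj hc₁ (inv_mem (Fr.wi_mem i)))
    obtain ⟨j, hj⟩ := orderOf_odd_mem hS.odd_card (Subgroup.mem_inf.1 huT).1
    have h3 := pow_mem h2 (j + 1)
    rwa [← pow_two, ← pow_mul, show 2 * (j + 1) = 2 * j + 1 + 1 by ring, ← hj, pow_succ, pow_orderOf_eq_one,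
      one_mul] at h3
  obtain ⟨Y, hYn, -, hY⟩ := Fr.act_centI (Fr.centI_conj huV (Fr.wi_mem i))
  obtain ⟨e', -, he'1, he'⟩ := Fr.act_centI (Fr.centI_conj Fr.v_mem (Fr.wi_mem i))
  set α := Fr.σ (Fr.wi i)⁻¹ (dt i'.1 i.1)⁻¹ * μ with hα
  have hd' : dt i'.1 (Fr.st i).1 = dt i'.1 i.1 := by
    rw [hdd]; exact Fr.σ_of_mem_centI huV _
  have hY0 : Y ≠ 0 := fun e => by rw [e, mul_zero] at hYn; exact zero_ne_one hYn
  have hV' := Fr.centI_conj Fr.v_mem (Fr.wi_mem i)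
  have hUa : ((Fr.wi i)⁻¹ * u * Fr.wi i) • a = a :=
    Frame.D_a (Subgroup.mem_inf.1 (Fr.centI_conj huV (Fr.wi_mem i))).1
  have hwinv : ∀ x, Y * Fr.act (Fr.wi i')⁻¹ x = Fr.act (Fr.wi i)⁻¹ x := fun x => by
    rw [← hY, ← Fr.act_mul hUa (Fr.wi_inv_a i')]
    congr 1
    rw [huu]; group
  have hεx : ∀ x, Fr.act (Fr.wi i)⁻¹ (Fr.ε * x) = e' * Fr.act (Fr.wi i)⁻¹ x := fun x => by
    rw [← Fr.act_v, ← Fr.act_mul (Fr.wi_inv_a i) Fr.v_a, ← he',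
      ← Fr.act_mul (Frame.D_a (Subgroup.mem_inf.1 hV').1) (Fr.wi_inv_a i)]
    congr 1
    group
  have hb : Fr.act (Fr.wi i)⁻¹ (Fr.ν (dt i'.1 i.1)⁻¹ * Fr.φ i) = Fr.ν α * Fr.bi i := by
    rw [Fr.act_ν (inv_mem (Fr.wi_mem i)), show Fr.act (Fr.wi i)⁻¹ (Fr.φ i) = Fr.tang i from rfl, htang, hα, map_mul,
      mul_assoc]
  have hφs : Fr.φ (Fr.st i) = Fr.ε * Fr.φ i := by
    show Fr.Φ _ = _ * Fr.Φ i.1
    rw [hs1, Fr.Φ_θv]
  have q1 : Y * (Fr.bi i' + m * Fr.bi i) = Fr.ν α * Fr.bi i := by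
    rw [← hs3, hI1, hwinv, hb]
  have q2 : Y * (Fr.bi i' + Fr.bi i) = e' * (Fr.ν α * Fr.bi i) := by
    rw [hI2, hwinv, hd', hφs, ← mul_assoc (Fr.ν (dt i'.1 i.1)⁻¹), mul_comm (Fr.ν (dt i'.1 i.1)⁻¹) Fr.ε, mul_assoc,
      hεx, hb]
  have hb0 : Fr.bi i ≠ 0 := fun h => Fr.tang_ne i (by rw [htang, h, mul_zero])
  have hγ : Fr.input.hh δ = Fr.kl (a' * (Units.mk0 cB hcB)⁻¹) * u⁻¹ := by
    have h1 : Fr.input.hh δ = Fr.η T r := by rw [η, hpp]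
    rw [h1, ← Fr.Hd_of_one hTr, Fr.Hd_eq_Pi (by rw [hTr]; exact one_ne_zero), hT, hr]
    show Fr.Pi (((Units.mk0 cB hcB : Fˣ) : F) • i.1) * _ = _
    rw [Fr.Pi_smul _ (Un.ne Fr i), Fr.Pi_smul _ (Un.ne Fr i'), Fr.Pi_unit, Fr.Pi_unit,
      map_mul, map_inv]
    have hc1 : Commute (Fr.kl a') u⁻¹ :=
      ((show Commute (Fr.kl a') u from kl_comm_centI (hS := hS) huV (Fr.coord.kl_mem _))).inv_right
    have hc2 : Commute (Fr.kl a') (Fr.kl (Units.mk0 cB hcB))⁻¹ := ((Commute.all a' _).map Fr.kl).inv_right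
    calc (Fr.kl (Units.mk0 cB hcB))⁻¹ * Fr.wi i * ((Fr.kl a')⁻¹ * Fr.wi i')⁻¹
        = (Fr.kl (Units.mk0 cB hcB))⁻¹ * (u⁻¹ * Fr.kl a') := by rw [huu]; group
      _ = (Fr.kl (Units.mk0 cB hcB))⁻¹ * (Fr.kl a' * u⁻¹) := by rw [hc1.eq]
      _ = _ := by rw [← mul_assoc, ← hc2.eq]
  refine ⟨_, u, Y, e', μ, α, huV, hγ, htang, ?_, he', hY, ?_, ?_, fun h => ?_⟩
  · -- the length of the base
    have hβ : Fr.β i = Fr.ν cB * Fr.φ i := hB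
    have h3 : Fr.bi i = Fr.ν (Fr.σ (Fr.wi i)⁻¹ cB) * Fr.tang i := by
      show Fr.act _ _ = _
      rw [hβ, Fr.act_ν (inv_mem (Fr.wi_mem i))]; rfl
    rw [htang, ← mul_assoc, ← map_mul] at h3
    have hμ1 : Fr.σ (Fr.wi i)⁻¹ cB * μ = 1 :=
      Fr.ν_inj ((mul_right_cancel₀ hb0 (h3.symm.trans (one_mul _).symm)).trans (map_one _).symm)
    have hval : ((a' * (Units.mk0 cB hcB)⁻¹ : Fˣ) : F) = (dt i'.1 i.1)⁻¹ * cB⁻¹ * cB⁻¹ := by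
      rw [Units.val_mul, Units.val_inv_eq_inv_val, Units.val_mk0, ← eq_inv_of_mul_eq_one_left hd1]
      field_simp
    rw [hval, map_mul, map_mul, map_inv₀ (Fr.σ (Fr.wi i)⁻¹) cB, inv_eq_of_mul_eq_one_right hμ1, hα]
    ring
  · have hu2 : ((Fr.wi i)⁻¹ * u * Fr.wi i) * ((Fr.wi i)⁻¹ * u * Fr.wi i) * c₁⁻¹ =
        (Fr.wi i)⁻¹ * Fr.v * Fr.wi i := by
      calc ((Fr.wi i)⁻¹ * u * Fr.wi i) * ((Fr.wi i)⁻¹ * u * Fr.wi i) * c₁⁻¹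
          = (Fr.wi i)⁻¹ * (u * u * Fr.wi i) * c₁⁻¹ := by group
        _ = _ := by rw [← hst2, hs2]; group
    have h1 := he' 1
    have hc₁a : c₁⁻¹ • a = a := Frame.D_a (inv_mem (Subgroup.mem_inf.1 hc₁).1)
    rw [← hu2, Fr.act_mul (by rw [mul_smul, hUa, hUa]) hc₁a, hm, Fr.act_mul hUa hUa, hY, hY, mul_one, mul_one] at h1
    linear_combination h1
  · refine mul_right_cancel₀ hb0 ?_
    linear_combination q1 + q2 - (Y * Fr.bi i') * CharTwo.two_eq_zero (R := E)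
  · have he1 := he'1 (CharTwo.add_eq_zero.1 h).symm
    exact Fr.v_ne_one (by
      calc Fr.v = Fr.wi i * ((Fr.wi i)⁻¹ * Fr.v * Fr.wi i) * (Fr.wi i)⁻¹ := by group
        _ = 1 := by rw [he1]; group)

/-- The multiplier is constant. -/
theorem tri_eq {c₁ : G} {m : E} (hc₁ : c₁ ∈ centI Ω a t) (hm : ∀ e, Fr.act c₁⁻¹ e = m * e)
    (hst : ∀ i, (Fr.st i).1 = Fr.θv i.1 ∧ Fr.wi (Fr.st i) = Fr.v * Fr.wi i * c₁ ∧
      Fr.bi (Fr.st i) = m * Fr.bi i) (hm1 : m ≠ 1) (hm0 : m ≠ 0) {i k : Fr.Un} (hk : k ≠ i) :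
    ∃ μ : F, μ ≠ 0 ∧ Fr.tang i = Fr.ν μ * Fr.bi i ∧ Fr.tang k = Fr.ν μ * Fr.bi k := by
  have hS := Fr.input.setup
  obtain ⟨γ, u, Y, e', μ, α, H⟩ := Fr.exists_tri hc₁ hm hst i
  obtain ⟨γk, uk, Yk, ek, μk, αk, Hk⟩ := Fr.exists_tri hc₁ hm hst k
  have hdk := Un.dt_ne Fr hk.symm
  set T' := (dt i.1 k.1)⁻¹ • k.1 with hT'
  have hT'r : dt T' i.1 = 1 := by rw [hT', dt_smul_left, dt_comm k.1, inv_mul_cancel₀ hdk]
  set x := (Fr.pp T' i.1)⁻¹ with hx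
  have hxQ : x ∈ Q := inv_mem (Fr.pp_mem hT'r)
  obtain ⟨c, hc⟩ := Fr.exists_zc_of_ca_eq hxQ (Fr.pp_mem hT'r) (Fr.ca_inv (Fr.pp_mem hT'r))
  rw [← Fr.pp_add hT'r] at hc
  have hTr : dt (T' + c • i.1) i.1 = 1 := by rw [dt_add_left, hT'r, dt_smul_left, dt_self, mul_zero, add_zero]
  obtain ⟨j, hj, hTj⟩ := Fr.top_eq hTr
  rw [hTj] at hc
  obtain ⟨hg, hd, -⟩ := Fr.pair_rel hj hk (by rw [← hc, hx, inv_inv])
  set g := Fr.wi i * (Fr.wi j)⁻¹ with hgdef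
  have hgT : g ∈ centT Ω a t := mul_mem (Fr.wi_mem i) (inv_mem (Fr.wi_mem j))
  have hdj := Un.dt_ne Fr hj.symm
  set d := Units.mk0 _ hdj with hd0
  set dk := Units.mk0 _ hdk with hdk0
  set y := Fr.v * x⁻¹ * Fr.v⁻¹ with hy
  have hx1 : x ≠ 1 := inv_ne_one.2 (Fr.pp_ne hT'r)
  have hyQ : y ∈ Q := hS.conj_mem _ Fr.v_a _ (inv_mem hxQ)
  have hy1 : y ≠ 1 := fun h => hx1 (inv_eq_one.1 (conj_eq_one_iff.1 h))
  have hxi : Fr.ca x⁻¹ = Fr.φ i := by rw [hx, inv_inv, Fr.ca_pp hT'r]; rfl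
  have hxy : x * y = Fr.δh (Fr.φ i) := by rw [← hxi, ← Fr.δh_eq (inv_mem hxQ), inv_inv, hy]
  obtain ⟨-, -, hmul⟩ := Fr.input.fh_mul hxQ hyQ hx1 hy1 (hxy ▸ Fr.δh_ne (Fr.φ_ne i))
  have hηx : Fr.input.hh x = Fr.kl d * g⁻¹ := by rw [hc]; exact Fr.η_unit hj
  have hfi : Fr.input.f x⁻¹ = Fr.pp i.1 T' := by rw [hx, inv_inv, Fr.pp_swap hT'r]
  have hfiQ := Fr.pp_mem ((dt_comm i.1 T').trans hT'r)
  have hvD := (Subgroup.mem_inf.1 Fr.v_mem).1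
  have hvt := Fr.w_t (centI_le_centT (hS := hS) Fr.v_mem)
  have hfy : Fr.input.f y = Fr.v * Fr.input.f x⁻¹ * Fr.v⁻¹ := by
    rw [hy, (Fr.input.fh_conj (inv_mem hxQ) (inv_ne_one.2 hx1) hvD).1, hvt]
  have hhy : Fr.input.hh y = Fr.v * (g * Fr.kl d) * Fr.v⁻¹ := by
    rw [hy, (Fr.input.fh_conj (inv_mem hxQ) (inv_ne_one.2 hx1) hvD).2, hvt, (Fr.input.fh_eq hxQ hx1).2, hηx,
      mul_inv_rev, inv_inv]
    have h4 : t * (g * (Fr.kl d)⁻¹) * t = g * Fr.kl d := by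
      calc t * (g * (Fr.kl d)⁻¹) * t = (t * g * t) * (t * (Fr.kl d)⁻¹ * t) := by
            rw [show (t * g * t) * (t * (Fr.kl d)⁻¹ * t) = t * g * (t * t) * (Fr.kl d)⁻¹ * t by
              simp only [mul_assoc], hS.mul_self, mul_one]
            simp only [mul_assoc]
        _ = _ := by rw [Fr.w_t hgT, ← map_inv, Fr.coord.t_kl hS, inv_inv]
    rw [h4]
  rw [hxy, hfy, hfi, Fr.δh_eq hfiQ, Fr.ca_pp ((dt_comm i.1 T').trans hT'r), H.hh_eq, hηx, hhy,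
    show Fr.Φ T' = Fr.ν (dt i.1 k.1)⁻¹ * Fr.φ k from Fr.Φ_smul _ _,
    Fr.δh_kl _ (inv_ne_zero hdk), show (Units.mk0 (dt i.1 k.1)⁻¹ (inv_ne_zero hdk))⁻¹ = dk from
      Units.ext (by rw [Units.val_inv_eq_inv_val, Units.val_mk0, inv_inv]; rfl),
    (Fr.input.fh_conj (Fr.δh_mem _) (Fr.δh_ne (Fr.φ_ne k)) (Fr.coord.kl_D dk)).2, Fr.coord.t_kl hS,
    Hk.hh_eq] at hmul
  -- the normal form
  have hgi : Units.map (Fr.σ g⁻¹ : F →* F) dk = d := Units.ext (by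
    show Fr.σ g⁻¹ (dt i.1 k.1) = dt i.1 j.1
    rw [Fr.σ_inv hgT, hd, RingEquiv.symm_apply_apply])
  have hsw : ∀ l, g⁻¹ * Fr.kl l = Fr.kl (Units.map (Fr.σ g⁻¹ : F →* F) l) * g⁻¹ := fun l => by
    rw [← Fr.σ_kl (inv_mem hgT), inv_mul_cancel_right]
  have hswg : (Fr.kl dk)⁻¹ * g = g * (Fr.kl d)⁻¹ := by
    have h5 := hsw dk
    rw [hgi] at h5
    calc (Fr.kl dk)⁻¹ * g = g * (g⁻¹ * (Fr.kl dk)⁻¹ * g) := by group
      _ = g * ((g⁻¹ * Fr.kl dk) * g)⁻¹ := by group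
      _ = _ := by rw [h5]; group
  set γ' := Units.map (Fr.σ g⁻¹ : F →* F) γk with hγ'
  have hform : Fr.kl γ * u⁻¹ = Fr.kl γ' * (g⁻¹ * uk⁻¹ * Fr.v * g * Fr.v⁻¹) := by
    rw [hmul]
    have c1 : Commute (Fr.kl dk)⁻¹ Fr.v := (Fr.v_comm_kl dk).symm.inv_left
    calc Fr.kl d * g⁻¹ * (Fr.kl dk⁻¹ * (Fr.kl γk * uk⁻¹) * (Fr.kl dk)⁻¹) * (Fr.v * (g * Fr.kl d) * Fr.v⁻¹)
        = Fr.kl d * (g⁻¹ * Fr.kl (dk⁻¹ * γk)) * uk⁻¹ * ((Fr.kl dk)⁻¹ * Fr.v) * g * Fr.kl d * Fr.v⁻¹ := by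
          rw [map_mul]; simp only [mul_assoc]
      _ = Fr.kl d * (Fr.kl (d⁻¹ * γ') * g⁻¹) * uk⁻¹ * (Fr.v * (Fr.kl dk)⁻¹) * g * Fr.kl d * Fr.v⁻¹ := by
          rw [hsw, map_mul (Units.map _), map_inv, hgi, c1.eq]
      _ = Fr.kl d * Fr.kl (d⁻¹ * γ') * g⁻¹ * uk⁻¹ * Fr.v * ((Fr.kl dk)⁻¹ * g) * Fr.kl d * Fr.v⁻¹ := by
          simp only [mul_assoc]
      _ = _ := by
          rw [hswg, ← map_mul, mul_inv_cancel_left]
          simp only [mul_assoc, inv_mul_cancel_left]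
  have huT := centI_le_centT (hS := hS) H.u_mem
  have hukT := centI_le_centT (hS := hS) Hk.u_mem
  have hvT := centI_le_centT (hS := hS) Fr.v_mem
  obtain ⟨hγe, hue⟩ := Fr.klw_unique (inv_mem huT)
    (mul_mem (mul_mem (mul_mem (mul_mem (inv_mem hgT) (inv_mem hukT)) hvT) hgT) (inv_mem hvT)) hform
  have hwk : Fr.wi k = g * Fr.wi i := by rw [← hg, inv_mul_cancel_right]
  have hP : μ * α = μk * αk := by
    rw [← H.γ_eq, ← Hk.γ_eq, hγe, hγ', Units.coe_map]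
    show Fr.σ (Fr.wi i)⁻¹ (Fr.σ g⁻¹ (γk : F)) = _
    rw [← Fr.σ_mul (inv_mem (Fr.wi_mem i)) (inv_mem hgT), ← mul_inv_rev, ← hwk]
  -- the scalars
  have key : ∀ {n : Fr.Un} {γ u Y e' μ α}, Fr.Tri m n γ u Y e' μ α →
      Fr.act ((Fr.wi n)⁻¹ * (u⁻¹ * Fr.v) * Fr.wi n) 1 = m * Y := by
    intro n γ u Y e' μ α Hn
    have hU := (Subgroup.mem_inf.1 (Fr.centI_conj Hn.u_mem (Fr.wi_mem n))).1
    have hV := (Subgroup.mem_inf.1 (Fr.centI_conj Fr.v_mem (Fr.wi_mem n))).1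
    have hY0 : Y ≠ 0 := fun e => by
      have h6 := Hn.act_u' 1
      rw [e, zero_mul] at h6
      exact Fr.act_ne_zero (Frame.D_a hU) one_ne_zero h6
    rw [show (Fr.wi n)⁻¹ * (u⁻¹ * Fr.v) * Fr.wi n =
        ((Fr.wi n)⁻¹ * u * Fr.wi n)⁻¹ * ((Fr.wi n)⁻¹ * Fr.v * Fr.wi n) by group,
      Fr.act_mul (Frame.D_a (inv_mem hU)) (Frame.D_a hV), Hn.act_v', mul_one,
      show e' = Y * (m * Y) by rw [← Hn.Y_sq]; ring, ← Hn.act_u', Fr.act_inv_act (Frame.D_a hU)]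
  have hYY : Y = Yk := by
    refine mul_left_cancel₀ hm0 ?_
    rw [← key H, ← key Hk, hue, hwk]
    congr 1
    group
  have hee : e' = ek := by rw [← H.Y_sq, ← Hk.Y_sq, hYY]
  have hαα : α = αk := by
    have h := H.eq
    rw [hYY, Hk.eq, hee] at h
    exact (Fr.ν_inj (mul_right_cancel₀ Hk.e'_ne h)).symm
  have hY0 : Yk ≠ 0 := fun e => by
    have h := Hk.act_u' 1
    rw [e, zero_mul] at h
    exact Fr.act_ne_zero (Frame.D_a (Subgroup.mem_inf.1 (Fr.centI_conj Hk.u_mem (Fr.wi_mem k))).1) one_ne_zero h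
  have hα0 : αk ≠ 0 := fun e => by
    have h := Hk.eq
    rw [e, map_zero, zero_mul, mul_eq_zero, or_iff_left hY0] at h
    exact hm1 (CharTwo.add_eq_zero.1 h).symm
  have hμ : μ = μk := by
    rw [hαα] at hP
    exact mul_right_cancel₀ hα0 hP
  exact ⟨μ, fun e => Fr.tang_ne i (by rw [H.tang_eq, e, map_zero, zero_mul]), H.tang_eq, by rw [hμ, Hk.tang_eq]⟩

theorem exists_muData : Nonempty Fr.MuData := by
  obtain ⟨c₁, m, hc₁, hm1, hmn, hmp, hm, hst'⟩ := Fr.exists_scalar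
  have hst : ∀ i, (Fr.st i).1 = Fr.θv i.1 ∧ Fr.wi (Fr.st i) = Fr.v * Fr.wi i * c₁ ∧
      Fr.bi (Fr.st i) = m * Fr.bi i := fun i => ⟨(hst' i).1, (hst' i).2.1, (hst' i).2.2.1⟩
  have hm0 : m ≠ 0 := fun e => by rw [e, mul_zero] at hmn; exact zero_ne_one hmn
  obtain ⟨μ, hμ, h1, -⟩ := Fr.tri_eq hc₁ hm hst hm1 hm0 (Fr.st_ne Fr.u₀)
  have hb : ∀ i, Fr.bi i ≠ 0 := fun i h => by
    obtain ⟨c, -, e⟩ := Fr.bi_tang i
    exact Fr.tang_ne i (by rw [e, h, mul_zero])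
  have hall : ∀ i, Fr.tang i = Fr.ν μ * Fr.bi i := fun i => by
    by_cases h : i = Fr.u₀
    · rw [h]; exact h1
    · obtain ⟨μ', -, e1, e2⟩ := Fr.tri_eq hc₁ hm hst hm1 hm0 h
      rw [h1] at e1
      rw [e2, ← Fr.ν_inj (mul_right_cancel₀ (hb _) e1)]
  exact ⟨{ μ := Units.mk0 μ hμ, st := Fr.st, c₁ := c₁, m := m, bi_ne := hb
           φ_eq := fun i => by
             rw [Units.val_mk0, ← hall]
             have h := Fr.act_inv_act (Fr.wi_inv_a i) (Fr.φ i)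
             rw [inv_inv] at h
             exact h.symm
           c₁_mem := hc₁, st_row := fun i => (hst i).1, wi_st := fun i => (hst i).2.1
           bi_st := fun i => (hst i).2.2, m_ne := hm1, m_norm := hmn, m_pow := hmp
           Bf_line := fun e he => Fr.Bf_line he }⟩

end Frame

end Cfsg.Lib.BenderSuzuki.U3
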