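import Cfsg.Agent.BenderSuzuki.U3.Basic
import Cfsg.Agent.BenderSuzuki.RootGroup
import Cfsg.Agent.BenderSuzuki.Sub

/-!
The case `|Q| = q ^ 3`: the standing hypotheses hold, by induction.
-/

set_option autoImplicit false
set_option linter.unusedSectionVars false

namespace Cfsg.Lib.BenderSuzuki.U3

open MulAction Cfsg.Lib.RankOne

universe u v

variable {G : Type u} {Ω : Type v} [Group G] [Finite G] [MulAction G Ω] {a : Ω} {t : G} {Q : Subgroup G}

/-- A nontrivial element of `V` centralises in `Q` only the involutions. -/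
theorem Input.of_step (hs : Simple G Ω a t Q) (hIH : IH.{u, v} (Nat.card G)) (hL : CaseL a t Q)
    (hn : Nat.card Q = qNum G a ^ 3) (hna : NonAb Q) (hV : centI Ω a t ≠ ⊥) : Input Ω a t Q := by
  refine ⟨hs, hL, hn, hna, fun x hx hx1 p hp hxp => ?_, hV⟩
  have hS := hs.setup
  have hall : ∀ z ∈ invl G a, Commute x z := fun z hz =>
    (Subgroup.mem_centralizer_iff.1 (Subgroup.mem_inf.1 hx).2 z hz).symm
  obtain ⟨hxT, -⟩ := Subgroup.mem_inf.1
    ((cent_all (hS := hS)).symm ▸ (show x ∈ twoStab Ω a t ⊓ Subgroup.centralizer (invl G a) from hx))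
  have hq : Nat.card {z // z ∈ invl G a ∧ Commute x z} + 1 = qNum G a := by
    rw [qNum]
    congr 1
    exact Nat.card_congr (Equiv.subtypeEquivRight fun z => and_iff_left_of_imp (hall z))
  obtain ⟨k, hk2, hk⟩ := qNum_pow hs
  have hq4 : 4 ≤ qNum G a := by
    rw [hk]
    calc 4 = 2 ^ 2 := rfl
      _ ≤ 2 ^ k := Nat.pow_le_pow_right two_pos hk2
  rcases (centStep hs hIH x hxT hx1 _ hq hq4).1 hL with hc | ⟨hc, -⟩
  · -- only the involutions are centralised
    have hle : zGroup hs ≤ Q ⊓ Subgroup.centralizer {x} := fun z hz => by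
      refine Subgroup.mem_inf.2 ⟨zGroup_le hs hz, Subgroup.mem_centralizer_singleton_iff.2 ?_⟩
      rcases (mem_zGroup hs).1 hz with rfl | hz'
      · rw [one_mul, mul_one]
      · exact (hall z hz').symm.eq
    have e := Subgroup.eq_of_le_of_card_ge hle (by rw [hc, card_zGroup hs])
    exact involGroup_sq hS hs.two (e.ge ⟨hp, Subgroup.mem_centralizer_singleton_iff.2 hxp.symm.eq⟩)
  · -- otherwise all of `Q` is centralised
    exfalso
    have e : Q ⊓ Subgroup.centralizer {x} = Q := Subgroup.eq_of_le_of_card_ge inf_le_left (by rw [hc, hn])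
    haveI := hs.faithful
    refine hx1 (FaithfulSMul.eq_of_smul_eq_smul fun w : Ω => ?_)
    rw [one_smul]
    obtain ⟨hxa, hxb⟩ := Subgroup.mem_inf.1 (Subgroup.mem_inf.1 hxT).1
    rcases eq_or_ne w a with rfl | hw
    · exact hxa
    obtain ⟨y, hy, -⟩ := regular hS (ta_ne hS) hw
    have hc' : (y : G) * x = x * y := Subgroup.mem_centralizer_singleton_iff.1 (e.ge y.2).2
    rw [← hy, ← mul_smul, ← hc', mul_smul, show x • t • a = t • a from hxb]

end Cfsg.Lib.BenderSuzuki.U3
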