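import Cfsg.Agent.BenderSuzuki.U3.ZField
import Cfsg.Agent.UnitaryThreeEven.Field

/-!
The case `|Q| = q ^ 3`: the field with `q ^ 2` elements on `Q / Z`.
-/

set_option autoImplicit false
set_option linter.unusedSectionVars false
set_option linter.style.haveILetI false
set_option maxHeartbeats 800000

namespace Cfsg.Lib.BenderSuzuki.U3

open MulAction Cfsg.Lib.RankOne

universe u v

variable {G : Type u} {Ω : Type v} [Group G] [Finite G] [MulAction G Ω] {a : Ω} {t : G} {Q : Subgroup G}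

/-- Coordinates on `Q / Z` over the field with `q ^ 2` elements. -/
structure Frame (Ω : Type v) [MulAction G Ω] (a : Ω) (t : G) (Q : Subgroup G) (F E : Type) [Field F] [Fintype F]
    [CharP F 2] [Field E] [Fintype E] [CharP E 2] where
  /-- the involutory automorphism and the order -/
  D : UThreeEven.Dat E
  /-- the central involutions -/
  zc : F → G
  /-- the inverted elements -/
  kl : Fˣ →* G
  /-- the scalar belonging to an inverted element -/
  ν : F →*₀ E
  /-- the coordinate -/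
  ca : G → E
  /-- an element of prime order -/
  v : G
  /-- its scalar -/
  ε : E
  input : Input Ω a t Q
  coord : ZCoord Ω a t Q F zc kl
  q_eq : D.q = qNum G a
  ν_inj : Function.Injective ν
  ν_fix : ∀ c, D.bar (ν c) = ν c
  ν_surj : ∀ e, D.bar e = e → ∃ c, ν c = e
  ca_mul : ∀ p ∈ Q, ∀ r ∈ Q, ca (p * r) = ca p + ca r
  ca_zero_iff : ∀ p ∈ Q, ca p = 0 ↔ p * p = 1
  ca_surj : ∀ e, ∃ p ∈ Q, ca p = e
  ca_kl : ∀ (l : Fˣ), ∀ p ∈ Q, ν (l : F) * ca (kl l * p * (kl l)⁻¹) = ca p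
  v_mem : v ∈ centI Ω a t
  v_prime : (orderOf v).Prime
  v_norm : ∀ w ∈ centT Ω a t, w * v * w⁻¹ ∈ Subgroup.zpowers v
  ca_v : ∀ p ∈ Q, ca (v * p * v⁻¹) = ε * ca p
  ε_ne : ε ≠ 1
  ε_norm : D.bar ε * ε = 1
  semi : ∀ w ∈ centT Ω a t, ∃ (σ : F ≃+* F) (σE : E ≃+* E) (c : E), c ≠ 0 ∧ (∀ x, σE (ν x) = ν (σ x)) ∧
    (∀ x, w * zc x * w⁻¹ = zc (σ x)) ∧ (∀ l : Fˣ, w * kl l * w⁻¹ = kl (Units.map (σ : F →* F) l)) ∧
    ∀ p ∈ Q, ca (w * p * w⁻¹) = c * σE (ca p)
  lin : ∀ w ∈ centI Ω a t, ∃ c : E, D.bar c * c = 1 ∧ (c = 1 → w = 1) ∧ ∀ p ∈ Q, ca (w * p * w⁻¹) = c * ca p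

theorem centI_le_centT {hS : Cfsg.IsRankOneSetup G Ω a t Q} {w : G} (hw : w ∈ centI Ω a t) : w ∈ centT Ω a t :=
  (Subgroup.mem_inf.1 ((cent_all (hS := hS)).symm ▸ (show w ∈ twoStab Ω a t ⊓ Subgroup.centralizer (invl G a) from hw))).1

theorem kl_comm_centI {hS : Cfsg.IsRankOneSetup G Ω a t Q} {w k : G} (hw : w ∈ centI Ω a t) (hk : k ∈ invK Ω a t) :
    k * w = w * k :=
  Subgroup.mem_centralizer_iff.1 (Subgroup.mem_inf.1 ((cent_all (hS := hS)).symm ▸
    (show w ∈ twoStab Ω a t ⊓ Subgroup.centralizer (invl G a) from hw))).2 k hk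

theorem Input.exists_frame (I : Input Ω a t Q) :
    ∃ (F E : Type) (_ : Field F) (_ : Fintype F) (_ : CharP F 2) (_ : Field E) (_ : Fintype E) (_ : CharP E 2),
      Nonempty (Frame Ω a t Q F E) := by
  classical
  have hS := I.setup
  haveI := Fact.mk Nat.prime_two
  obtain ⟨F, iF, iFF, zc, kl, C⟩ := I.exists_zcoord
  haveI := C.char_two
  obtain ⟨v, hv, hvp, hvn⟩ := I.exists_v
  obtain ⟨k, hk⟩ := I.exists_exp
  have hq4 := I.q_four
  have hk2 : 2 ≤ k := by
    by_contra h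
    have : qNum G a ≤ 2 := by rw [hk]; calc 2 ^ k ≤ 2 ^ 1 := Nat.pow_le_pow_right two_pos (by omega)
                                         _ = 2 := rfl
    omega
  have hcu : Nat.card Fˣ = qNum G a - 1 := by rw [Nat.card_units, Nat.card_eq_fintype_card, C.card]
  -- the quotient
  let S := stabilizer G a
  let Z' := I.Z.subgroupOf S
  haveI hZn : Z'.Normal := ⟨fun x hx g => by
    simp only [Z', Subgroup.mem_subgroupOf] at hx ⊢
    exact I.Z_conj g.2 hx⟩
  let π := QuotientGroup.mk' Z'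
  have hπ : ∀ {x : S}, π x = 1 ↔ (x : G) ∈ I.Z := fun {x} =>
    (QuotientGroup.eq_one_iff (N := Z') _).trans Subgroup.mem_subgroupOf
  have hπeq : ∀ {x y : S}, π x = π y ↔ (x : G)⁻¹ * y ∈ I.Z := fun {x y} =>
    (QuotientGroup.eq (s := Z') (a := x) (b := y)).trans Subgroup.mem_subgroupOf
  let H := (Q.subgroupOf S).map π
  have hQS : ∀ {p}, p ∈ Q → p ∈ S := fun hp => hS.le hp
  have hπH : ∀ {p} (hp : p ∈ Q), π ⟨p, hQS hp⟩ ∈ H := fun hp =>
    Subgroup.mem_map_of_mem _ (Subgroup.mem_subgroupOf.2 hp)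
  haveI : (Q.subgroupOf S).Normal := ⟨fun x hx g => by
    simp only [Subgroup.mem_subgroupOf] at hx ⊢
    exact hS.conj_mem g g.2 _ hx⟩
  haveI hHn : H.Normal := Subgroup.Normal.map inferInstance π (QuotientGroup.mk'_surjective Z')
  have hHab : IsMulCommutative H := ⟨⟨by
    rintro ⟨_, x, hx, rfl⟩ ⟨_, y, hy, rfl⟩
    refine Subtype.ext ?_
    show π x * π y = π y * π x
    rw [← map_mul, ← map_mul, hπeq]
    have := I.comm_mem (inv_mem (Subgroup.mem_subgroupOf.1 hy)) (inv_mem (Subgroup.mem_subgroupOf.1 hx))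
    simpa [mul_inv_rev, mul_assoc] using this⟩⟩
  have hHcard : Nat.card H = qNum G a ^ 2 := by
    have h1 : Nat.card H * Nat.card I.Z = Nat.card Q := by
      let f : Q →* S ⧸ Z' := π.comp (Subgroup.inclusion hS.le)
      have hr : f.range = H := by
        ext x
        constructor
        · rintro ⟨p, rfl⟩; exact hπH p.2
        · rintro ⟨p, hp, rfl⟩; exact ⟨⟨p, Subgroup.mem_subgroupOf.1 hp⟩, rfl⟩
      have hk' : f.ker = I.Z.subgroupOf Q := by
        ext x
        rw [MonoidHom.mem_ker, Subgroup.mem_subgroupOf]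
        exact hπ
      rw [← hr, ← Subgroup.index_ker, hk',
        ← Nat.card_congr (Subgroup.subgroupOfEquivOfLe I.Z_le).toEquiv]
      exact Subgroup.index_mul_card _
    rw [I.card_Z, I.card_Q, show qNum G a ^ 3 = qNum G a ^ 2 * qNum G a from pow_succ _ 2] at h1
    exact Nat.eq_of_mul_eq_mul_right (by omega) h1
  -- the acting group
  have hklS : ∀ l, kl l ∈ S := fun l => (Subgroup.mem_inf.1 (C.kl_D l)).1
  have hVS : ∀ {w}, w ∈ centI Ω a t → w ∈ S := fun hw => (Subgroup.mem_inf.1 (Subgroup.mem_inf.1 hw).1).1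
  let K : Subgroup G := kl.range
  let X : Subgroup G := K ⊔ Subgroup.zpowers v
  have hcomm : ∀ l, ∀ w ∈ centI Ω a t, kl l * w = w * kl l := fun l w hw =>
    kl_comm_centI (hS := hS) hw (C.kl_mem l)
  have hXmem : ∀ x ∈ X, ∃ l, ∃ i : ℤ, x = kl l * v ^ i := by
    intro x hx
    have hle : Subgroup.zpowers v ≤ Subgroup.normalizer (K : Set G) := by
      refine le_trans ?_ (Subgroup.centralizer_le_normalizer _)
      rw [Subgroup.zpowers_le]
      refine Subgroup.mem_centralizer_iff.2 ?_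
      rintro _ ⟨l, rfl⟩
      exact hcomm l v hv
    rw [← SetLike.mem_coe, Subgroup.coe_mul_of_right_le_normalizer_left _ _ hle] at hx
    obtain ⟨_, ⟨l, rfl⟩, _, ⟨i, rfl⟩, rfl⟩ := hx
    exact ⟨l, i, rfl⟩
  have hklX : ∀ l, kl l ∈ X := fun l => Subgroup.mem_sup_left ⟨l, rfl⟩
  have hvX : v ∈ X := Subgroup.mem_sup_right (Subgroup.mem_zpowers v)
  have hXS : X ≤ S := fun x hx => by
    obtain ⟨l, i, rfl⟩ := hXmem x hx
    exact mul_mem (hklS l) (zpow_mem (hVS hv) i)
  let E' := (X.subgroupOf S).map π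
  have hE'ab : ∀ x ∈ E', ∀ y ∈ E', x * y = y * x := by
    rintro _ ⟨⟨x, hx⟩, hx', rfl⟩ _ ⟨⟨y, hy⟩, hy', rfl⟩
    rw [← map_mul, ← map_mul]
    congr 1
    refine Subtype.ext ?_
    show x * y = y * x
    obtain ⟨l, i, rfl⟩ := hXmem x (Subgroup.mem_subgroupOf.1 hx')
    obtain ⟨m, j, rfl⟩ := hXmem y (Subgroup.mem_subgroupOf.1 hy')
    have c1 : Commute (kl l) (v ^ j) := hcomm l _ (zpow_mem hv j)
    have c2 : Commute (kl m) (v ^ i) := hcomm m _ (zpow_mem hv i)
    have c3 : Commute (kl l) (kl m) := (Commute.all l m).map kl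
    have c4 : Commute (v ^ i) (v ^ j) := (Commute.refl v).zpow_zpow i j
    exact (Commute.mul_left (c3.mul_right c1) (c2.symm.mul_right c4)).eq
  have hnorm : E' ≤ Subgroup.normalizer (H : Set (S ⧸ Z')) := by
    rw [Subgroup.normalizer_eq_top (H := H)]
    exact le_top
  have hfix : ∀ l, ∀ w ∈ centI Ω a t, ∀ p ∈ Q, kl l * w ≠ 1 →
      p⁻¹ * (kl l * w * p * (kl l * w)⁻¹) ∈ I.Z → p ∈ I.Z :=
    fun l w hw p hp hne h => I.mem_Z_of_fixed (C.kl_mem l) hw hne hp h
  have hfpf : Cfsg.Lib.Frobenius.Fpf E' H := by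
    rintro _ ⟨⟨y, hyS⟩, hy, rfl⟩ hy1
    obtain ⟨l, i, e⟩ := hXmem y (Subgroup.mem_subgroupOf.1 hy)
    rw [Subgroup.eq_bot_iff_forall]
    rintro _ ⟨⟨p, hp, rfl⟩, hc⟩
    replace hc := Subgroup.mem_centralizer_singleton_iff.1 hc
    refine hπ.2 (hfix l _ (zpow_mem hv i) p (Subgroup.mem_subgroupOf.1 hp) (fun h1 => hy1 (hπ.2 ?_)) ?_)
    · show y ∈ I.Z
      rw [e, h1]; exact one_mem _
    · rw [← e]
      have := (hπeq (x := p) (y := (⟨y, hyS⟩ : S) * p * (⟨y, hyS⟩ : S)⁻¹)).1 (by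
        rw [map_mul, map_mul, map_inv]
        exact eq_mul_inv_of_mul_eq hc)
      exact this
  -- the image of the inverted elements
  have hklE : ∀ l, π ⟨kl l, hklS l⟩ ∈ E' := fun l => Subgroup.mem_map_of_mem _ (Subgroup.mem_subgroupOf.2 (hklX l))
  have hvE : π ⟨v, hVS hv⟩ ∈ E' := Subgroup.mem_map_of_mem _ (Subgroup.mem_subgroupOf.2 hvX)
  have hZD : ∀ {d}, d ∈ twoStab Ω a t → d ∈ I.Z → d = 1 := fun hd hdZ =>
    eq_one_of_odd (orderOf_odd_mem hS.odd_card hd) (I.mem_Z.1 hdZ).2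
  have hklinj : Function.Injective fun l => π ⟨kl l, hklS l⟩ := fun l m h => by
    refine C.kl_inj (inv_mul_eq_one.1 (hZD (mul_mem (inv_mem (C.kl_D l)) (C.kl_D m)) (hπeq.1 h)))
  have hv_notK : ∀ l, π ⟨v, hVS hv⟩ ≠ π ⟨kl l, hklS l⟩ := by
    intro l h
    have h1 := inv_mul_eq_one.1 (hZD (mul_mem (inv_mem (Subgroup.mem_inf.1 hv).1) (C.kl_D l)) (hπeq.1 h))
    have h2 := I.K_inter_V (C.kl_mem l) (h1 ▸ hv)
    rw [h1, h2, orderOf_one] at hvp
    exact Nat.not_prime_one hvp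
  -- a minimal invariant subgroup
  let 𝒲 : Set (Subgroup (S ⧸ Z')) := {W | W ≤ H ∧ W ≠ ⊥ ∧ ∀ e ∈ E', ∀ x ∈ W, e * x * e⁻¹ ∈ W}
  have hHne : H ≠ ⊥ := fun h => by
    rw [h, Subgroup.card_bot] at hHcard
    nlinarith
  obtain ⟨W0, hW0, hmin⟩ := (wellFounded_lt (α := Subgroup (S ⧸ Z'))).has_min 𝒲
    ⟨H, le_rfl, hHne, fun e _ x hx => hHn.conj_mem x hx e⟩
  obtain ⟨hW0H, hW0ne, hW0inv⟩ := hW0
  have hW0ab : IsMulCommutative W0 :=
    ⟨⟨fun x y => Subtype.ext (congrArg Subtype.val (hHab.is_comm.comm ⟨x, hW0H x.2⟩ ⟨y, hW0H y.2⟩) :)⟩⟩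
  obtain ⟨E, iE, iEF, ι, χ, hcardE, hι, hι0, hιadd, hχ0, hχinj, hχmul, hχact, hgen⟩ :=
    exists_irreducible_coords W0 E' hW0ab hE'ab hW0inv
      (fun e he he1 x hx h => hfpf.eq_one he he1 (hW0H hx) h)
      ((Subgroup.one_lt_card_iff_ne_bot W0).2 hW0ne)
      (fun W hW hWinv => (eq_or_ne W ⊥).imp_right fun h => by
        by_contra hne
        exact hmin W ⟨hW.trans hW0H, h, hWinv⟩ (lt_of_le_of_ne hW hne))
  letI := iE
  letI := iEF
  let K' := ((kl.range).subgroupOf S).map π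
  have hK'E : K' ≤ E' := Subgroup.map_mono (fun x hx => Subgroup.mem_sup_left hx)
  have hK'card : Nat.card K' = qNum G a - 1 := by
    rw [← hcu]
    refine (Nat.card_eq_of_bijective (fun l => (⟨π ⟨kl l, hklS l⟩,
      Subgroup.mem_map_of_mem _ (Subgroup.mem_subgroupOf.2 ⟨l, rfl⟩)⟩ : K')) ⟨?_, ?_⟩).symm
    · exact fun l m h => hklinj (congrArg Subtype.val h)
    · rintro ⟨_, ⟨x, hx⟩, hx', rfl⟩
      obtain ⟨l, rfl⟩ := Subgroup.mem_subgroupOf.1 hx'
      exact ⟨l, rfl⟩
  have hW0top : W0 = H := by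
    refine Subgroup.eq_of_le_of_card_ge hW0H ?_
    have hHp : IsPGroup 2 H := IsPGroup.of_card (n := k * 2) (by rw [hHcard, hk, pow_mul])
    obtain ⟨j, hj⟩ := IsPGroup.iff_card.1 (hHp.to_le hW0H)
    have hd : qNum G a - 1 ∣ 2 ^ j - 1 := by
      rw [← hK'card, ← hj]
      exact Cfsg.Lib.Frobenius.Fpf.card_dvd (fun x hx => Subgroup.mem_normalizer_iff.2 fun y =>
        ⟨fun hy => hW0inv x (hK'E hx) y hy, fun hy => by
          have := hW0inv x⁻¹ (hK'E (inv_mem hx)) _ hy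
          simpa [mul_assoc] using this⟩)
        (fun e he he1 => eq_bot_iff.2 (le_trans (inf_le_inf_right _ hW0H) (hfpf e (hK'E he) he1).le))
    have hg : Nat.gcd k j = k := by
      refine Nat.pow_right_injective (le_refl 2) ?_
      have h1 := Nat.pow_sub_one_gcd_pow_sub_one 2 k j
      rw [Nat.gcd_eq_left (show 2 ^ k - 1 ∣ 2 ^ j - 1 from hk ▸ hd)] at h1
      have h2 := Nat.one_le_two_pow (n := k)
      have h3 := Nat.one_le_two_pow (n := Nat.gcd k j)
      show 2 ^ Nat.gcd k j = 2 ^ k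
      omega
    obtain ⟨i, rfl⟩ := Nat.gcd_eq_left_iff_dvd.1 hg
    rcases Nat.lt_or_ge i 2 with hi | hi
    · exfalso
      interval_cases i
      · rw [mul_zero, pow_zero] at hj
        exact hW0ne (Subgroup.card_eq_one.1 hj)
      · rw [mul_one, ← hk] at hj
        rw [hj] at hcardE
        let f : Option Fˣ → Eˣ := fun o => o.elim (Units.mk0 (χ ⟨_, hvE⟩) (hχ0 _))
          fun l => Units.mk0 (χ ⟨_, hklE l⟩) (hχ0 _)
        have hf : Function.Injective f := by
          rintro (_ | l) (_ | m) h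
          · rfl
          · exact absurd (congrArg Subtype.val (hχinj (congrArg Units.val h))) (hv_notK m)
          · exact absurd (congrArg Subtype.val (hχinj (congrArg Units.val h))).symm (hv_notK l)
          · rw [hklinj (congrArg Subtype.val (hχinj (congrArg Units.val h)))]
        have h1 := Nat.card_le_card_of_injective f hf
        rw [Finite.card_option, hcu, Nat.card_units, Nat.card_eq_fintype_card, hcardE] at h1
        omega
    · rw [hj, hHcard, hk, ← pow_mul]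
      exact Nat.pow_le_pow_right two_pos (Nat.mul_le_mul_left k hi)
  subst hW0top
  have hcE : Fintype.card E = qNum G a ^ 2 := hcardE.trans hHcard
  haveI : CharP E 2 := by
    refine charP_of_card_eq_prime_pow (f := k * 2) ?_
    rw [Fintype.card_eq_nat_card, ← Fintype.card_eq_nat_card, hcE, hk, pow_mul]
  obtain ⟨D, hDq⟩ := UThreeEven.Dat.exists_dat (F := E) (qNum G a) (by omega) hcE
  -- the coordinate
  choose inv hinv using hι.2
  let ca : G → E := fun p => if h : p ∈ Q then inv ⟨π ⟨p, hQS h⟩, hπH h⟩ else 0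
  have hca : ∀ p (hp : p ∈ Q) e, ca p = e ↔ (ι e : S ⧸ Z') = π ⟨p, hQS hp⟩ := by
    intro p hp e
    have h0 : (ι (ca p) : S ⧸ Z') = π ⟨p, hQS hp⟩ := by
      show ((ι (dite _ _ _)) : S ⧸ Z') = _
      rw [dif_pos hp, hinv]
    exact ⟨fun h => h ▸ h0, fun h => hι.1 (Subtype.ext (h0.trans h.symm))⟩
  have hca' : ∀ p (hp : p ∈ Q), (ι (ca p) : S ⧸ Z') = π ⟨p, hQS hp⟩ := fun p hp => (hca p hp _).1 rfl
  have hmul : ∀ p ∈ Q, ∀ r ∈ Q, ca (p * r) = ca p + ca r := fun p hp r hr => by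
    rw [hca _ (mul_mem hp hr), hιadd, Subgroup.coe_mul, hca' p hp, hca' r hr, ← map_mul]
    rfl
  have hzero : ∀ p ∈ Q, ca p = 0 ↔ p * p = 1 := fun p hp => by
    rw [hca p hp, hι0, Subgroup.coe_one, eq_comm, hπ, I.mem_Z]
    exact and_iff_right hp
  have hsurj : ∀ e, ∃ p ∈ Q, ca p = e := fun e => by
    obtain ⟨⟨p, hp⟩, hp', he⟩ := (ι e).2
    exact ⟨p, Subgroup.mem_subgroupOf.1 hp', (hca p (Subgroup.mem_subgroupOf.1 hp') e).2 he.symm⟩
  have hact : ∀ (x : G) (hx : x ∈ S) (hxE : π ⟨x, hx⟩ ∈ E') (p : G), p ∈ Q →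
      ca (x * p * x⁻¹) = χ ⟨_, hxE⟩ * ca p := fun x hx hxE p hp => by
    rw [hca _ (hS.conj_mem x hx p hp), hχact, hca' p hp]
    show π ⟨x, hx⟩ * π ⟨p, hQS hp⟩ * (π ⟨x, hx⟩)⁻¹ = _
    rw [← map_inv, ← map_mul, ← map_mul]
    rfl
  have hχone : χ 1 = 1 := by
    have h := hχmul 1 1
    rw [mul_one] at h
    exact (mul_eq_left₀ (hχ0 1)).1 h.symm
  let μ : Fˣ →* E :=
    { toFun := fun l => χ ⟨_, hklE l⟩
      map_one' := by
        rw [← hχone]
        refine congrArg χ (Subtype.ext ?_)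
        show π ⟨kl 1, _⟩ = 1
        exact hπ.2 (by show kl 1 ∈ I.Z; rw [map_one]; exact one_mem _)
      map_mul' := fun l m => by
        rw [← hχmul]
        refine congrArg χ (Subtype.ext ?_)
        show π ⟨kl (l * m), _⟩ = π ⟨kl l, _⟩ * π ⟨kl m, _⟩
        rw [← map_mul]
        exact congrArg π (Subtype.ext (map_mul kl l m)) }
  have hμ0 : ∀ l, μ l ≠ 0 := fun l => hχ0 _
  let ν : F →*₀ E :=
    { toFun := fun c => if h : c = 0 then 0 else (μ (Units.mk0 c h))⁻¹
      map_zero' := dif_pos rfl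
      map_one' := by
        rw [dif_neg (one_ne_zero (α := F)), show Units.mk0 (1 : F) one_ne_zero = 1 from Units.ext rfl, map_one, inv_one]
      map_mul' := fun c d => by
        by_cases hc : c = 0
        · subst hc; simp
        by_cases hd : d = 0
        · subst hd; simp
        rw [dif_neg (mul_ne_zero hc hd), dif_neg hc, dif_neg hd, Units.mk0_mul c d, map_mul, mul_inv] }
  have hν : ∀ l : Fˣ, ν (l : F) = (μ l)⁻¹ := fun l => by
    show dite _ _ _ = _
    rw [dif_neg l.ne_zero, Units.mk0_val]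
  have hνinj : Function.Injective ν := by
    intro c d h
    by_cases hc : c = 0
    · subst hc
      by_contra hd
      rw [map_zero] at h
      exact (map_ne_zero ν).2 (Ne.symm hd) h.symm
    by_cases hd : d = 0
    · subst hd
      rw [map_zero] at h
      exact absurd h ((map_ne_zero ν).2 hc)
    have h1 := (hν (Units.mk0 c hc)).symm.trans (h.trans (hν (Units.mk0 d hd)))
    exact congrArg Units.val (hklinj (congrArg Subtype.val (hχinj (inv_injective h1 : μ _ = μ _))))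
  have hνfix : ∀ c, D.bar (ν c) = ν c := fun c => by
    rw [D.bar_apply, ← map_pow, hDq, ← C.card, FiniteField.pow_card]
  have hνsurj : ∀ e, D.bar e = e → ∃ c, ν c = e := by
    have hle : (Finset.univ.filter fun e : E => D.bar e = e).card ≤ qNum G a := by
      have hne := FiniteField.X_pow_card_sub_X_ne_zero E (p := qNum G a) (by omega)
      refine le_trans (Polynomial.card_le_degree_of_subset_roots
        (p := (Polynomial.X ^ qNum G a - Polynomial.X : Polynomial E)) fun x hx => ?_)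
        (le_of_eq (FiniteField.X_pow_card_sub_X_natDegree_eq E (by omega)))
      rw [Finset.mem_val, Finset.mem_filter] at hx
      rw [Polynomial.mem_roots hne]
      simp [← hDq, ← D.bar_apply, hx.2]
    have hsub : Finset.univ.image ν ⊆ Finset.univ.filter fun e : E => D.bar e = e := fun e he => by
      obtain ⟨c, -, rfl⟩ := Finset.mem_image.1 he
      exact Finset.mem_filter.2 ⟨Finset.mem_univ _, hνfix c⟩
    have heq := Finset.eq_of_subset_of_card_le hsub (by
      rwa [Finset.card_image_of_injective _ hνinj, Finset.card_univ, C.card])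
    intro e he
    have hm : e ∈ Finset.univ.filter fun e : E => D.bar e = e := Finset.mem_filter.2 ⟨Finset.mem_univ e, he⟩
    rw [← heq] at hm
    obtain ⟨c, -, hc⟩ := Finset.mem_image.1 hm
    exact ⟨c, hc⟩
  have hkla : ∀ (l : Fˣ), ∀ p ∈ Q, ν (l : F) * ca (kl l * p * (kl l)⁻¹) = ca p := fun l p hp => by
    rw [hν, hact _ (hklS l) (hklE l) p hp, show χ (⟨_, hklE l⟩ : E') = μ l from rfl]
    exact inv_mul_cancel_left₀ (hμ0 l) _
  -- conjugation by an element of `W`
  have hsemi : ∀ w ∈ centT Ω a t, ∃ (σ : F ≃+* F) (σE : E ≃+* E) (c : E), c ≠ 0 ∧ (∀ x, σE (ν x) = ν (σ x)) ∧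
      (∀ x, w * zc x * w⁻¹ = zc (σ x)) ∧ (∀ l : Fˣ, w * kl l * w⁻¹ = kl (Units.map (σ : F →* F) l)) ∧
      ∀ p ∈ Q, ca (w * p * w⁻¹) = c * σE (ca p) := by
    intro w hw
    obtain ⟨hwD, hwt⟩ := Subgroup.mem_inf.1 hw
    have hwa : w • a = a := (Subgroup.mem_inf.1 hwD).1
    obtain ⟨Csub, hCeq, -, hCn⟩ := inverted_subgroup hS I.two
    have hl' : ∀ l, ∃ m, kl m = w * kl l * w⁻¹ := fun l =>
      C.kl_surj _ ((Set.ext_iff.1 hCeq _).1 (hCn w hwD _ ((Set.ext_iff.1 hCeq _).2 (C.kl_mem l))))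
    choose lam hlam using hl'
    have hzw : ∀ x, ∃ y, zc y = w * zc x * w⁻¹ := fun x =>
      (C.mem_range _).2 (I.mem_Z.1 (I.Z_conj hwa (I.mem_Z.2 ((C.mem_range _).1 ⟨x, rfl⟩))))
    choose sg hsg using hzw
    have hw1 : sg 1 = 1 := C.zc_inj ((hsg 1).trans (by
      obtain ⟨s, hs, hst⟩ := I.partner_eq
      obtain ⟨c, rfl⟩ := C.eq_zc_of_invl hS hs
      have h := C.t_zc (Units.mk0 c fun e => hs.2.1 (e ▸ C.zc_zero))
      rw [Units.val_mk0] at h
      have hc1 : c = 1 := by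
        have h1 := congrArg (fun g : G => g • a) (hst.symm.trans h)
        simp only [mul_smul, fix_a hS (C.zc_mem _)] at h1
        rw [show kl (Units.mk0 c _)⁻¹ • t • a = t • a from (Subgroup.mem_inf.1 (C.kl_D _)).2] at h1
        have h2 := C.zc_inj (I.pts_inj (C.zc_mem _) (C.zc_mem _) h1)
        rw [Units.val_inv_eq_inv_val, Units.val_mk0] at h2
        have hc0 : c ≠ 0 := fun e => hs.2.1 (e ▸ C.zc_zero)
        exact (PerfectRing.bijective_frobenius (R := F) (p := 2)).injective (by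
          show c ^ 2 = 1 ^ 2
          rw [one_pow, pow_two]
          nth_rw 2 [h2]
          exact mul_inv_cancel₀ hc0)
      subst hc1
      have hwc := cent_eq hS hs (inv_mem_Q hS hs.1 hs.2.2) (by rw [hst, inv_of_sq hs.2.2])
      have hm : w ∈ twoStab Ω a t ⊓ Subgroup.centralizer {zc 1} := hwc ▸ hw
      rw [Subgroup.mem_centralizer_singleton_iff.1 (Subgroup.mem_inf.1 hm).2, mul_inv_cancel_right]))
    have hsgmul : ∀ (l : Fˣ) x, sg ((l : F) * l * x) = (lam l : F) * lam l * sg x := fun l x => C.zc_inj (by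
      rw [hsg, ← C.kl_zc, ← C.kl_zc, hlam, hsg]
      group)
    have hsgadd : ∀ x y, sg (x + y) = sg x + sg y := fun x y => C.zc_inj (by
      rw [hsg, C.zc_add, C.zc_add, hsg, hsg]
      group)
    have hsgm : ∀ x y, sg (x * y) = sg x * sg y := by
      intro x y
      by_cases hx : x = 0
      · have h0 : sg 0 = 0 := by simpa using hsgadd 0 0
        rw [hx, zero_mul, h0, zero_mul]
      obtain ⟨s, hs⟩ := (PerfectRing.bijective_frobenius (R := F) (p := 2)).surjective x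
      replace hs : s ^ 2 = x := hs
      have hs0 : s ≠ 0 := fun e => hx (by rw [← hs, e, zero_pow two_ne_zero])
      have h1 := hsgmul (Units.mk0 s hs0) 1
      have h2 := hsgmul (Units.mk0 s hs0) y
      rw [Units.val_mk0, ← pow_two, hs, mul_one, hw1, mul_one] at h1
      rw [Units.val_mk0, ← pow_two, hs] at h2
      rw [h2, h1]
    let σ0 : F →+* F :=
      { toFun := sg, map_one' := hw1, map_mul' := hsgm, map_zero' := by simpa using hsgadd 0 0, map_add' := hsgadd }
    let σ : F ≃+* F := RingEquiv.ofBijective σ0 ⟨σ0.injective, Finite.surjective_of_injective σ0.injective⟩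
    have hlamσ : ∀ l, lam l = Units.map (σ : F →* F) l := fun l => Units.ext
      ((PerfectRing.bijective_frobenius (R := F) (p := 2)).injective (by
        show (lam l : F) ^ 2 = (sg (l : F)) ^ 2
        have h := hsgmul l 1
        rw [mul_one, hw1, mul_one, hsgm] at h
        rw [pow_two, pow_two, h]))
    have hsurj2 := hsurj
    choose lift hliftQ hlift using hsurj2
    have hrep : ∀ p ∈ Q, ca (w * lift (ca p) * w⁻¹) = ca (w * p * w⁻¹) := fun p hp => by
      have hd : lift (ca p) * p⁻¹ ∈ I.Z := by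
        have h0 := hmul _ (mul_mem (hliftQ (ca p)) (inv_mem hp)) p hp
        rw [inv_mul_cancel_right, hlift, eq_comm, add_eq_right] at h0
        exact I.mem_Z.2 ⟨mul_mem (hliftQ _) (inv_mem hp), (hzero _ (mul_mem (hliftQ _) (inv_mem hp))).1 h0⟩
      have hz := I.Z_conj hwa hd
      have hzQ := I.mem_Z.1 hz
      rw [show w * lift (ca p) * w⁻¹ = w * (lift (ca p) * p⁻¹) * w⁻¹ * (w * p * w⁻¹) by group,
        hmul _ hzQ.1 _ (hS.conj_mem w hwa p hp), (hzero _ hzQ.1).2 hzQ.2, zero_add]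
    let φ : E → E := fun e => ca (w * lift e * w⁻¹)
    have hφca : ∀ p ∈ Q, φ (ca p) = ca (w * p * w⁻¹) := hrep
    have hφadd : ∀ x y, φ (x + y) = φ x + φ y := fun x y => by
      rw [← hlift x, ← hlift y, ← hmul _ (hliftQ x) _ (hliftQ y), hφca _ (mul_mem (hliftQ x) (hliftQ y)),
        hφca _ (hliftQ x), hφca _ (hliftQ y),
        show w * (lift x * lift y) * w⁻¹ = w * lift x * w⁻¹ * (w * lift y * w⁻¹) by group,
        hmul _ (hS.conj_mem w hwa _ (hliftQ x)) _ (hS.conj_mem w hwa _ (hliftQ y))]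
    have hφ0 : φ 0 = 0 := by simpa using hφadd 0 0
    have hφz : ∀ x, φ x = 0 → x = 0 := fun x h => by
      have hp := hS.conj_mem w hwa _ (hliftQ x)
      have h1 : w⁻¹ * (w * lift x * w⁻¹) * w⁻¹⁻¹ ∈ I.Z :=
        I.Z_conj (inv_smul_eq_iff.2 hwa.symm) (I.mem_Z.2 ⟨hp, (hzero _ hp).1 h⟩)
      rw [show w⁻¹ * (w * lift x * w⁻¹) * w⁻¹⁻¹ = lift x by group] at h1
      rw [← hlift x, (hzero _ (hliftQ x)).2 (I.mem_Z.1 h1).2]
    have hφe : ∀ u : E', ∃ u' : E', ∀ x, φ (χ u * x) = χ u' * φ x := by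
      rintro ⟨_, ⟨y, hy⟩, hy', rfl⟩
      have hy'' := Subgroup.mem_subgroupOf.1 hy'
      have hwy : w * y * w⁻¹ ∈ X := by
        obtain ⟨l, i, e⟩ := hXmem y hy''
        rw [e, show w * (kl l * v ^ i) * w⁻¹ = w * kl l * w⁻¹ * (w * v ^ i * w⁻¹) by group, ← hlam l, ← conj_zpow]
        exact mul_mem (hklX _) (zpow_mem (Subgroup.mem_sup_right (hvn w hw)) _)
      have hwyE : π ⟨w * y * w⁻¹, hXS hwy⟩ ∈ E' := Subgroup.mem_map_of_mem _ (Subgroup.mem_subgroupOf.2 hwy)
      refine ⟨⟨_, hwyE⟩, fun x => ?_⟩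
      rw [← hlift x, ← hact y hy (Subgroup.mem_map_of_mem _ hy') _ (hliftQ x),
        hφca _ (hS.conj_mem y hy _ (hliftQ x)), hφca _ (hliftQ x),
        show w * (y * lift x * y⁻¹) * w⁻¹ = (w * y * w⁻¹) * (w * lift x * w⁻¹) * (w * y * w⁻¹)⁻¹ by group,
        hact _ (hXS hwy) hwyE _ (hS.conj_mem w hwa _ (hliftQ x))]
    set c := φ 1 with hc
    have hc0 : c ≠ 0 := fun h => one_ne_zero (hφz 1 h)
    let R : Subring E :=
      { carrier := {r | ∀ x, φ (r * x) * c = φ r * φ x}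
        zero_mem' := fun x => by rw [zero_mul, hφ0, zero_mul, zero_mul]
        one_mem' := fun x => by rw [one_mul, mul_comm]
        add_mem' := fun {r s} hr hs x => by rw [add_mul, hφadd, add_mul, hr x, hs x, hφadd r s, add_mul]
        neg_mem' := fun {r} hr x => by rw [CharTwo.neg_eq]; exact hr x
        mul_mem' := fun {r s} hr hs x => by
          have h1 := hr (s * x)
          have h2 := hs x
          have h3 := hr s
          refine mul_right_cancel₀ hc0 ?_
          rw [mul_assoc r s x, h1, mul_assoc (φ r), h2, ← mul_assoc, ← h3]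
          ring }
    have hall := hgen R (fun u => by
      obtain ⟨u', hu'⟩ := hφe u
      intro x
      rw [hu' x, show φ (χ u) = χ u' * c by rw [hc, ← hu', mul_one]]
      ring)
    have hinjφ : Function.Injective φ := fun x y h => CharTwo.add_eq_zero.1 (hφz _ (by
      rw [hφadd, h, CharTwo.add_self_eq_zero]))
    let τ0 : E →+* E :=
      { toFun := fun x => φ x / c
        map_one' := div_self hc0
        map_mul' := fun x y => by
          rw [div_mul_div_comm, div_eq_div_iff hc0 (mul_ne_zero hc0 hc0), ← mul_assoc, hall x y]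
        map_zero' := by rw [hφ0, zero_div]
        map_add' := fun x y => by rw [hφadd, add_div] }
    let σE : E ≃+* E := RingEquiv.ofBijective τ0 ⟨τ0.injective, Finite.surjective_of_injective τ0.injective⟩
    have hφσ : ∀ x, φ x = c * σE x := fun x => (mul_div_cancel₀ _ hc0).symm
    refine ⟨σ, σE, c, hc0, fun x => ?_, fun x => (hsg x).symm, fun l => ?_, fun p hp => ?_⟩
    · by_cases hx : x = 0
      · rw [hx, map_zero ν, map_zero, map_zero, map_zero]
      obtain ⟨p, hp, hp1⟩ := hsurj 1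
      set l := Units.mk0 x hx with hl
      have h1 := hkla l p hp
      have h2 := hkla (lam l) (w * p * w⁻¹) (hS.conj_mem w hwa p hp)
      have h1' : φ (ν x * ca (kl l * p * (kl l)⁻¹)) * c = φ (ν x) * φ (ca (kl l * p * (kl l)⁻¹)) := hall _ _
      rw [show (x : F) = (l : F) from rfl, h1, hp1, ← hc, hφca _ (hS.conj_mem _ (hklS l) p hp),
        show w * (kl l * p * (kl l)⁻¹) * w⁻¹ = kl (lam l) * (w * p * w⁻¹) * (kl (lam l))⁻¹ by
          rw [hlam]; group] at h1'
      rw [← hφca p hp, hp1, ← hc] at h2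
      have h3 : φ (ν x) = c * ν (lam l : F) := by
        refine mul_right_cancel₀ (b := ca (kl (lam l) * (w * p * w⁻¹) * (kl (lam l))⁻¹)) (fun h => hc0 ?_) ?_
        · rw [← h2, h, mul_zero]
        · rw [show φ (ν x) = φ (ν (l : F)) from rfl, ← h1', mul_assoc, h2]
      rw [hφσ] at h3
      rw [mul_left_cancel₀ hc0 h3, hlamσ]
      rfl
    · rw [← hlam, hlamσ]
    · rw [← hφca p hp, hφσ]
  have hε := fun p hp => hact v (hVS hv) hvE p hp
  have hsep : ∀ w ∈ centI Ω a t, ∀ c : E, (∀ p ∈ Q, ca (w * p * w⁻¹) = c * ca p) → D.bar c = c → c ≠ 0 → w = 1 := by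
    intro w hw c hwc hfixc hc0
    obtain ⟨x, rfl⟩ := hνsurj c hfixc
    have hx : x ≠ 0 := fun e => hc0 (by rw [e, map_zero])
    set l := Units.mk0 x hx
    obtain ⟨p, hp, hp1⟩ := hsurj 1
    have hwp := hS.conj_mem w (hVS hw) p hp
    have h1 := hkla l _ hwp
    rw [hwc p hp, hp1, mul_one] at h1
    have h2 : ca (kl l * (w * p * w⁻¹) * (kl l)⁻¹) = 1 :=
      mul_left_cancel₀ hc0 (h1.trans (mul_one _).symm)
    have hkw := hS.conj_mem (kl l) (hklS l) _ hwp
    by_contra hw1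
    have hne : kl l * w ≠ 1 := fun e => hw1 (by
      have hwk : kl l ∈ centI Ω a t := by rw [eq_inv_of_mul_eq_one_left e]; exact inv_mem hw
      rw [I.K_inter_V (C.kl_mem l) hwk, one_mul] at e
      exact e)
    have hm := hfix l w hw p hp hne (I.mem_Z.2 ⟨?_, ?_⟩)
    · rw [(hzero p hp).2 (I.mem_Z.1 hm).2] at hp1
      exact zero_ne_one hp1
    · rw [show kl l * w * p * (kl l * w)⁻¹ = kl l * (w * p * w⁻¹) * (kl l)⁻¹ by group]
      exact mul_mem (inv_mem hp) hkw
    · rw [show kl l * w * p * (kl l * w)⁻¹ = kl l * (w * p * w⁻¹) * (kl l)⁻¹ by group]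
      refine (hzero _ (mul_mem (inv_mem hp) hkw)).1 ?_
      have hpi : ca p⁻¹ = 1 := by
        have h3 := hmul _ (inv_mem hp) _ hp
        rw [inv_mul_cancel, (hzero 1 (one_mem _)).2 (one_mul 1), hp1] at h3
        exact CharTwo.add_eq_zero.1 h3.symm
      rw [hmul _ (inv_mem hp) _ hkw, h2, hpi, CharTwo.add_self_eq_zero]
  have hpow : ∀ w ∈ centI Ω a t, ∀ c : E, (∀ p ∈ Q, ca (w * p * w⁻¹) = c * ca p) →
      ∀ i : ℕ, ∀ p ∈ Q, ca (w ^ i * p * (w ^ i)⁻¹) = c ^ i * ca p := by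
    intro w hw c hwc i
    induction i with
    | zero => intro p hp; simp
    | succ i ih =>
      intro p hp
      rw [pow_succ', show w * w ^ i * p * (w * w ^ i)⁻¹ = w * (w ^ i * p * (w ^ i)⁻¹) * w⁻¹ by group,
        hwc _ (hS.conj_mem _ (pow_mem (hVS hw) i) p hp), ih p hp, pow_succ', mul_assoc]
  have hnorm1 : ∀ w ∈ centI Ω a t, ∀ c : E, (∀ p ∈ Q, ca (w * p * w⁻¹) = c * ca p) → D.bar c * c = 1 := by
    intro w hw c hwc
    obtain ⟨p, hp, hp1⟩ := hsurj 1
    have hm := hpow w hw c hwc (orderOf w) p hp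
    rw [pow_orderOf_eq_one, one_mul, inv_one, mul_one, hp1, mul_one] at hm
    have hc0 : c ≠ 0 := fun e => by rw [e, zero_pow (orderOf_pos w).ne'] at hm; exact one_ne_zero hm
    have hco : Nat.Coprime (orderOf w) (qNum G a - 1) := Nat.coprime_of_dvd fun p' hp' h1 h2 => by
      have hw' := hpow w hw c hwc (orderOf w / p')
      have hc' : (c ^ (orderOf w / p')) ^ p' = 1 := by rw [← pow_mul, Nat.div_mul_cancel h1, ← hm]
      have hc'' : (c ^ (orderOf w / p')) ^ (qNum G a - 1) = 1 := by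
        obtain ⟨m, hm'⟩ := h2
        rw [hm', pow_mul, hc', one_pow]
      have h5 := hsep _ (pow_mem hw _) _ hw' (by
        rw [D.bar_apply, hDq, show qNum G a = (qNum G a - 1) + 1 by omega, pow_succ, hc'', one_mul])
        (pow_ne_zero _ hc0)
      rw [← orderOf_eq_one_iff, orderOf_pow_orderOf_div (orderOf_pos w).ne' h1] at h5
      exact hp'.ne_one h5
    rw [D.bar_apply, hDq, ← pow_succ]
    have e1 : (c ^ (qNum G a + 1)) ^ orderOf w = 1 := by rw [← pow_mul, mul_comm, pow_mul, ← hm, one_pow]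
    have e2 : (c ^ (qNum G a + 1)) ^ (qNum G a - 1) = 1 := by
      rw [← pow_mul, ← hDq, ← D.q_sq_sub_one, ← D.hF]
      exact FiniteField.pow_card_sub_one_eq_one c hc0
    have := pow_gcd_eq_one.2 ⟨e1, e2⟩
    rwa [hco, pow_one] at this
  have hlin : ∀ w ∈ centI Ω a t, ∃ c : E, D.bar c * c = 1 ∧ (c = 1 → w = 1) ∧
      ∀ p ∈ Q, ca (w * p * w⁻¹) = c * ca p := by
    intro w hw
    obtain ⟨σ, σE, c, hc0, hσν, hσz, -, hσa⟩ := hsemi w (centI_le_centT (hS := hS) hw)
    have hσ : ∀ x, σ x = x := fun x => C.zc_inj (by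
      rw [← hσz]
      rcases eq_or_ne x 0 with rfl | hx
      · rw [C.zc_zero, mul_one, mul_inv_cancel]
      · rw [← Subgroup.mem_centralizer_iff.1 (Subgroup.mem_inf.1 hw).2 _ (C.zc_invl hx hS), mul_inv_cancel_right])
    have hσfix : ∀ e, D.bar e = e → σE e = e := fun e he => by
      obtain ⟨x, rfl⟩ := hνsurj e he
      rw [hσν, hσ]
    suffices hid : ∀ e, σE e = e by
      have hwc : ∀ p ∈ Q, ca (w * p * w⁻¹) = c * ca p := fun p hp => by rw [hσa p hp, hid]
      exact ⟨c, hnorm1 w hw c hwc, fun h => hsep w hw 1 (h ▸ hwc) (map_one _) one_ne_zero, hwc⟩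
    -- `σE` is trivial or `bar`, and has odd order
    obtain ⟨x0, hx0⟩ := D.exists_moved
    have hd : x0 + D.bar x0 ≠ 0 := fun e => hx0 (CharTwo.add_eq_zero.1 e).symm
    have hdec : ∀ e, ∃ α β, D.bar α = α ∧ D.bar β = β ∧ e = α + β * x0 := fun e => by
      refine ⟨e + (e + D.bar e) / (x0 + D.bar x0) * x0, (e + D.bar e) / (x0 + D.bar x0), ?_, ?_, ?_⟩
      · rw [map_add, map_mul, map_div₀, map_add, map_add, D.bar_bar, D.bar_bar, add_comm (D.bar e) e,
          add_comm (D.bar x0) x0]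
        refine mul_right_cancel₀ hd ?_
        rw [add_mul, add_mul, mul_right_comm _ _ (x0 + D.bar x0), mul_right_comm _ _ (x0 + D.bar x0),
          div_mul_cancel₀ _ hd]
        linear_combination (D.bar e * D.bar x0 - e * x0) * CharTwo.two_eq_zero (R := E)
      · rw [map_div₀, map_add, map_add, D.bar_bar, D.bar_bar, add_comm (D.bar e), add_comm (D.bar x0)]
      · rw [add_assoc, CharTwo.add_self_eq_zero, add_zero]
    have hext : ∀ τ : E ≃+* E, (∀ e, D.bar e = e → τ e = e) → τ x0 = x0 → ∀ e, τ e = e := by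
      intro τ hτ hτ0 e
      obtain ⟨α, β, hα, hβ, rfl⟩ := hdec e
      rw [map_add, map_mul, hτ α hα, hτ β hβ, hτ0]
    refine hext σE hσfix ?_
    have hroot : (σE x0 + x0) * (σE x0 + D.bar x0) = 0 := by
      have hs : σE (x0 + D.bar x0) = x0 + D.bar x0 := hσfix _ (D.bar_trace x0)
      have hn : σE (D.bar x0 * x0) = D.bar x0 * x0 := hσfix _ (D.bar_norm x0)
      rw [map_add] at hs
      rw [map_mul] at hn
      linear_combination σE x0 * hs - hn + (σE x0 * (x0 + D.bar x0)) * CharTwo.two_eq_zero (R := E)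
    rcases mul_eq_zero.1 hroot with h | h
    · exact CharTwo.add_eq_zero.1 h
    exfalso
    have hσbar : ∀ e, σE e = D.bar e := fun e => by
      obtain ⟨α, β, hα, hβ, rfl⟩ := hdec e
      rw [map_add, map_mul, map_add, map_mul, hσfix α hα, hσfix β hβ, hα, hβ, CharTwo.add_eq_zero.1 h]
    let T : E → E := fun e => c * D.bar e
    have hT : ∀ i : ℕ, ∀ p ∈ Q, ca (w ^ i * p * (w ^ i)⁻¹) = T^[i] (ca p) := by
      intro i
      induction i with
      | zero => intro p hp; simp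
      | succ i ih =>
        intro p hp
        rw [pow_succ', show w * w ^ i * p * (w * w ^ i)⁻¹ = w * (w ^ i * p * (w ^ i)⁻¹) * w⁻¹ by group,
          hσa _ (hS.conj_mem _ (pow_mem (hVS hw) i) p hp), hσbar, ih p hp, Function.iterate_succ_apply']
    obtain ⟨j, hj⟩ := orderOf_odd_mem hS.odd_card (Subgroup.mem_inf.1 hw).1
    have hid : ∀ e, T^[2 * j + 1] e = e := fun e => by
      obtain ⟨p, hp, rfl⟩ := hsurj e
      rw [← hT _ p hp, ← hj, pow_orderOf_eq_one, one_mul, inv_one, mul_one]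
    have hlin2 : ∀ β e, D.bar β = β → T^[2 * j + 1] (β * e) = β * T^[2 * j + 1] e := by
      intro β e hβ
      induction (2 * j + 1) with
      | zero => rfl
      | succ i ih =>
        rw [Function.iterate_succ_apply', Function.iterate_succ_apply', ih]
        show c * D.bar (β * _) = β * (c * D.bar _)
        rw [map_mul, hβ]; ring
    -- an odd power of `T` is a multiple of `bar`
    have hT2 : ∀ i : ℕ, ∃ d : E, ∀ e, T^[2 * i + 1] e = d * D.bar e := by
      intro i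
      induction i with
      | zero => exact ⟨c, fun e => rfl⟩
      | succ i ih =>
        obtain ⟨d, hd'⟩ := ih
        refine ⟨c * D.bar c * d, fun e => ?_⟩
        rw [show 2 * (i + 1) + 1 = (2 * i + 1) + 1 + 1 by ring, Function.iterate_succ_apply',
          Function.iterate_succ_apply', hd']
        show c * D.bar (c * D.bar (d * D.bar e)) = _
        rw [map_mul, map_mul, D.bar_bar, map_mul, D.bar_bar]
        ring
    obtain ⟨d, hd'⟩ := hT2 j
    have h1 := hid 1
    rw [hd', map_one, mul_one] at h1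
    have h2 := hid x0
    rw [hd', h1, one_mul] at h2
    exact hx0 h2
  refine ⟨F, E, iF, iFF, inferInstance, iE, iEF, inferInstance, ⟨{
    D := D, zc := zc, kl := kl, ν := ν, ca := ca, v := v, ε := χ ⟨_, hvE⟩, input := I, coord := C, q_eq := hDq,
    ν_inj := hνinj, ν_fix := hνfix, ν_surj := hνsurj, ca_mul := hmul, ca_zero_iff := hzero, ca_surj := hsurj,
    ca_kl := hkla, v_mem := hv, v_prime := hvp, v_norm := hvn, ca_v := hε, ε_ne := ?_,
    ε_norm := hnorm1 v hv _ hε, semi := hsemi, lin := hlin }⟩⟩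
  intro h
  refine hv_notK 1 (congrArg Subtype.val (hχinj (h.trans ?_) : (⟨_, hvE⟩ : E') = ⟨_, hklE 1⟩))
  show (1 : E) = χ ⟨_, hklE 1⟩
  exact (map_one μ).symm

end Cfsg.Lib.BenderSuzuki.U3
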