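import Cfsg.Agent.BenderSuzuki.U3.Maps

/-!
The case `|Q| = q ^ 3`: the semilinear action of the stabiliser of `a` on `Q / Z`.
-/

set_option autoImplicit false
set_option linter.unusedSectionVars false

namespace Cfsg.Lib.BenderSuzuki.U3

open MulAction Cfsg.Lib.RankOne

universe u v

variable {G : Type u} {Ω : Type v} [Group G] [Finite G] [MulAction G Ω] {a : Ω} {t : G} {Q : Subgroup G}

namespace Frame

variable {F E : Type} [Field F] [Fintype F] [CharP F 2] [Field E] [Fintype E] [CharP E 2] (Fr : Frame Ω a t Q F E)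

/-- A representative of an element of `E`. -/
noncomputable def lift (e : E) : G := (Fr.ca_surj e).choose

theorem lift_mem (e : E) : Fr.lift e ∈ Q := (Fr.ca_surj e).choose_spec.1

theorem ca_lift (e : E) : Fr.ca (Fr.lift e) = e := (Fr.ca_surj e).choose_spec.2

theorem ca_one : Fr.ca 1 = 0 := (Fr.ca_zero_iff 1 (one_mem _)).2 (one_mul 1)

theorem ca_inv {p : G} (hp : p ∈ Q) : Fr.ca p⁻¹ = Fr.ca p := by
  have h := Fr.ca_mul _ (inv_mem hp) p hp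
  rw [inv_mul_cancel, Fr.ca_one] at h
  exact CharTwo.add_eq_zero.1 h.symm

theorem ca_zc (c : F) : Fr.ca (Fr.zc c) = 0 := (Fr.ca_zero_iff _ (Fr.coord.zc_mem c)).2 (Fr.coord.zc_sq c)

theorem exists_zc_of_ca_eq {p r : G} (hp : p ∈ Q) (hr : r ∈ Q) (h : Fr.ca p = Fr.ca r) : ∃ c, p = Fr.zc c * r := by
  have hm := mul_mem hp (inv_mem hr)
  have h0 : Fr.ca (p * r⁻¹) = 0 := by rw [Fr.ca_mul _ hp _ (inv_mem hr), Fr.ca_inv hr, h, CharTwo.add_self_eq_zero]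
  obtain ⟨c, hc⟩ := (Fr.coord.mem_range _).2 ⟨hm, (Fr.ca_zero_iff _ hm).1 h0⟩
  exact ⟨c, by rw [hc, inv_mul_cancel_right]⟩

/-- The action of the stabiliser of `a` on `Q / Z`. -/
noncomputable def act (d : G) (e : E) : E := Fr.ca (d * Fr.lift e * d⁻¹)

theorem act_ca {d p : G} (hd : d • a = a) (hp : p ∈ Q) : Fr.act d (Fr.ca p) = Fr.ca (d * p * d⁻¹) := by
  have hS := Fr.input.setup
  obtain ⟨c, hc⟩ := Fr.exists_zc_of_ca_eq (Fr.lift_mem (Fr.ca p)) hp (Fr.ca_lift _)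
  have hz := Fr.input.mem_Z.1 (Fr.input.Z_conj hd (Fr.input.mem_Z.2 ⟨Fr.coord.zc_mem c, Fr.coord.zc_sq c⟩))
  rw [act, hc, show d * (Fr.zc c * p) * d⁻¹ = d * Fr.zc c * d⁻¹ * (d * p * d⁻¹) by group,
    Fr.ca_mul _ hz.1 _ (hS.conj_mem d hd p hp), (Fr.ca_zero_iff _ hz.1).2 hz.2, zero_add]

theorem act_add {d : G} (hd : d • a = a) (x y : E) : Fr.act d (x + y) = Fr.act d x + Fr.act d y := by
  have hS := Fr.input.setup
  have h : x + y = Fr.ca (Fr.lift x * Fr.lift y) := by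
    rw [Fr.ca_mul _ (Fr.lift_mem x) _ (Fr.lift_mem y), Fr.ca_lift, Fr.ca_lift]
  rw [h, Fr.act_ca hd (mul_mem (Fr.lift_mem x) (Fr.lift_mem y)),
    show d * (Fr.lift x * Fr.lift y) * d⁻¹ = d * Fr.lift x * d⁻¹ * (d * Fr.lift y * d⁻¹) by group,
    Fr.ca_mul _ (hS.conj_mem d hd _ (Fr.lift_mem x)) _ (hS.conj_mem d hd _ (Fr.lift_mem y))]
  rfl

theorem act_zero {d : G} (hd : d • a = a) : Fr.act d 0 = 0 := by simpa using Fr.act_add hd 0 0

theorem act_mul {c d : G} (hc : c • a = a) (hd : d • a = a) (x : E) : Fr.act (c * d) x = Fr.act c (Fr.act d x) := by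
  have h1 : Fr.act d x = Fr.ca (d * Fr.lift x * d⁻¹) := rfl
  rw [h1, Fr.act_ca hc (Fr.input.setup.conj_mem d hd _ (Fr.lift_mem x))]
  show Fr.ca _ = _
  congr 1
  group

theorem act_one (x : E) : Fr.act 1 x = x := by
  simp [act, Fr.ca_lift]

theorem act_inv_act {d : G} (hd : d • a = a) (x : E) : Fr.act d⁻¹ (Fr.act d x) = x := by
  rw [← Fr.act_mul (inv_smul_eq_iff.2 hd.symm) hd, inv_mul_cancel, Fr.act_one]

theorem act_ne_zero {d : G} (hd : d • a = a) {x : E} (hx : x ≠ 0) : Fr.act d x ≠ 0 := fun h =>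
  hx (by rw [← Fr.act_inv_act hd x, h, Fr.act_zero (inv_smul_eq_iff.2 hd.symm)])

theorem kl_a (l : Fˣ) : Fr.kl l • a = a := (Subgroup.mem_inf.1 (Fr.coord.kl_D l)).1

theorem D_a {d : G} (hd : d ∈ twoStab Ω a t) : d • a = a := (Subgroup.mem_inf.1 hd).1

theorem W_a {w : G} (hw : w ∈ centT Ω a t) : w • a = a := Frame.D_a (Subgroup.mem_inf.1 hw).1

theorem act_kl (l : Fˣ) (x : E) : Fr.ν (l : F) * Fr.act (Fr.kl l) x = x := by
  rw [act, Fr.ca_kl l _ (Fr.lift_mem x), Fr.ca_lift]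

theorem act_kl_inv (l : Fˣ) (x : E) : Fr.act (Fr.kl l⁻¹) x = Fr.ν (l : F) * x := by
  conv_rhs => rw [← Fr.act_kl l⁻¹ x, ← mul_assoc, ← map_mul, ← Units.val_mul, mul_inv_cancel, Units.val_one,
    map_one, one_mul]

theorem act_v (x : E) : Fr.act Fr.v x = Fr.ε * x := by
  rw [act, Fr.ca_v _ (Fr.lift_mem x), Fr.ca_lift]

open scoped _root_.Classical in
/-- The field automorphism given by an element of `W`. -/
noncomputable def σ (w : G) : F ≃+* F :=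
  if h : w ∈ centT Ω a t then (Fr.semi w h).choose else RingEquiv.refl F

theorem σ_spec {w : G} (hw : w ∈ centT Ω a t) : ∃ (σE : E ≃+* E) (c : E), c ≠ 0 ∧
    (∀ x, σE (Fr.ν x) = Fr.ν (Fr.σ w x)) ∧ (∀ x, w * Fr.zc x * w⁻¹ = Fr.zc (Fr.σ w x)) ∧
    (∀ l : Fˣ, w * Fr.kl l * w⁻¹ = Fr.kl (Units.map (Fr.σ w : F →* F) l)) ∧
    ∀ p ∈ Q, Fr.ca (w * p * w⁻¹) = c * σE (Fr.ca p) := by
  unfold σ
  rw [dif_pos hw]
  exact (Fr.semi w hw).choose_spec

theorem σ_zc {w : G} (hw : w ∈ centT Ω a t) (x : F) : w * Fr.zc x * w⁻¹ = Fr.zc (Fr.σ w x) := by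
  obtain ⟨-, -, -, -, h, -⟩ := Fr.σ_spec hw; exact h x

theorem σ_kl {w : G} (hw : w ∈ centT Ω a t) (l : Fˣ) :
    w * Fr.kl l * w⁻¹ = Fr.kl (Units.map (Fr.σ w : F →* F) l) := by
  obtain ⟨-, -, -, -, -, h, -⟩ := Fr.σ_spec hw; exact h l

theorem σ_mul {w w' : G} (hw : w ∈ centT Ω a t) (hw' : w' ∈ centT Ω a t) (x : F) :
    Fr.σ (w * w') x = Fr.σ w (Fr.σ w' x) := Fr.coord.zc_inj (by
  rw [← Fr.σ_zc (mul_mem hw hw'), ← Fr.σ_zc hw, ← Fr.σ_zc hw']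
  group)

theorem σ_one (x : F) : Fr.σ (1 : G) x = x := Fr.coord.zc_inj (by
  rw [← Fr.σ_zc (one_mem _)]; group)

theorem σ_inv {w : G} (hw : w ∈ centT Ω a t) (x : F) : Fr.σ w⁻¹ x = (Fr.σ w).symm x := by
  apply (Fr.σ w).injective
  rw [← Fr.σ_mul hw (inv_mem hw), mul_inv_cancel, Fr.σ_one, RingEquiv.apply_symm_apply]

theorem σ_of_mem_centI {w : G} (hw : w ∈ centI Ω a t) (x : F) : Fr.σ w x = x := Fr.coord.zc_inj (by
  rw [← Fr.σ_zc (centI_le_centT (hS := Fr.input.setup) hw)]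
  rcases eq_or_ne x 0 with rfl | hx
  · rw [Fr.coord.zc_zero, mul_one, mul_inv_cancel]
  · rw [← Subgroup.mem_centralizer_iff.1 (Subgroup.mem_inf.1 hw).2 _ (Fr.coord.zc_invl hx Fr.input.setup),
      mul_inv_cancel_right])

theorem mem_centI_of_σ {w : G} (hw : w ∈ centT Ω a t) (h : ∀ x, Fr.σ w x = x) : w ∈ centI Ω a t := by
  refine Subgroup.mem_inf.2 ⟨(Subgroup.mem_inf.1 hw).1, Subgroup.mem_centralizer_iff.2 fun s hs => ?_⟩
  obtain ⟨c, rfl⟩ := Fr.coord.eq_zc_of_invl Fr.input.setup hs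
  have e := Fr.σ_zc hw c
  rw [h c, mul_inv_eq_iff_eq_mul] at e
  exact e.symm

theorem act_ν {w : G} (hw : w ∈ centT Ω a t) (x : F) (e : E) :
    Fr.act w (Fr.ν x * e) = Fr.ν (Fr.σ w x) * Fr.act w e := by
  obtain ⟨σE, c, -, hν, -, -, hc⟩ := Fr.σ_spec hw
  simp only [act, hc _ (Fr.lift_mem _), Fr.ca_lift, map_mul, hν]
  ring

theorem act_centI {w : G} (hw : w ∈ centI Ω a t) :
    ∃ c : E, Fr.D.bar c * c = 1 ∧ (c = 1 → w = 1) ∧ ∀ e, Fr.act w e = c * e := by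
  obtain ⟨c, h1, h2, h3⟩ := Fr.lin w hw
  exact ⟨c, h1, h2, fun e => by rw [act, h3 _ (Fr.lift_mem e), Fr.ca_lift]⟩

include Fr in
theorem w_t {w : G} (hw : w ∈ centT Ω a t) : t * w * t = w := by
  rw [← Subgroup.mem_centralizer_singleton_iff.1 (Subgroup.mem_inf.1 hw).2, mul_assoc, Fr.input.setup.mul_self,
    mul_one]

end Frame

end Cfsg.Lib.BenderSuzuki.U3
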