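import Cfsg.Agent.BenderSuzuki.Defs
import Cfsg.Agent.S1132
import Cfsg.Agent.SuzukiTwo.Setup
import Cfsg.Agent.S1138

/-!
The case `|Q| = q ^ 3`: the standing hypotheses and the elementary consequences.
-/

set_option autoImplicit false
set_option linter.unusedSectionVars false

namespace Cfsg.Lib.BenderSuzuki.U3

open MulAction Cfsg.Lib.RankOne

universe u v

variable {G : Type u} {Ω : Type v} [Group G] [Finite G] [MulAction G Ω] {a : Ω} {t : G} {Q : Subgroup G}

/-- The hypotheses of this case. -/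
structure Input (Ω : Type v) [MulAction G Ω] (a : Ω) (t : G) (Q : Subgroup G) : Prop where
  sim : Simple G Ω a t Q
  caseL : CaseL a t Q
  card_Q : Nat.card Q = qNum G a ^ 3
  nonab : NonAb Q
  cent : ∀ x ∈ centI Ω a t, x ≠ 1 → ∀ p ∈ Q, Commute x p → p * p = 1
  vne : centI Ω a t ≠ ⊥

namespace Input

variable (I : Input Ω a t Q)
include I

theorem setup : Cfsg.IsRankOneSetup G Ω a t Q := I.sim.setup

theorem two : ∃ x y : G, x ≠ 1 ∧ y ≠ 1 ∧ x ≠ y ∧ x * x = 1 ∧ y * y = 1 ∧ x * y = y * x := I.sim.two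

/-- The involutions fixing `a` with the identity. -/
abbrev Z : Subgroup G := involGroup I.setup I.two

theorem mem_Z {x : G} : x ∈ I.Z ↔ x ∈ Q ∧ x * x = 1 := by
  refine ⟨?_, fun h => ?_⟩
  · rintro (rfl | h)
    · exact ⟨one_mem _, one_mul 1⟩
    · exact ⟨inv_mem_Q I.setup h.1 h.2.2, h.2.2⟩
  · by_cases h1 : x = 1
    · exact Or.inl h1
    · exact Or.inr ⟨I.setup.le h.1, h1, h.2⟩

theorem Z_le : I.Z ≤ Q := fun _ hx => (I.mem_Z.1 hx).1

theorem Z_inv {x : G} (hx : x ∈ I.Z) : x⁻¹ = x := inv_of_sq (I.mem_Z.1 hx).2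

theorem Z_comm {x p : G} (hx : x ∈ I.Z) (hp : p ∈ Q) : x * p = p * x := by
  rcases hx with rfl | hx
  · rw [one_mul, mul_one]
  · exact (invol_central I.setup I.two hx).2 p hp

theorem card_Z : Nat.card I.Z = qNum G a := by
  have h : (I.Z : Set G) = insert 1 (invl G a) := rfl
  rw [← SetLike.coe_sort_coe, Nat.card_coe_set_eq, h, Set.ncard_insert_of_notMem (fun h => h.2.1 rfl) (Set.toFinite _),
    ← Nat.card_coe_set_eq, qNum]

theorem q_four : 4 ≤ qNum G a := by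
  obtain ⟨k, hk, hk1⟩ := exists_inverted_ne I.setup I.two
  obtain ⟨s, hs⟩ := exists_invol I.setup
  have hmem : ∀ {l}, l ∈ invK Ω a t → l⁻¹ * s * l ∈ invl G a := fun {l} hl => by
    have := conj_invol I.setup (x := l⁻¹) (inv_smul_eq_iff.2 (Subgroup.mem_inf.1 hl.1).1.symm) hs
    rwa [inv_inv] at this
  have h1 : (1 : G) ∈ invK Ω a t := ⟨one_mem _, by rw [mul_one, mul_inv_cancel, inv_one]⟩
  have hne : k⁻¹ * s * k ≠ s := fun h => hk1 (conj_inj I.setup hs hk h1 (by rw [h, inv_one, one_mul, mul_one]))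
  have h3 : k⁻¹ * s * k * s ∈ invl G a :=
    (invol_closed I.setup I.two (hmem hk) hs).resolve_left fun h => hne (by
      rw [eq_inv_of_mul_eq_one_left h, inv_of_sq hs.2.2])
  have hsub : ({k⁻¹ * s * k, s, k⁻¹ * s * k * s} : Set G) ⊆ invl G a := by
    rintro x (rfl | rfl | rfl)
    · exact hmem hk
    · exact hs
    · exact h3
  have hc : Set.ncard ({k⁻¹ * s * k, s, k⁻¹ * s * k * s} : Set G) = 3 := by
    rw [Set.ncard_eq_three]
    refine ⟨_, _, _, hne, fun e => hs.2.1 ?_, fun e => (hmem hk).2.1 ?_, rfl⟩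
    · exact left_eq_mul.1 e
    · exact right_eq_mul.1 e
  have := Set.ncard_le_ncard hsub (Set.toFinite _)
  rw [hc, ← Nat.card_coe_set_eq] at this
  unfold qNum
  omega

theorem exists_exp : ∃ k : ℕ, qNum G a = 2 ^ k := by
  haveI := Fact.mk Nat.prime_two
  have h : IsPGroup 2 I.Z := fun x => ⟨1, Subtype.ext (by
    rw [pow_one, SubmonoidClass.coe_pow, pow_two]; exact (I.mem_Z.1 x.2).2)⟩
  obtain ⟨k, hk⟩ := IsPGroup.iff_card.1 h
  exact ⟨k, I.card_Z ▸ hk⟩

theorem pgroup_Q : IsPGroup 2 Q := by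
  obtain ⟨k, hk⟩ := I.exists_exp
  exact IsPGroup.of_card (n := k * 3) (by rw [I.card_Q, hk, pow_mul])

theorem suzuki : Cfsg.IsSuzukiTwoGroup Q := by
  haveI := Fact.mk Nat.prime_two
  haveI := I.sim.faithful
  have h := I.pgroup_Q
  let S : Sylow 2 Q :=
    { toSubgroup := ⊤
      isPGroup' := h.of_equiv Subgroup.topEquiv.symm
      is_maximal' := fun _ hle => top_le_iff.1 hle }
  rcases Cfsg.Agent.S1132.result I.setup I.two S with h' | h'
  · exfalso
    obtain ⟨x, hx, y, hy, hne⟩ := I.nonab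
    exact hne (congrArg (fun z : (S : Subgroup Q) => ((z : Q) : G))
      (h'.is_comm.comm ⟨⟨x, hx⟩, trivial⟩ ⟨⟨y, hy⟩, trivial⟩))
  · obtain ⟨hfin, h2, ⟨x, y, hxy⟩, ⟨u, w, huw, hu1, hu2, hw1, hw2⟩, K, hK, hreg⟩ := h'
    let e : (S : Subgroup Q) ≃* Q := Subgroup.topEquiv
    let φ : MulAut (S : Subgroup Q) ≃* MulAut Q := MulAut.congr e
    refine ⟨inferInstance, h, ⟨e x, e y, fun he => hxy (e.injective (by rw [map_mul, map_mul, he]))⟩,
      ⟨e u, e w, fun he => huw (e.injective he), fun he => hu1 (e.injective (by rw [he, map_one])),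
        by rw [← map_mul, hu2, map_one], fun he => hw1 (e.injective (by rw [he, map_one])),
        by rw [← map_mul, hw2, map_one]⟩, K.map φ.toMonoidHom, ?_, fun p r hp1 hp2 hr1 hr2 => ?_⟩
    · haveI := hK
      exact isCyclic_of_surjective _ (K.equivMapOfInjective φ.toMonoidHom φ.injective).surjective
    obtain ⟨⟨k, hk⟩, hk2, hku⟩ := hreg (e.symm p) (e.symm r) (fun he => hp1 (by simpa using congrArg e he))
      (by rw [← map_mul, hp2, map_one]) (fun he => hr1 (by simpa using congrArg e he))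
      (by rw [← map_mul, hr2, map_one])
    refine ⟨⟨φ k, k, hk, rfl⟩, ?_, ?_⟩
    · show e (k (e.symm p)) = r
      rw [show k (e.symm p) = e.symm r from hk2, e.apply_symm_apply]
    · rintro ⟨_, l, hl, rfl⟩ hl2
      have hl2' : e (l (e.symm p)) = r := hl2
      exact Subtype.ext (congrArg φ (congrArg Subtype.val (hku ⟨l, hl⟩ (e.injective (by
        rw [e.apply_symm_apply]; exact hl2')))))

theorem sq_mem {p : G} (hp : p ∈ Q) : p * p ∈ I.Z := by
  have h1 := (Cfsg.Agent.S1138.result I.suzuki).1 ⟨p, hp⟩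
  exact I.mem_Z.2 ⟨mul_mem hp hp,
    congrArg Subtype.val ((Cfsg.Lib.SuzukiTwo.involution_iff I.suzuki _).2 h1)⟩

theorem comm_mem {x y : G} (hx : x ∈ Q) (hy : y ∈ Q) : x * y * x⁻¹ * y⁻¹ ∈ I.Z := by
  have e : x * y * x⁻¹ * y⁻¹ = x * x * (x⁻¹ * y * (x⁻¹ * y)) * (y * y)⁻¹ := by group
  rw [e]
  exact mul_mem (mul_mem (I.sq_mem hx) (I.sq_mem (mul_mem (inv_mem hx) hy))) (inv_mem (I.sq_mem hy))

theorem Z_conj {g x : G} (hg : g • a = a) (hx : x ∈ I.Z) : g * x * g⁻¹ ∈ I.Z :=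
  conj_involGroup I.setup I.two hg hx

theorem partner_eq : ∃ s ∈ invl G a, t * s * t = s * t * s := by
  obtain ⟨s, hs, r, hr, hr2, e⟩ := I.caseL
  rw [inv_of_sq hr2] at e
  refine ⟨s, hs, ?_⟩
  have htt := I.setup.mul_self
  have e1 : t * r * t = r * t * s := by
    calc t * r * t = r * (r * t * r) * t := by
          rw [show r * (r * t * r) * t = (r * r) * t * r * t by simp only [mul_assoc], hr2, one_mul]
      _ = r * (t * s * t) * t := by rw [e]
      _ = r * t * s * (t * t) := by simp only [mul_assoc]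
      _ = r * t * s := by rw [htt, mul_one]
  have e2 : t * r * t = s * t * r := by
    have h := congrArg (·⁻¹) e1
    simpa [mul_inv_rev, inv_of_sq hr2, inv_of_sq hs.2.2, t_inv I.setup, mul_assoc] using h
  have h3 : r • t • a = s • t • a := by
    have h := congrArg (fun g : G => g • a) (e1.symm.trans e2)
    simpa [mul_smul, fix_a I.setup hr, fix_a I.setup (inv_mem_Q I.setup hs.1 hs.2.2)] using h
  obtain ⟨w, -, hw⟩ := regular I.setup (ta_ne I.setup)
    (show r • t • a ≠ a from fun h => ta_ne I.setup (smul_left_cancel r (h.trans (fix_a I.setup hr).symm)))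
  have h4 : r = s := congrArg Subtype.val
    ((hw ⟨r, hr⟩ rfl).trans (hw ⟨s, inv_mem_Q I.setup hs.1 hs.2.2⟩ h3.symm).symm)
  rw [e, h4]

theorem eq_one_of_pts {p : G} (hp : p ∈ Q) (h : p • t • a = t • a) : p = 1 := by
  have hm : p ∈ Q ⊓ stabilizer G (t • a) := ⟨hp, h⟩
  rwa [I.setup.inf_eq_bot, Subgroup.mem_bot] at hm

theorem pts_inj {p r : G} (hp : p ∈ Q) (hr : r ∈ Q) (h : p • t • a = r • t • a) : p = r :=
  inv_mul_eq_one.1 (I.eq_one_of_pts (mul_mem (inv_mem hr) hp) (by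
    rw [mul_smul, h, inv_smul_smul])) |>.symm

/-- The product of the inverted elements and `V`. -/
theorem exists_KV : ∃ A : Subgroup G, (∀ x, x ∈ A ↔ ∃ k ∈ invK Ω a t, ∃ w ∈ centI Ω a t, x = k * w) ∧
    (∀ d ∈ twoStab Ω a t, ∀ x ∈ A, d * x * d⁻¹ ∈ A) := by
  obtain ⟨C, hC, -, hCn⟩ := inverted_subgroup I.setup I.two
  have hcomm : ∀ k ∈ invK Ω a t, ∀ w ∈ centI Ω a t, k * w = w * k := fun k hk w hw => by
    have h := cent_all (hS := I.setup) ▸ (show w ∈ twoStab Ω a t ⊓ Subgroup.centralizer (invl G a) from hw)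
    exact Subgroup.mem_centralizer_iff.1 (Subgroup.mem_inf.1 h).2 k hk
  have hVn : ∀ d ∈ twoStab Ω a t, ∀ w ∈ centI Ω a t, d * w * d⁻¹ ∈ centI Ω a t := by
    intro d hd w hw
    refine Subgroup.mem_inf.2 ⟨mul_mem (mul_mem hd (Subgroup.mem_inf.1 hw).1) (inv_mem hd),
      Subgroup.mem_centralizer_iff.2 fun s hs => ?_⟩
    have hs' : d⁻¹ * s * d ∈ invl G a := by
      have := conj_invol I.setup (x := d⁻¹) (inv_smul_eq_iff.2 (Subgroup.mem_inf.1 hd).1.symm) hs
      rwa [inv_inv] at this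
    have h := Subgroup.mem_centralizer_iff.1 (Subgroup.mem_inf.1 hw).2 _ hs'
    calc s * (d * w * d⁻¹) = d * (d⁻¹ * s * d * w) * d⁻¹ := by group
      _ = d * (w * (d⁻¹ * s * d)) * d⁻¹ := by rw [h]
      _ = _ := by group
  have hCmem : ∀ x, x ∈ C ↔ x ∈ invK Ω a t := Set.ext_iff.1 hC
  let A : Subgroup G :=
    { carrier := {x | ∃ k ∈ invK Ω a t, ∃ w ∈ centI Ω a t, x = k * w}
      one_mem' := ⟨1, (hCmem 1).1 C.one_mem, 1, one_mem _, (one_mul 1).symm⟩
      mul_mem' := by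
        rintro _ _ ⟨k, hk, w, hw, rfl⟩ ⟨k', hk', w', hw', rfl⟩
        refine ⟨k * k', (hCmem _).1 (C.mul_mem ((hCmem _).2 hk) ((hCmem _).2 hk')), w * w', mul_mem hw hw', ?_⟩
        rw [show k * w * (k' * w') = k * (w * k') * w' by simp only [mul_assoc], ← hcomm k' hk' w hw]
        simp only [mul_assoc]
      inv_mem' := by
        rintro _ ⟨k, hk, w, hw, rfl⟩
        refine ⟨k⁻¹, (hCmem _).1 (C.inv_mem ((hCmem _).2 hk)), w⁻¹, inv_mem hw, ?_⟩
        rw [hcomm k hk w hw, mul_inv_rev] }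
  refine ⟨A, fun x => Iff.rfl, ?_⟩
  rintro d hd _ ⟨k, hk, w, hw, rfl⟩
  exact ⟨d * k * d⁻¹, (hCmem _).1 (hCn d hd k ((hCmem _).2 hk)), d * w * d⁻¹, hVn d hd w hw, by group⟩

theorem K_inter_V {k : G} (hk : k ∈ invK Ω a t) (hk' : k ∈ centI Ω a t) : k = 1 := by
  obtain ⟨s, hs⟩ := exists_invol I.setup
  refine conj_inj I.setup hs hk ⟨one_mem _, by rw [mul_one, mul_inv_cancel, inv_one]⟩ ?_
  rw [inv_one, one_mul, mul_one, mul_assoc, Subgroup.mem_centralizer_iff.1 (Subgroup.mem_inf.1 hk').2 s hs,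
    inv_mul_cancel_left]

/-- Only `V` has fixed points on `Q`. -/
theorem mem_V_of_commute {k w p : G} (hk : k ∈ invK Ω a t) (hw : w ∈ centI Ω a t) (hp : p ∈ Q) (hp1 : p ≠ 1)
    (hc : Commute (k * w) p) : k = 1 := by
  have hS := I.setup
  set y := k * w with hy
  have hyD : y ∈ twoStab Ω a t := mul_mem hk.1 (Subgroup.mem_inf.1 hw).1
  have hya : y • a = a := (Subgroup.mem_inf.1 hyD).1
  have hyb : y • t • a = t • a := (Subgroup.mem_inf.1 hyD).2
  have hpa : p • t • a ≠ a := fun h => ta_ne hS (smul_left_cancel p (h.trans (fix_a hS hp).symm))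
  obtain ⟨d, hd, hdy⟩ := conj_into_t hS (X := {y}) (Set.singleton_subset_iff.2 hyD)
    ⟨a, t • a, p • t • a, (ta_ne hS).symm, hpa.symm, fun h => hp1 (I.eq_one_of_pts hp h.symm),
      fun z hz => by rw [Set.mem_singleton_iff.1 hz]; exact hya,
      fun z hz => by rw [Set.mem_singleton_iff.1 hz]; exact hyb,
      fun z hz => by rw [Set.mem_singleton_iff.1 hz, ← mul_smul, hc.eq, mul_smul, hyb]⟩
  obtain ⟨A, hA, hAn⟩ := I.exists_KV
  obtain ⟨k', hk', w', hw', e⟩ := (hA _).1 (hAn d hd y ((hA y).2 ⟨k, hk, w, hw, rfl⟩))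
  have hyt := hdy y rfl
  rw [e] at hyt
  have hwt : t * w' * t⁻¹ = w' := by
    have h := cent_all (hS := hS) ▸ (show w' ∈ twoStab Ω a t ⊓ Subgroup.centralizer (invl G a) from hw')
    rw [← Subgroup.mem_centralizer_singleton_iff.1 (Subgroup.mem_inf.1 (Subgroup.mem_inf.1 h).1).2,
      mul_inv_cancel_right]
  have h1 : t * (k' * w') * t⁻¹ = k'⁻¹ * w' := by
    rw [show t * (k' * w') * t⁻¹ = t * k' * t⁻¹ * (t * w' * t⁻¹) by group, hk'.2, hwt]
  rw [← hyt, mul_inv_cancel_right] at h1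
  have hk'1 : k' = 1 := eq_one_of_odd_inv (orderOf_odd_mem hS.odd_card hk'.1) (mul_right_cancel h1).symm
  rw [hk'1, one_mul] at e
  have hyV : y ∈ centI Ω a t := by
    have hdi : d⁻¹ ∈ twoStab Ω a t := inv_mem hd
    have h2 : y = d⁻¹ * w' * d⁻¹⁻¹ := by rw [← e]; group
    refine Subgroup.mem_inf.2 ⟨hyD, Subgroup.mem_centralizer_iff.2 fun s hs => ?_⟩
    have hs' : d * s * d⁻¹ ∈ invl G a := conj_invol hS (Subgroup.mem_inf.1 hd).1 hs
    have h3 := Subgroup.mem_centralizer_iff.1 (Subgroup.mem_inf.1 hw').2 _ hs'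
    rw [h2]
    calc s * (d⁻¹ * w' * d⁻¹⁻¹) = d⁻¹ * (d * s * d⁻¹ * w') * d := by group
      _ = d⁻¹ * (w' * (d * s * d⁻¹)) * d := by rw [h3]
      _ = _ := by group
  refine I.K_inter_V hk ?_
  rw [show k = y * w⁻¹ by rw [hy, mul_inv_cancel_right]]
  exact mul_mem hyV (inv_mem hw)

/-- Elements of `K V` have no fixed points on `Q / Z`. -/
theorem mem_Z_of_fixed {k w p : G} (hk : k ∈ invK Ω a t) (hw : w ∈ centI Ω a t) (hne : k * w ≠ 1) (hp : p ∈ Q)
    (h : p⁻¹ * (k * w * p * (k * w)⁻¹) ∈ I.Z) : p ∈ I.Z := by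
  have hS := I.setup
  set y := k * w with hy
  have hya : y • a = a := (Subgroup.mem_inf.1 (mul_mem hk.1 (Subgroup.mem_inf.1 hw).1 : y ∈ twoStab Ω a t)).1
  obtain ⟨z, hz, e⟩ : ∃ z ∈ I.Z, y * p * y⁻¹ = p * z := ⟨_, h, (mul_inv_cancel_left p _).symm⟩
  by_cases hk1 : k = 1
  · have hyV : y ∈ centI Ω a t := by rw [hy, hk1, one_mul]; exact hw
    have hyz : y * z * y⁻¹ = z := by
      rcases hz with rfl | hz
      · rw [mul_one, mul_inv_cancel]
      · rw [← Subgroup.mem_centralizer_iff.1 (Subgroup.mem_inf.1 hyV).2 z hz, mul_inv_cancel_right]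
    have hit : ∀ n : ℕ, y ^ n * p * (y ^ n)⁻¹ = p * z ^ n := by
      intro n
      induction n with
      | zero => simp
      | succ n ih =>
        rw [pow_succ' y, show y * y ^ n * p * (y * y ^ n)⁻¹ = y * (y ^ n * p * (y ^ n)⁻¹) * y⁻¹ by group, ih,
          show y * (p * z ^ n) * y⁻¹ = (y * p * y⁻¹) * (y * z * y⁻¹) ^ n by rw [conj_pow]; group, e, hyz,
          mul_assoc, ← pow_succ']
    obtain ⟨j, hj⟩ := orderOf_odd_mem hS.odd_card (Subgroup.mem_inf.1 hyV).1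
    have h1 := hit (2 * j + 1)
    rw [← hj, pow_orderOf_eq_one, hj, pow_succ, pow_mul, pow_two, (I.mem_Z.1 hz).2, one_pow, one_mul, one_mul,
      inv_one, mul_one, left_eq_mul] at h1
    rw [h1, mul_one, mul_inv_eq_iff_eq_mul] at e
    exact I.mem_Z.2 ⟨hp, I.cent y hyV hne p hp e⟩
  · let f : I.Z → I.Z := fun x => ⟨y * x * y⁻¹ * (x : G), mul_mem (I.Z_conj hya x.2) x.2⟩
    have hf : Function.Injective f := by
      intro x x' h'
      by_contra hne'
      have h2 : y * x * y⁻¹ * (x : G) = y * x' * y⁻¹ * (x' : G) := congrArg Subtype.val h'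
      have hd : y * ((x : G) * x') * y⁻¹ = (x : G) * x' := by
        have hc := I.Z_comm x.2 (I.Z_le x'.2)
        set A : I.Z := ⟨y * x * y⁻¹, I.Z_conj hya x.2⟩ with hA
        set A' : I.Z := ⟨y * x' * y⁻¹, I.Z_conj hya x'.2⟩ with hA'
        have h2' : A * x = A' * x' := Subtype.ext h2
        have hsq : ∀ b : I.Z, b * b = 1 := fun b => Subtype.ext (I.mem_Z.1 b.2).2
        have h3 : A * A' = x * x' := by
          calc A * A' = A * x * (x * A') := by rw [mul_assoc A x, ← mul_assoc x x, hsq x, one_mul]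
            _ = A' * x' * (x * A') := by rw [h2']
            _ = x * x' * (A' * A') := by ac_rfl
            _ = x * x' := by rw [hsq A', mul_one]
        calc y * ((x : G) * x') * y⁻¹ = (y * x * y⁻¹) * (y * x' * y⁻¹) := by group
          _ = (x : G) * x' := congrArg Subtype.val h3
      refine hk1 (I.mem_V_of_commute hk hw (mul_mem (I.Z_le x.2) (I.Z_le x'.2)) (fun h1 => hne' ?_)
        (mul_inv_eq_iff_eq_mul.1 hd))
      exact Subtype.ext (by rw [eq_inv_of_mul_eq_one_left h1, I.Z_inv x'.2])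
    obtain ⟨⟨x, hx⟩, hfx⟩ := (Finite.injective_iff_surjective.1 hf) ⟨z, hz⟩
    have hfx' : y * x * y⁻¹ * x = z := congrArg Subtype.val hfx
    have hfix : y * (p * x) * y⁻¹ = p * x := by
      rw [show y * (p * x) * y⁻¹ = y * p * y⁻¹ * (y * x * y⁻¹) by group, e,
        show y * x * y⁻¹ = z * x by rw [← hfx', mul_assoc (y * x * y⁻¹), (I.mem_Z.1 hx).2, mul_one],
        mul_assoc, ← mul_assoc z z, (I.mem_Z.1 hz).2, one_mul]
    have h1 : p * x = 1 := by
      by_contra h1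
      exact hk1 (I.mem_V_of_commute hk hw (mul_mem hp (I.Z_le hx)) h1 (mul_inv_eq_iff_eq_mul.1 hfix))
    rw [eq_inv_of_mul_eq_one_left h1]
    exact inv_mem hx

end Input

end Cfsg.Lib.BenderSuzuki.U3
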