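import Cfsg.Agent.BenderSuzuki.U3.Maps
import Cfsg.Agent.Classical.Misc.SLTwoTori
import Cfsg.Agent.S1134

/-!
The case `|Q| = q ^ 3`: the group generated by the central involutions and `t` is a copy of `SL₂(q)` acting
regularly on the points outside the fixed points of `v`, which gives a parametrisation of `Q ∖ Z`.
-/

set_option autoImplicit false
set_option linter.unusedSectionVars false
set_option linter.unusedSimpArgs false

namespace Cfsg.Lib.BenderSuzuki.U3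

open MulAction Cfsg.Lib.RankOne Matrix
open scoped MatrixGroups

universe u v

variable {G : Type u} {Ω : Type v} [Group G] [Finite G] [MulAction G Ω] {a : Ω} {t : G} {Q : Subgroup G}

namespace Sl

variable {F : Type} [Field F] [CharP F 2]

/-- The upper unipotent matrix. -/
def mU (c : F) : SL(2, F) := ⟨!![1, c; 0, 1], by simp [Matrix.det_fin_two]⟩

/-- The diagonal matrix. -/
def mT (l : Fˣ) : SL(2, F) := ⟨!![(l : F), 0; 0, ((l⁻¹ : Fˣ) : F)], by simp [Matrix.det_fin_two]⟩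

/-- The matrix exchanging the two rows. -/
def mW : SL(2, F) := ⟨!![0, 1; 1, 0], by simp [Matrix.det_fin_two, CharTwo.neg_eq]⟩

/-- The lower unipotent matrix. -/
def mL (c : F) : SL(2, F) := ⟨!![1, 0; c, 1], by simp [Matrix.det_fin_two]⟩

theorem mL_coe (c : F) : (mL c : SL(2, F)).1 = !![1, 0; c, 1] := rfl

theorem mU_coe (c : F) : (mU c : SL(2, F)).1 = !![1, c; 0, 1] := rfl

theorem mT_coe (l : Fˣ) : (mT l : SL(2, F)).1 = !![(l : F), 0; 0, ((l⁻¹ : Fˣ) : F)] := rfl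

theorem mW_coe : (mW : SL(2, F)).1 = !![0, 1; 1, 0] := rfl

theorem det_eq (M : SL(2, F)) : M.1 0 0 * M.1 1 1 + M.1 0 1 * M.1 1 0 = 1 := by
  have h := M.2
  rwa [Matrix.det_fin_two, CharTwo.sub_eq_add] at h

theorem ext4 {M N : SL(2, F)} (h00 : M.1 0 0 = N.1 0 0) (h01 : M.1 0 1 = N.1 0 1) (h10 : M.1 1 0 = N.1 1 0)
    (h11 : M.1 1 1 = N.1 1 1) : M = N := Subtype.ext (by ext i j; fin_cases i <;> fin_cases j <;> assumption)

/-- Each matrix is the product of two involutions. -/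
theorem real (L : SL(2, F)) : ∃ J : SL(2, F), J * L * J⁻¹ = L⁻¹ := by
  have key : ∀ J : SL(2, F), J.1 0 0 = J.1 1 1 → (J * L).1 0 0 = (J * L).1 1 1 → J * L * J⁻¹ = L⁻¹ := by
    intro J h1 h2
    have sq : ∀ N : SL(2, F), N.1 0 0 = N.1 1 1 → N * N = 1 := fun N hN => by
      have hd := det_eq N
      refine ext4 ?_ ?_ ?_ ?_ <;> simp [Matrix.mul_apply, Fin.sum_univ_two, SpecialLinearGroup.coe_mul, hN] <;> rw [hN] at hd
      · linear_combination hd
      · linear_combination (N.1 0 1 * N.1 1 1) * CharTwo.two_eq_zero (R := F)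
      · linear_combination (N.1 1 0 * N.1 1 1) * CharTwo.two_eq_zero (R := F)
      · linear_combination hd
    have a1 := inv_eq_of_mul_eq_one_right (sq J h1)
    have a2 := inv_eq_of_mul_eq_one_right (sq _ h2)
    calc J * L * J⁻¹ = (J * L)⁻¹ * J⁻¹ := by rw [a2]
      _ = L⁻¹ := by rw [a1, _root_.mul_inv_rev, a1, mul_assoc, sq J h1, mul_one]
  set a := L.1 0 0 with ha
  set b := L.1 0 1 with hb
  set c := L.1 1 0 with hc
  set d := L.1 1 1 with hd
  by_cases hc0 : c = 0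
  · by_cases hb0 : b = 0
    · refine ⟨mW, key _ rfl ?_⟩
      simp [mW_coe, Matrix.mul_apply, Fin.sum_univ_two, SpecialLinearGroup.coe_mul, ← hb, ← hc, hb0, hc0]
    · refine ⟨mL ((a + d) / b), key _ rfl ?_⟩
      simp [mL_coe, Matrix.mul_apply, Fin.sum_univ_two, SpecialLinearGroup.coe_mul, ← ha, ← hb, ← hc, ← hd]
      rw [div_mul_cancel₀ _ hb0]
      linear_combination -d * CharTwo.two_eq_zero (R := F)
  · refine ⟨mU ((a + d) / c), key _ rfl ?_⟩
    simp [mU_coe, Matrix.mul_apply, Fin.sum_univ_two, SpecialLinearGroup.coe_mul, ← ha, ← hb, ← hc, ← hd]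
    rw [div_mul_cancel₀ _ hc0]
    linear_combination a * CharTwo.two_eq_zero (R := F)

end Sl

namespace Frame

variable {F E : Type} [Field F] [Fintype F] [CharP F 2] [Field E] [Fintype E] [CharP E 2] (Fr : Frame Ω a t Q F E)

open scoped _root_.Classical in
/-- The element of `G` belonging to a matrix. -/
noncomputable def ψ₀ (M : SL(2, F)) : G :=
  if h : M.1 1 0 = 0 then
    Fr.zc (M.1 0 0 * M.1 0 1) * Fr.kl (Units.mk0 (M.1 0 0) (fun e => by
      have := Sl.det_eq M; rw [e, h] at this; simp at this))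
  else Fr.zc (M.1 0 0 / M.1 1 0) * Fr.kl (Units.mk0 (M.1 1 0) h)⁻¹ * t * Fr.zc (M.1 1 1 / M.1 1 0)

theorem kl_zc_swap (l : Fˣ) (c : F) : Fr.kl l * Fr.zc c = Fr.zc ((l : F) * l * c) * Fr.kl l := by
  rw [← Fr.coord.kl_zc, inv_mul_cancel_right]

theorem kl_zc_swap' (l : Fˣ) (c : F) :
    Fr.zc c * Fr.kl l = Fr.kl l * Fr.zc (((l⁻¹ : Fˣ) : F) * ((l⁻¹ : Fˣ) : F) * c) := by
  rw [Fr.kl_zc_swap]
  congr 2
  rw [Units.val_inv_eq_inv_val]
  field_simp

theorem t_kl (l : Fˣ) : t * Fr.kl l = Fr.kl l⁻¹ * t := by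
  calc t * Fr.kl l = t * Fr.kl l * (t * t) := by rw [Fr.input.setup.mul_self, mul_one]
    _ = (t * Fr.kl l * t) * t := by simp only [mul_assoc]
    _ = _ := by rw [Fr.coord.t_kl Fr.input.setup]

theorem ψ₀_mU (c : F) (M : SL(2, F)) : Fr.ψ₀ (Sl.mU c * M) = Fr.zc c * Fr.ψ₀ M := by
  have e10 : (Sl.mU c * M).1 1 0 = M.1 1 0 := by simp [Sl.mU_coe, Matrix.mul_apply, Fin.sum_univ_two, SpecialLinearGroup.coe_mul]
  have e00 : (Sl.mU c * M).1 0 0 = M.1 0 0 + c * M.1 1 0 := by simp [Sl.mU_coe, Matrix.mul_apply, Fin.sum_univ_two, SpecialLinearGroup.coe_mul]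
  have e01 : (Sl.mU c * M).1 0 1 = M.1 0 1 + c * M.1 1 1 := by simp [Sl.mU_coe, Matrix.mul_apply, Fin.sum_univ_two, SpecialLinearGroup.coe_mul]
  have e11 : (Sl.mU c * M).1 1 1 = M.1 1 1 := by simp [Sl.mU_coe, Matrix.mul_apply, Fin.sum_univ_two, SpecialLinearGroup.coe_mul]
  unfold ψ₀
  by_cases h : M.1 1 0 = 0
  · rw [dif_pos (e10.trans h), dif_pos h, ← mul_assoc, ← Fr.coord.zc_add]
    simp only [e00, e01, h, mul_zero, add_zero]
    congr 2
    have := Sl.det_eq M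
    rw [h, mul_zero, add_zero] at this
    linear_combination c * this
  · rw [dif_neg (by rwa [e10]), dif_neg h]
    simp only [e10, e00, e11]
    rw [add_div, mul_div_assoc, div_self h, mul_one, add_comm, Fr.coord.zc_add]
    simp only [mul_assoc]

theorem ψ₀_mT (l : Fˣ) (M : SL(2, F)) : Fr.ψ₀ (Sl.mT l * M) = Fr.kl l * Fr.ψ₀ M := by
  have e10 : (Sl.mT l * M).1 1 0 = ((l⁻¹ : Fˣ) : F) * M.1 1 0 := by simp [Sl.mT_coe, Matrix.mul_apply, Fin.sum_univ_two, SpecialLinearGroup.coe_mul]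
  have e00 : (Sl.mT l * M).1 0 0 = (l : F) * M.1 0 0 := by simp [Sl.mT_coe, Matrix.mul_apply, Fin.sum_univ_two, SpecialLinearGroup.coe_mul]
  have e01 : (Sl.mT l * M).1 0 1 = (l : F) * M.1 0 1 := by simp [Sl.mT_coe, Matrix.mul_apply, Fin.sum_univ_two, SpecialLinearGroup.coe_mul]
  have e11 : (Sl.mT l * M).1 1 1 = ((l⁻¹ : Fˣ) : F) * M.1 1 1 := by simp [Sl.mT_coe, Matrix.mul_apply, Fin.sum_univ_two, SpecialLinearGroup.coe_mul]
  unfold ψ₀
  by_cases h : M.1 1 0 = 0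
  · rw [dif_pos (by rw [e10, h, mul_zero]), dif_pos h, ← mul_assoc, Fr.kl_zc_swap, mul_assoc, ← map_mul]
    congr 2
    · rw [e00, e01]; ring
    · exact Units.ext e00
  · rw [dif_neg (by rw [e10]; exact mul_ne_zero (Units.ne_zero _) h), dif_neg h, ← mul_assoc, ← mul_assoc,
      ← mul_assoc, Fr.kl_zc_swap, mul_assoc (Fr.zc _) (Fr.kl l), ← map_mul]
    congr 2
    · congr 2
      · rw [e00, e10, Units.val_inv_eq_inv_val]; field_simp
      · refine inv_injective ?_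
        rw [inv_inv, _root_.mul_inv_rev, inv_inv]
        exact Units.ext (by rw [Units.val_mul, Units.val_mk0, Units.val_mk0, e10, mul_comm])
    · rw [e11, e10, mul_div_mul_left _ _ (Units.ne_zero _)]

theorem ψ₀_mW (M : SL(2, F)) : Fr.ψ₀ (Sl.mW * M) = t * Fr.ψ₀ M := by
  have hS := Fr.input.setup
  have e10 : (Sl.mW * M).1 1 0 = M.1 0 0 := by simp [Sl.mW_coe, Matrix.mul_apply, Fin.sum_univ_two, SpecialLinearGroup.coe_mul]
  have e00 : (Sl.mW * M).1 0 0 = M.1 1 0 := by simp [Sl.mW_coe, Matrix.mul_apply, Fin.sum_univ_two, SpecialLinearGroup.coe_mul]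
  have e01 : (Sl.mW * M).1 0 1 = M.1 1 1 := by simp [Sl.mW_coe, Matrix.mul_apply, Fin.sum_univ_two, SpecialLinearGroup.coe_mul]
  have e11 : (Sl.mW * M).1 1 1 = M.1 0 1 := by simp [Sl.mW_coe, Matrix.mul_apply, Fin.sum_univ_two, SpecialLinearGroup.coe_mul]
  have hdet := Sl.det_eq M
  unfold ψ₀
  by_cases h : M.1 1 0 = 0
  · have h0 : M.1 0 0 ≠ 0 := fun e => by rw [e, h] at hdet; simp at hdet
    rw [dif_neg (by rw [e10]; exact h0), dif_pos h]
    simp only [e10, e00, e11, h, zero_div, Fr.coord.zc_zero, one_mul]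
    rw [Fr.kl_zc_swap', ← mul_assoc t, Fr.t_kl]
    congr 2
    rw [Units.val_inv_eq_inv_val, Units.val_mk0]
    field_simp
  · by_cases h0 : M.1 0 0 = 0
    · rw [dif_pos (by rw [e10, h0]), dif_neg h]
      simp only [e00, e01, h0, zero_div, Fr.coord.zc_zero, one_mul]
      rw [← mul_assoc, ← mul_assoc, Fr.t_kl, inv_inv, mul_assoc (Fr.kl _) t t, hS.mul_self, mul_one, Fr.kl_zc_swap]
      congr 2
      rw [Units.val_mk0]
      field_simp
    · rw [dif_neg (by rw [e10]; exact h0), dif_neg h]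
      simp only [e10, e00, e11]
      set α := Units.mk0 (M.1 0 0) h0 with hα
      set γ := Units.mk0 (M.1 1 0) h with hγ
      have hz := Fr.coord.t_zc (α * γ⁻¹)
      have ea : ((α * γ⁻¹ : Fˣ) : F) = M.1 0 0 / M.1 1 0 := by
        rw [Units.val_mul, Units.val_inv_eq_inv_val, ← div_eq_mul_inv]; rfl
      have eb : (((α * γ⁻¹)⁻¹ : Fˣ) : F) = M.1 1 0 / M.1 0 0 := by
        rw [Units.val_inv_eq_inv_val, ea, inv_div]
      rw [ea, eb] at hz
      set A := Fr.zc (M.1 0 0 / M.1 1 0)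
      set B := Fr.zc (M.1 1 0 / M.1 0 0)
      set C := Fr.zc (M.1 1 1 / M.1 1 0)
      calc B * Fr.kl α⁻¹ * t * Fr.zc (M.1 0 1 / M.1 0 0)
          = B * Fr.kl α⁻¹ * t * (Fr.zc ((γ⁻¹ : Fˣ) * ((α⁻¹ : Fˣ) : F)) * C) := by
            rw [← Fr.coord.zc_add]
            congr 2
            rw [Units.val_inv_eq_inv_val, Units.val_inv_eq_inv_val, hα, hγ, Units.val_mk0, Units.val_mk0]
            field_simp
            linear_combination hdet - M.1 0 0 * M.1 1 1 * CharTwo.two_eq_zero (R := F)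
        _ = B * Fr.kl (α * γ⁻¹)⁻¹ * t * (B * Fr.kl γ) * C := by
            have hsw : B * Fr.kl γ = Fr.kl γ * Fr.zc ((γ⁻¹ : Fˣ) * ((α⁻¹ : Fˣ) : F)) := by
              rw [show B * Fr.kl γ = Fr.zc (M.1 1 0 / M.1 0 0) * Fr.kl γ from rfl, Fr.kl_zc_swap']
              congr 2
              rw [Units.val_inv_eq_inv_val, Units.val_inv_eq_inv_val, hα, hγ, Units.val_mk0, Units.val_mk0]
              field_simp
            set Z := Fr.zc ((γ⁻¹ : Fˣ) * ((α⁻¹ : Fˣ) : F))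
            rw [hsw]
            calc B * Fr.kl α⁻¹ * t * (Z * C) = B * (Fr.kl (α * γ⁻¹)⁻¹ * Fr.kl γ⁻¹) * t * (Z * C) := by
                  rw [← map_mul, show (α * γ⁻¹)⁻¹ * γ⁻¹ = α⁻¹ by
                    rw [_root_.mul_inv_rev, inv_inv, mul_comm γ, mul_inv_cancel_right]]
              _ = B * Fr.kl (α * γ⁻¹)⁻¹ * (t * Fr.kl γ) * (Z * C) := by rw [Fr.t_kl]; simp only [mul_assoc]
              _ = _ := by simp only [mul_assoc]
        _ = t * A * t * (Fr.kl γ * C) := by rw [hz]; simp only [mul_assoc]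
        _ = t * A * (t * Fr.kl γ) * C := by simp only [mul_assoc]
        _ = _ := by rw [Fr.t_kl]; simp only [mul_assoc]

theorem ψ₀_one : Fr.ψ₀ 1 = 1 := by
  unfold ψ₀
  rw [dif_pos (by simp)]
  simp [Fr.coord.zc_zero]

theorem ψ₀_mU' (c : F) : Fr.ψ₀ (Sl.mU c) = Fr.zc c := by
  rw [← mul_one (Sl.mU c), ψ₀_mU, ψ₀_one, mul_one]

theorem ψ₀_mT' (l : Fˣ) : Fr.ψ₀ (Sl.mT l) = Fr.kl l := by
  rw [← mul_one (Sl.mT l), ψ₀_mT, ψ₀_one, mul_one]

theorem ψ₀_mul (M N : SL(2, F)) : Fr.ψ₀ (M * N) = Fr.ψ₀ M * Fr.ψ₀ N := by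
  by_cases h : M.1 1 0 = 0
  · have h0 : M.1 0 0 ≠ 0 := fun e => by have := Sl.det_eq M; rw [e, h] at this; simp at this
    have hM : M = Sl.mU (M.1 0 0 * M.1 0 1) * Sl.mT (Units.mk0 _ h0) := by
      have hd := Sl.det_eq M
      rw [h, mul_zero, add_zero] at hd
      refine Sl.ext4 ?_ ?_ ?_ ?_ <;> simp [Sl.mU_coe, Sl.mT_coe, Matrix.mul_apply, Fin.sum_univ_two, SpecialLinearGroup.coe_mul, h]
      · field_simp
      · exact eq_inv_of_mul_eq_one_right hd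
    rw [hM]
    conv_rhs => arg 1; rw [← mul_one (Sl.mU _ * Sl.mT _)]
    simp only [mul_assoc, ψ₀_mU, ψ₀_mT, ψ₀_mT', ψ₀_one, mul_one]
  · have hM : M = Sl.mU (M.1 0 0 / M.1 1 0) * (Sl.mT (Units.mk0 _ h)⁻¹ * (Sl.mW * Sl.mU (M.1 1 1 / M.1 1 0))) := by
      have hd := Sl.det_eq M
      refine Sl.ext4 ?_ ?_ ?_ ?_ <;> simp [Sl.mU_coe, Sl.mT_coe, Sl.mW_coe, Matrix.mul_apply, Fin.sum_univ_two, SpecialLinearGroup.coe_mul]
      · field_simp
      · field_simp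
        linear_combination hd - M.1 0 0 * M.1 1 1 * CharTwo.two_eq_zero (R := F)
      · field_simp
    rw [hM]
    conv_rhs => arg 1; rw [← mul_one (Sl.mU _ * (_ : SL(2, F)))]
    simp only [mul_assoc, ψ₀_mU, ψ₀_mT, ψ₀_mW, ψ₀_mU', ψ₀_one, mul_one]

/-- The homomorphism from `SL₂`. -/
noncomputable def ψ : SL(2, F) →* G where
  toFun := Fr.ψ₀
  map_one' := Fr.ψ₀_one
  map_mul' := Fr.ψ₀_mul

theorem ψ_mU (c : F) : Fr.ψ (Sl.mU c) = Fr.zc c := by
  show Fr.ψ₀ _ = _; rw [← mul_one (Sl.mU c), ψ₀_mU, ψ₀_one, mul_one]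

theorem ψ_mT (l : Fˣ) : Fr.ψ (Sl.mT l) = Fr.kl l := by
  show Fr.ψ₀ _ = _; rw [← mul_one (Sl.mT l), ψ₀_mT, ψ₀_one, mul_one]

theorem ψ_mW : Fr.ψ (Sl.mW : SL(2, F)) = t := by
  show Fr.ψ₀ _ = _; rw [← mul_one (Sl.mW : SL(2, F)), ψ₀_mW, ψ₀_one, mul_one]

theorem v_comm_t : Commute Fr.v t :=
  Subgroup.mem_centralizer_singleton_iff.1
    (Subgroup.mem_inf.1 (centI_le_centT (hS := Fr.input.setup) Fr.v_mem)).2

theorem v_comm_zc (c : F) : Commute Fr.v (Fr.zc c) := by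
  rcases eq_or_ne c 0 with rfl | hc
  · rw [Fr.coord.zc_zero]; exact Commute.one_right _
  · exact (Subgroup.mem_centralizer_iff.1 (Subgroup.mem_inf.1 Fr.v_mem).2 _ (Fr.coord.zc_invl hc Fr.input.setup)).symm

theorem v_comm_kl (l : Fˣ) : Commute Fr.v (Fr.kl l) :=
  (kl_comm_centI (hS := Fr.input.setup) Fr.v_mem (Fr.coord.kl_mem l)).symm

theorem v_comm_ψ (M : SL(2, F)) : Commute Fr.v (Fr.ψ M) := by
  show Commute Fr.v (Fr.ψ₀ M)
  unfold ψ₀
  split
  · exact (Fr.v_comm_zc _).mul_right (Fr.v_comm_kl _)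
  · exact (((Fr.v_comm_zc _).mul_right (Fr.v_comm_kl _)).mul_right Fr.v_comm_t).mul_right (Fr.v_comm_zc _)

theorem v_a : Fr.v • a = a := (Subgroup.mem_inf.1 (Subgroup.mem_inf.1 Fr.v_mem).1).1

theorem v_b : Fr.v • t • a = t • a := (Subgroup.mem_inf.1 (Subgroup.mem_inf.1 Fr.v_mem).1).2

theorem v_ne_one : Fr.v ≠ 1 := fun h => by
  have := Fr.v_prime; rw [h, orderOf_one] at this; exact Nat.not_prime_one this

theorem fix_v_iff {p : G} (hp : p ∈ Q) : Fr.v • p • t • a = p • t • a ↔ p * p = 1 := by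
  constructor
  · intro h
    have hc : Fr.v * p * Fr.v⁻¹ = p := by
      refine Fr.input.pts_inj (Fr.input.setup.conj_mem _ Fr.v_a p hp) hp ?_
      rw [mul_smul, mul_smul, inv_smul_eq_iff.2 Fr.v_b.symm, h]
    exact Fr.input.cent _ Fr.v_mem Fr.v_ne_one p hp (mul_inv_eq_iff_eq_mul.1 hc)
  · intro h
    obtain ⟨c, rfl⟩ := (Fr.coord.mem_range p).2 ⟨hp, h⟩
    rw [← mul_smul, (Fr.v_comm_zc c).eq, mul_smul, Fr.v_b]

theorem moved_smul {x : Ω} (hx : Fr.v • x ≠ x) (M : SL(2, F)) : Fr.v • Fr.ψ M • x ≠ Fr.ψ M • x := fun h =>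
  hx (smul_left_cancel (Fr.ψ M) (by rw [← mul_smul, ← (Fr.v_comm_ψ M).eq, mul_smul, h]))

theorem ψ_injective : Function.Injective Fr.ψ := by
  have hS := Fr.input.setup
  rw [injective_iff_map_eq_one]
  intro M hM
  change Fr.ψ₀ M = 1 at hM
  unfold ψ₀ at hM
  split at hM
  · rename_i h
    set l : Fˣ := Units.mk0 (M.1 0 0) _
    have h1 := congrArg (fun g : G => g • t • a) hM
    rw [mul_smul, show Fr.kl l • t • a = t • a from (Subgroup.mem_inf.1 (Fr.coord.kl_D l)).2, one_smul] at h1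
    have h2 := Fr.coord.zc_inj ((Fr.input.eq_one_of_pts (Fr.coord.zc_mem _) h1).trans Fr.coord.zc_zero.symm)
    rw [h2, Fr.coord.zc_zero, one_mul] at hM
    have hl : M.1 0 0 = 1 := congrArg Units.val (Fr.coord.kl_inj (hM.trans (map_one Fr.kl).symm))
    have hd := Sl.det_eq M
    rw [h, mul_zero, add_zero, hl, one_mul] at hd
    rw [hl, one_mul] at h2
    exact Sl.ext4 (by simpa using hl) (by simpa using h2) (by simpa using h) (by simpa using hd)
  · exfalso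
    have h1 := congrArg (fun g : G => g • a) hM
    simp only [mul_smul, fix_a hS (Fr.coord.zc_mem _), one_smul] at h1
    rw [show ∀ l, Fr.kl l • t • a = t • a from fun l => (Subgroup.mem_inf.1 (Fr.coord.kl_D l)).2] at h1
    exact ta_ne hS (smul_left_cancel _ (h1.trans (fix_a hS (Fr.coord.zc_mem _)).symm))

theorem semiregular {x : Ω} (hx : Fr.v • x ≠ x) {L : SL(2, F)} (hL : Fr.ψ L • x = x) : L = 1 := by
  have hS := Fr.input.setup
  haveI := Fr.input.sim.faithful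
  apply Fr.ψ_injective
  rw [map_one]
  set y := Fr.ψ L with hy
  obtain ⟨j, hj⟩ := orderOf_odd_mem hS.odd_card (Subgroup.mem_inf.1 Fr.v_mem).1
  have hvv : Fr.v • Fr.v • x ≠ x := fun h => hx (by
    have h2 : ∀ i : ℕ, (Fr.v * Fr.v) ^ i • x = x := fun i => by
      induction i with
      | zero => simp
      | succ i ih => rw [pow_succ, mul_smul, mul_smul Fr.v, h, ih]
    have h3 := h2 (j + 1)
    rwa [← pow_two, ← pow_mul, show 2 * (j + 1) = 2 * j + 1 + 1 by ring, ← hj, pow_succ, pow_orderOf_eq_one,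
      one_mul] at h3)
  have hyv : y • Fr.v • x = Fr.v • x := by rw [← mul_smul, ← (Fr.v_comm_ψ L).eq, mul_smul, hL]
  have hyvv : y • Fr.v • Fr.v • x = Fr.v • Fr.v • x := by rw [← mul_smul, ← (Fr.v_comm_ψ L).eq, mul_smul, hyv]
  obtain ⟨g, g1, g2⟩ := trans₂ hS hx.symm (ta_ne hS).symm
  set y' := g * y * g⁻¹ with hy'
  have hfix : ∀ p : Ω, y • p = p → y' • g • p = g • p := fun p hp => by
    rw [hy', mul_smul, mul_smul, inv_smul_smul, hp]
  have hyD : y' ∈ twoStab Ω a t := by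
    refine Subgroup.mem_inf.2 ⟨?_, ?_⟩
    · show y' • a = a
      rw [← g1]; exact hfix x hL
    · show y' • t • a = t • a
      rw [← g2]; exact hfix _ hyv
  obtain ⟨d, hd, hdc⟩ := conj_into_t hS (X := {y'}) (Set.singleton_subset_iff.2 hyD)
    ⟨g • x, g • Fr.v • x, g • Fr.v • Fr.v • x, fun h => hx (smul_left_cancel g h).symm,
      fun h => hvv (smul_left_cancel g h).symm, fun h => hx (smul_left_cancel Fr.v (smul_left_cancel g h)).symm,
      fun z hz => by rw [Set.mem_singleton_iff.1 hz]; exact hfix x hL,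
      fun z hz => by rw [Set.mem_singleton_iff.1 hz]; exact hfix _ hyv,
      fun z hz => by rw [Set.mem_singleton_iff.1 hz]; exact hfix _ hyvv⟩
  set y'' := d * y' * d⁻¹ with hy''
  have hyW : y'' ∈ centT Ω a t := Subgroup.mem_inf.2
    ⟨mul_mem (mul_mem hd hyD) (inv_mem hd), Subgroup.mem_centralizer_singleton_iff.2 (hdc y' rfl)⟩
  obtain ⟨J, hJ⟩ := Sl.real L
  set m := d * g * Fr.ψ J * (d * g)⁻¹ with hm
  have hconj : m * y'' * m⁻¹ = y''⁻¹ := by
    have e : Fr.ψ J * y * (Fr.ψ J)⁻¹ = y⁻¹ := by rw [hy, ← map_inv, ← map_mul, ← map_mul, hJ, map_inv]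
    rw [hm, hy'', hy']
    calc d * g * Fr.ψ J * (d * g)⁻¹ * (d * (g * y * g⁻¹) * d⁻¹) * (d * g * Fr.ψ J * (d * g)⁻¹)⁻¹
        = d * g * (Fr.ψ J * y * (Fr.ψ J)⁻¹) * (d * g)⁻¹ := by group
      _ = _ := by rw [e]; group
  obtain ⟨w, hw, hwe⟩ := Cfsg.Agent.S1134.result hS Fr.input.two {y''} (Set.singleton_subset_iff.2 hyW) m (by
    rw [Set.image_singleton, Set.singleton_subset_iff, hconj]; exact inv_mem hyW)
  rw [Set.image_singleton, Set.image_singleton, hconj, Set.singleton_eq_singleton_iff] at hwe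
  have hodd : Odd (Nat.card ↥(centT Ω a t)) :=
    hS.odd_card.of_dvd_nat (Subgroup.card_dvd_of_le inf_le_left)
  have h2 : ∀ i : ℕ, (w * w) ^ i * y'' * ((w * w) ^ i)⁻¹ = y'' := fun i => by
    induction i with
    | zero => simp
    | succ i ih =>
      calc (w * w) ^ (i + 1) * y'' * ((w * w) ^ (i + 1))⁻¹
          = (w * w) ^ i * (w * (w * y'' * w⁻¹) * w⁻¹) * ((w * w) ^ i)⁻¹ := by rw [pow_succ]; group
        _ = _ := by
          rw [hwe, show w * y''⁻¹ * w⁻¹ = (w * y'' * w⁻¹)⁻¹ by group, hwe, inv_inv, ih]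
  obtain ⟨i, hi⟩ := orderOf_odd_mem hodd hw
  have h3 := h2 (i + 1)
  rw [← pow_two, ← pow_mul, show 2 * (i + 1) = 2 * i + 1 + 1 by ring, ← hi, pow_succ, pow_orderOf_eq_one, one_mul,
    hwe] at h3
  have h4 : y'' = 1 := eq_one_of_odd_inv (orderOf_odd_mem hodd hyW) h3
  rw [hy'', conj_eq_one_iff, hy', conj_eq_one_iff] at h4
  exact h4

/-- A point moved by `v`. -/
theorem exists_moved : ∃ x : Ω, Fr.v • x ≠ x := by
  obtain ⟨p, hp, hp1⟩ := Fr.ca_surj 1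
  refine ⟨p • t • a, fun h => ?_⟩
  rw [(Fr.ca_zero_iff p hp).2 ((Fr.fix_v_iff hp).1 h)] at hp1
  exact zero_ne_one hp1

/-- The base point. -/
noncomputable def x₁ : Ω := Fr.exists_moved.choose

theorem x₁_moved : Fr.v • Fr.x₁ ≠ Fr.x₁ := Fr.exists_moved.choose_spec

theorem exists_P (M : SL(2, F)) : ∃ p ∈ Q, p • t • a = Fr.ψ M • Fr.x₁ := by
  obtain ⟨p, hp, -⟩ := regular Fr.input.setup (ta_ne Fr.input.setup)
    (show Fr.ψ M • Fr.x₁ ≠ a from fun h => Fr.moved_smul Fr.x₁_moved M (by rw [h, Fr.v_a]))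
  exact ⟨p, p.2, hp⟩

/-- The element of `Q` belonging to a matrix. -/
noncomputable def P (M : SL(2, F)) : G := (Fr.exists_P M).choose

theorem P_mem (M : SL(2, F)) : Fr.P M ∈ Q := (Fr.exists_P M).choose_spec.1

theorem P_pt (M : SL(2, F)) : Fr.P M • t • a = Fr.ψ M • Fr.x₁ := (Fr.exists_P M).choose_spec.2

theorem P_unique {M : SL(2, F)} {p : G} (hp : p ∈ Q) (h : p • t • a = Fr.ψ M • Fr.x₁) : Fr.P M = p :=
  Fr.input.pts_inj (Fr.P_mem M) hp ((Fr.P_pt M).trans h.symm)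

theorem P_sq (M : SL(2, F)) : Fr.P M * Fr.P M ≠ 1 := fun h =>
  Fr.moved_smul Fr.x₁_moved M (by rw [← Fr.P_pt]; exact (Fr.fix_v_iff (Fr.P_mem M)).2 h)

theorem P_ne (M : SL(2, F)) : Fr.P M ≠ 1 := fun h => Fr.P_sq M (by rw [h, one_mul])

theorem P_injective : Function.Injective Fr.P := fun M N h => by
  have e := (Fr.P_pt M).symm.trans (h ▸ Fr.P_pt N)
  refine (inv_mul_eq_one.1 (Fr.semiregular Fr.x₁_moved (L := N⁻¹ * M) ?_)).symm
  rw [map_mul, mul_smul, e, ← mul_smul, ← map_mul, inv_mul_cancel, map_one, one_smul]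

theorem P_surj {p : G} (hp : p ∈ Q) (h2 : p * p ≠ 1) : ∃ M, Fr.P M = p := by
  let f : SL(2, F) → {p : G // p ∈ Q ∧ p * p ≠ 1} := fun M => ⟨Fr.P M, Fr.P_mem M, Fr.P_sq M⟩
  have hf : Function.Injective f := fun M N h => Fr.P_injective (congrArg Subtype.val h)
  have hb := hf.bijective_of_nat_card_le (by
    have e : {p : G | p ∈ Q ∧ p * p ≠ 1} = (Q : Set G) \ (Fr.input.Z : Set G) := by
      ext x
      simp only [Set.mem_setOf_eq, Set.mem_sdiff, SetLike.mem_coe, Fr.input.mem_Z]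
      tauto
    rw [show Nat.card {p : G // p ∈ Q ∧ p * p ≠ 1} = Nat.card ↥{p : G | p ∈ Q ∧ p * p ≠ 1} from rfl, e,
      Nat.card_coe_set_eq, Set.ncard_sdiff (show (Fr.input.Z : Set G) ⊆ Q from Fr.input.Z_le) (Set.toFinite _),
      ← Nat.card_coe_set_eq, ← Nat.card_coe_set_eq, SetLike.coe_sort_coe, SetLike.coe_sort_coe, Fr.input.card_Q,
      Fr.input.card_Z, Cfsg.Lib.Classical.SLTwoTori.card_SL2, Fr.coord.card]
    have hq := Fr.input.q_four
    rw [Nat.mul_sub, ← pow_succ', mul_one])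
  obtain ⟨M, hM⟩ := hb.2 ⟨p, hp, h2⟩
  exact ⟨M, congrArg Subtype.val hM⟩

theorem P_mU (c : F) (M : SL(2, F)) : Fr.P (Sl.mU c * M) = Fr.zc c * Fr.P M :=
  Fr.P_unique (mul_mem (Fr.coord.zc_mem c) (Fr.P_mem M)) (by
    rw [mul_smul, Fr.P_pt, map_mul, Fr.ψ_mU, mul_smul])

theorem P_mT (l : Fˣ) (M : SL(2, F)) : Fr.P (Sl.mT l * M) = Fr.kl l * Fr.P M * (Fr.kl l)⁻¹ :=
  Fr.P_unique (Fr.input.setup.conj_mem _ (Subgroup.mem_inf.1 (Fr.coord.kl_D l)).1 _ (Fr.P_mem M)) (by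
    rw [mul_smul, inv_smul_eq_iff.2 (Subgroup.mem_inf.1 (Fr.coord.kl_D l)).2.symm, mul_smul, Fr.P_pt, map_mul,
      Fr.ψ_mT, mul_smul])

theorem P_mW (M : SL(2, F)) : Fr.P (Sl.mW * M) = Fr.input.f (Fr.P M) :=
  Fr.P_unique (Fr.input.f_mem (Fr.P_mem M) (Fr.P_ne M)) (by
    rw [← Fr.input.f_pt (Fr.P_mem M) (Fr.P_ne M), Fr.P_pt, map_mul, Fr.ψ_mW, mul_smul])

theorem exists_θ : ∃ θ : SL(2, F), Fr.ψ θ • Fr.x₁ = Fr.v • Fr.x₁ := by
  obtain ⟨p, hp, -⟩ := regular Fr.input.setup (ta_ne Fr.input.setup) (show Fr.v • Fr.x₁ ≠ a from fun h =>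
    Fr.x₁_moved ((smul_left_cancel Fr.v (h.trans Fr.v_a.symm)).symm ▸ Fr.v_a))
  replace hp : (p : G) • t • a = Fr.v • Fr.x₁ := hp
  obtain ⟨M, hM⟩ := Fr.P_surj (p := p) p.2 (fun h => Fr.x₁_moved (smul_left_cancel Fr.v (by
    have h1 := (Fr.fix_v_iff p.2).2 h
    rw [hp] at h1
    exact h1)))
  exact ⟨M, by rw [← Fr.P_pt, hM, hp]⟩

/-- The matrix belonging to `v`, acting on the right. -/
noncomputable def θ : SL(2, F) := Fr.exists_θ.choose

theorem θ_spec : Fr.ψ Fr.θ • Fr.x₁ = Fr.v • Fr.x₁ := Fr.exists_θ.choose_spec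

theorem P_mul_θ (M : SL(2, F)) : Fr.P (M * Fr.θ) = Fr.v * Fr.P M * Fr.v⁻¹ :=
  Fr.P_unique (Fr.input.setup.conj_mem _ Fr.v_a _ (Fr.P_mem M)) (by
    rw [mul_smul, inv_smul_eq_iff.2 Fr.v_b.symm, mul_smul, Fr.P_pt, map_mul, mul_smul, Fr.θ_spec, ← mul_smul,
      (Fr.v_comm_ψ M).eq, mul_smul])

theorem θ_ne : Fr.θ ≠ 1 := fun h => Fr.x₁_moved (by rw [← Fr.θ_spec, h, map_one, one_smul])

theorem θ_pow : Fr.θ ^ orderOf Fr.v = 1 := by
  refine Fr.semiregular Fr.x₁_moved ?_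
  have h : ∀ i : ℕ, Fr.ψ (Fr.θ ^ i) • Fr.x₁ = Fr.v ^ i • Fr.x₁ := fun i => by
    induction i with
    | zero => simp
    | succ i ih =>
      rw [pow_succ, map_mul, mul_smul, Fr.θ_spec, ← mul_smul, ← (Fr.v_comm_ψ _).eq, mul_smul, ih, ← mul_smul,
        ← pow_succ', pow_succ]
  rw [h, pow_orderOf_eq_one, one_smul]

end Frame

end Cfsg.Lib.BenderSuzuki.U3
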