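import Cfsg.Agent.BenderSuzuki.U3.Circle
import Cfsg.Agent.BenderSuzuki.U3.Act

/-!
The case `|Q| = q ^ 3`: the coordinate of a row, and the values of `h` as a coboundary.
-/

set_option autoImplicit false
set_option linter.unusedSectionVars false
set_option linter.unusedSimpArgs false

namespace Cfsg.Lib.BenderSuzuki.U3

open MulAction Cfsg.Lib.RankOne Matrix
open scoped MatrixGroups

universe u v

variable {G : Type u} {Ω : Type v} [Group G] [Finite G] [MulAction G Ω] {a : Ω} {t : G} {Q : Subgroup G}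

/-- The determinant of two rows. -/
def dt {F : Type} [Field F] (x y : F × F) : F := x.1 * y.2 + x.2 * y.1

section Dt

variable {F : Type} [Field F] [CharP F 2] (x y z : F × F) (c : F)

theorem dt_comm : dt x y = dt y x := by simp only [dt]; ring

theorem dt_self : dt x x = 0 := by
  simp only [dt]; linear_combination (x.1 * x.2) * CharTwo.two_eq_zero (R := F)

theorem dt_add_left : dt (x + y) z = dt x z + dt y z := by simp only [dt, Prod.fst_add, Prod.snd_add]; ring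

theorem dt_add_right : dt x (y + z) = dt x y + dt x z := by simp only [dt, Prod.fst_add, Prod.snd_add]; ring

theorem dt_smul_left : dt (c • x) y = c * dt x y := by simp only [dt, Prod.smul_fst, Prod.smul_snd, smul_eq_mul]; ring

theorem dt_smul_right : dt x (c • y) = c * dt x y := by simp only [dt, Prod.smul_fst, Prod.smul_snd, smul_eq_mul]; ring

theorem dt_ne_left {x y : F × F} (h : dt x y ≠ 0) : x ≠ 0 := fun e => h (by simp [e, dt])

theorem dt_ne_right {x y : F × F} (h : dt x y ≠ 0) : y ≠ 0 := fun e => h (by simp [e, dt])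

theorem exists_smul_of_dt {x y : F × F} (hy : y ≠ 0) (h : dt x y = 0) : ∃ c : F, x = c • y := by
  simp only [dt] at h
  by_cases h1 : y.1 = 0
  · have h2 : y.2 ≠ 0 := fun e => hy (Prod.ext h1 e)
    rw [h1, mul_zero, add_zero, mul_eq_zero, or_iff_left h2] at h
    exact ⟨x.2 / y.2, Prod.ext (by simp [h, h1]) (by simp [div_mul_cancel₀ _ h2])⟩
  · refine ⟨x.1 / y.1, Prod.ext (by simp [div_mul_cancel₀ _ h1]) ?_⟩
    simp only [Prod.smul_snd, smul_eq_mul]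
    rw [div_mul_eq_mul_div, eq_div_iff h1]
    linear_combination h - (x.1 * y.2) * CharTwo.two_eq_zero (R := F)

theorem exists_top {y : F × F} (hy : y ≠ 0) : ∃ x : F × F, dt x y = 1 := by
  by_cases h1 : y.1 = 0
  · have h2 : y.2 ≠ 0 := fun e => hy (Prod.ext h1 e)
    exact ⟨(y.2⁻¹, 0), by simp [dt, h2]⟩
  · exact ⟨(0, y.1⁻¹), by simp [dt, h1]⟩

/-- The matrix with two given rows. -/
def mk2 (h : dt x y = 1) : SL(2, F) :=
  ⟨!![x.1, x.2; y.1, y.2], by rw [Matrix.det_fin_two, CharTwo.sub_eq_add]; exact h⟩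

theorem mk2_coe (h : dt x y = 1) : (mk2 x y h).1 = !![x.1, x.2; y.1, y.2] := rfl

/-- The first row. -/
def row₀ (M : SL(2, F)) : F × F := (M.1 0 0, M.1 0 1)

/-- The second row. -/
def row₁ (M : SL(2, F)) : F × F := (M.1 1 0, M.1 1 1)

theorem dt_rows (M : SL(2, F)) : dt (row₀ M) (row₁ M) = 1 := Sl.det_eq M

theorem mk2_rows (M : SL(2, F)) : mk2 (row₀ M) (row₁ M) (dt_rows M) = M :=
  Sl.ext4 rfl rfl rfl rfl

end Dt

namespace Frame

variable {F E : Type} [Field F] [Fintype F] [CharP F 2] [Field E] [Fintype E] [CharP E 2] (Fr : Frame Ω a t Q F E)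

open scoped _root_.Classical in
/-- The element of `Q` with given rows. -/
noncomputable def pp (x y : F × F) : G := if h : dt x y = 1 then Fr.P (mk2 x y h) else 1

variable {x y : F × F} (h : dt x y = 1)
include h

theorem pp_mem : Fr.pp x y ∈ Q := by rw [pp, dif_pos h]; exact Fr.P_mem _

theorem pp_sq : Fr.pp x y * Fr.pp x y ≠ 1 := by rw [pp, dif_pos h]; exact Fr.P_sq _

theorem pp_ne : Fr.pp x y ≠ 1 := fun e => Fr.pp_sq h (by rw [e, one_mul])

theorem pp_add (c : F) : Fr.pp (x + c • y) y = Fr.zc c * Fr.pp x y := by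
  have h' : dt (x + c • y) y = 1 := by rw [dt_add_left, dt_smul_left, dt_self, mul_zero, add_zero, h]
  rw [pp, dif_pos h', pp, dif_pos h, ← Fr.P_mU]
  congr 1
  refine Sl.ext4 ?_ ?_ ?_ ?_ <;>
    simp [mk2_coe, Sl.mU_coe, Matrix.mul_apply, Fin.sum_univ_two, SpecialLinearGroup.coe_mul]

theorem pp_smul (l : Fˣ) :
    Fr.pp ((l : F) • x) (((l⁻¹ : Fˣ) : F) • y) = Fr.kl l * Fr.pp x y * (Fr.kl l)⁻¹ := by
  have h' : dt ((l : F) • x) (((l⁻¹ : Fˣ) : F) • y) = 1 := by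
    rw [dt_smul_left, dt_smul_right, h, mul_one, ← Units.val_mul, mul_inv_cancel, Units.val_one]
  rw [pp, dif_pos h', pp, dif_pos h, ← Fr.P_mT]
  congr 1
  refine Sl.ext4 ?_ ?_ ?_ ?_ <;>
    simp [mk2_coe, Sl.mT_coe, Matrix.mul_apply, Fin.sum_univ_two, SpecialLinearGroup.coe_mul]

theorem pp_swap : Fr.pp y x = Fr.input.f (Fr.pp x y) := by
  have h' : dt y x = 1 := (dt_comm y x).trans h
  rw [pp, dif_pos h', pp, dif_pos h, ← Fr.P_mW]
  congr 1
  refine Sl.ext4 ?_ ?_ ?_ ?_ <;>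
    simp [mk2_coe, Sl.mW_coe, Matrix.mul_apply, Fin.sum_univ_two, SpecialLinearGroup.coe_mul]

omit h

theorem pp_surj {p : G} (hp : p ∈ Q) (h2 : p * p ≠ 1) : ∃ x y : F × F, dt x y = 1 ∧ Fr.pp x y = p := by
  obtain ⟨M, hM⟩ := Fr.P_surj hp h2
  exact ⟨row₀ M, row₁ M, dt_rows M, by rw [pp, dif_pos (dt_rows M), mk2_rows, hM]⟩

/-- Right multiplication of a row by a matrix. -/
def rmul (x : F × F) (M : SL(2, F)) : F × F := (x.1 * M.1 0 0 + x.2 * M.1 1 0, x.1 * M.1 0 1 + x.2 * M.1 1 1)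

/-- The action of `v` on rows. -/
noncomputable def θv (x : F × F) : F × F := rmul x Fr.θ

theorem dt_θv (x y : F × F) : dt (Fr.θv x) (Fr.θv y) = dt x y := by
  have h := Sl.det_eq Fr.θ
  simp only [θv, rmul, dt]
  linear_combination (x.1 * y.2 + x.2 * y.1) * h + (x.1 * y.1 * (Fr.θ.1 0 0 * Fr.θ.1 0 1) +
    x.2 * y.2 * (Fr.θ.1 1 0 * Fr.θ.1 1 1)) * CharTwo.two_eq_zero (R := F)

include h in
theorem pp_θv : Fr.pp (Fr.θv x) (Fr.θv y) = Fr.v * Fr.pp x y * Fr.v⁻¹ := by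
  rw [pp, dif_pos ((Fr.dt_θv x y).trans h), pp, dif_pos h, ← Fr.P_mul_θ]
  congr 1
  refine Sl.ext4 ?_ ?_ ?_ ?_ <;>
    simp [mk2_coe, θv, rmul, Matrix.mul_apply, Fin.sum_univ_two, SpecialLinearGroup.coe_mul]

theorem θv_smul (c : F) (x : F × F) : Fr.θv (c • x) = c • Fr.θv x := by
  simp only [θv, rmul, Prod.smul_mk, Prod.smul_fst, Prod.smul_snd, smul_eq_mul, Prod.mk.injEq]
  constructor <;> ring

theorem θv_add (x y : F × F) : Fr.θv (x + y) = Fr.θv x + Fr.θv y := by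
  simp only [θv, rmul, Prod.mk_add_mk, Prod.fst_add, Prod.snd_add, Prod.mk.injEq]
  constructor <;> ring

open scoped _root_.Classical in
/-- The coordinate of a row. -/
noncomputable def Φ (y : F × F) : E :=
  if h : y = 0 then 0 else Fr.ca (Fr.pp (exists_top h).choose y)

theorem ca_pp (h : dt x y = 1) : Fr.ca (Fr.pp x y) = Fr.Φ y := by
  have hy : y ≠ 0 := dt_ne_right (by rw [h]; exact one_ne_zero)
  rw [Φ, dif_neg hy]
  set x' := (exists_top hy).choose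
  have hx' : dt x' y = 1 := (exists_top hy).choose_spec
  obtain ⟨c, hc⟩ := exists_smul_of_dt hy (show dt (x + x') y = 0 by
    rw [dt_add_left, h, hx', CharTwo.add_self_eq_zero])
  have e : x = x' + c • y := by rw [← hc, add_left_comm, CharTwo.add_self_eq_zero, add_zero]
  rw [e, Fr.pp_add hx', Fr.ca_mul _ (Fr.coord.zc_mem c) _ (Fr.pp_mem hx'), Fr.ca_zc, zero_add]

theorem Φ_zero : Fr.Φ 0 = 0 := dif_pos rfl

theorem Φ_ne {y : F × F} (hy : y ≠ 0) : Fr.Φ y ≠ 0 := by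
  obtain ⟨x, hx⟩ := exists_top hy
  rw [← Fr.ca_pp hx]
  exact fun e => Fr.pp_sq hx ((Fr.ca_zero_iff _ (Fr.pp_mem hx)).1 e)

theorem Φ_smul (c : F) (y : F × F) : Fr.Φ (c • y) = Fr.ν c * Fr.Φ y := by
  by_cases hc : c = 0
  · rw [hc, zero_smul, map_zero, zero_mul, Fr.Φ_zero]
  by_cases hy : y = 0
  · rw [hy, smul_zero, Fr.Φ_zero, mul_zero]
  obtain ⟨x, hx⟩ := exists_top hy
  set l : Fˣ := (Units.mk0 c hc)⁻¹ with hl
  have h1 := Fr.pp_smul hx l
  have hlc : ((l⁻¹ : Fˣ) : F) = c := by rw [hl, inv_inv, Units.val_mk0]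
  rw [hlc] at h1
  rw [← Fr.ca_pp (x := (l : F) • x) (y := c • y), h1, ← Fr.ca_pp hx]
  · conv_rhs => rw [← Fr.ca_kl l _ (Fr.pp_mem hx), ← mul_assoc, ← map_mul, ← hlc, ← Units.val_mul, inv_mul_cancel,
      Units.val_one, map_one, one_mul]
  · rw [dt_smul_left, dt_smul_right, hx, mul_one, ← hlc, ← Units.val_mul, mul_inv_cancel, Units.val_one]

theorem Φ_θv (y : F × F) : Fr.Φ (Fr.θv y) = Fr.ε * Fr.Φ y := by
  by_cases hy : y = 0
  · subst hy
    rw [show Fr.θv 0 = 0 by simp [θv, rmul], Fr.Φ_zero, mul_zero]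
  obtain ⟨x, hx⟩ := exists_top hy
  rw [← Fr.ca_pp ((Fr.dt_θv x y).trans hx), Fr.pp_θv hx, Fr.ca_v _ (Fr.pp_mem hx), Fr.ca_pp hx]

include Fr in
theorem card_FF : Nat.card (F × F) = Nat.card E := by
  rw [Nat.card_prod, Nat.card_eq_fintype_card, Nat.card_eq_fintype_card, Fr.D.hF, Fr.coord.card, Fr.q_eq, pow_two]

theorem Φ_surj (e : E) : ∃ y, Fr.Φ y = e := by
  by_cases he : e = 0
  · exact ⟨0, by rw [he, Fr.Φ_zero]⟩
  obtain ⟨p, hp, rfl⟩ := Fr.ca_surj e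
  obtain ⟨x, y, hxy, rfl⟩ := Fr.pp_surj hp (fun h => he ((Fr.ca_zero_iff p hp).2 h))
  exact ⟨y, (Fr.ca_pp hxy).symm⟩

theorem Φ_bijective : Function.Bijective Fr.Φ := by
  have : Fintype.card (F × F) = Fintype.card E := by
    rw [← Nat.card_eq_fintype_card, ← Nat.card_eq_fintype_card, Fr.card_FF]
  exact (Fintype.bijective_iff_surjective_and_card _).2 ⟨Fr.Φ_surj, this⟩

/-- The values of `h` on rows. -/
noncomputable def η (x y : F × F) : G := Fr.input.hh (Fr.pp x y)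

open scoped _root_.Classical in
/-- The value of `h` normalised by the determinant. -/
noncomputable def Hd (x y : F × F) : G :=
  if h : dt x y = 0 then 1 else (Fr.kl (Units.mk0 _ h))⁻¹ * Fr.η ((dt x y)⁻¹ • x) y

theorem Hd_of_one (h : dt x y = 1) : Fr.Hd x y = Fr.η x y := by
  rw [Hd, dif_neg (by rw [h]; exact one_ne_zero), show Units.mk0 (dt x y) _ = 1 from Units.ext h, map_one, inv_one,
    one_mul, h, inv_one, one_smul]

theorem η_D (h : dt x y = 1) : Fr.η x y ∈ twoStab Ω a t := Fr.input.hh_mem (Fr.pp_mem h) (Fr.pp_ne h)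

theorem η_smul (h : dt x y = 1) (l : Fˣ) :
    Fr.η ((l : F) • x) (((l⁻¹ : Fˣ) : F) • y) = Fr.kl l⁻¹ * Fr.η x y * (Fr.kl l)⁻¹ := by
  rw [η, Fr.pp_smul h, (Fr.input.fh_conj (Fr.pp_mem h) (Fr.pp_ne h) (Fr.coord.kl_D l)).2,
    Fr.coord.t_kl Fr.input.setup]
  rfl

theorem η_swap (h : dt x y = 1) : Fr.η y x = (Fr.η x y)⁻¹ := by
  rw [η, Fr.pp_swap h, Fr.input.hh_f (Fr.pp_mem h) (Fr.pp_ne h)]
  rfl

theorem Hd_smul_left (l : Fˣ) (hd : dt x y ≠ 0) : Fr.Hd ((l : F) • x) y = (Fr.kl l)⁻¹ * Fr.Hd x y := by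
  have hd' : dt ((l : F) • x) y ≠ 0 := by rw [dt_smul_left]; exact mul_ne_zero l.ne_zero hd
  rw [Hd, dif_neg hd', Hd, dif_neg hd,
    show Units.mk0 _ hd' = Units.mk0 _ hd * l from Units.ext (by simp [dt_smul_left, mul_comm]), map_mul,
    _root_.mul_inv_rev, mul_assoc, smul_smul]
  congr 3
  rw [dt_smul_left]
  field_simp

theorem Hd_smul_right (l : Fˣ) (hd : dt x y ≠ 0) : Fr.Hd x ((l : F) • y) = Fr.Hd x y * Fr.kl l := by
  have hd' : dt x ((l : F) • y) ≠ 0 := by rw [dt_smul_right]; exact mul_ne_zero l.ne_zero hd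
  rw [Hd, dif_neg hd', Hd, dif_neg hd,
    show Units.mk0 _ hd' = Units.mk0 _ hd * l from Units.ext (by simp [dt_smul_right, mul_comm]), map_mul,
    _root_.mul_inv_rev]
  have h1 : dt ((dt x y)⁻¹ • x) y = 1 := by rw [dt_smul_left, inv_mul_cancel₀ hd]
  have e1 : (dt x ((l : F) • y))⁻¹ • x = ((l⁻¹ : Fˣ) : F) • ((dt x y)⁻¹ • x) := by
    rw [smul_smul, Units.val_inv_eq_inv_val, dt_smul_right, mul_inv]
  rw [e1]
  conv_lhs => arg 2; arg 3; rw [show (l : F) = (((l⁻¹)⁻¹ : Fˣ) : F) by rw [inv_inv]]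
  rw [Fr.η_smul h1, inv_inv, map_inv, inv_inv]
  have hc : Commute (Fr.kl l) (Fr.kl (Units.mk0 _ hd))⁻¹ := ((Commute.all l _).map Fr.kl).inv_right
  calc (Fr.kl l)⁻¹ * (Fr.kl (Units.mk0 _ hd))⁻¹ * (Fr.kl l * Fr.η ((dt x y)⁻¹ • x) y * Fr.kl l)
      = (Fr.kl l)⁻¹ * ((Fr.kl (Units.mk0 _ hd))⁻¹ * Fr.kl l) * Fr.η ((dt x y)⁻¹ • x) y * Fr.kl l := by
        simp only [mul_assoc]
    _ = _ := by rw [← hc.eq, inv_mul_cancel_left]

theorem Hd_swap (hd : dt x y ≠ 0) : Fr.Hd y x = (Fr.Hd x y)⁻¹ := by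
  set d := Units.mk0 _ hd with hdd
  have h1 : dt x ((dt x y)⁻¹ • y) = 1 := by rw [dt_smul_right, inv_mul_cancel₀ hd]
  have e : x = (d : F) • (((d⁻¹ : Fˣ) : F) • x) := by
    rw [smul_smul, ← Units.val_mul, mul_inv_cancel, Units.val_one, one_smul]
  have h2 : dt (((d⁻¹ : Fˣ) : F) • x) y = 1 := by
    rw [dt_smul_left, hdd, Units.val_inv_eq_inv_val, Units.val_mk0, inv_mul_cancel₀ hd]
  have hyx : dt y (((d⁻¹ : Fˣ) : F) • x) = 1 := (dt_comm _ _).trans h2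
  conv_lhs => rw [e]
  rw [Fr.Hd_smul_right d (by rw [hyx]; exact one_ne_zero), Fr.Hd_of_one hyx, Fr.η_swap h2]
  conv_rhs => rw [e]
  rw [Fr.Hd_smul_left d (by rw [h2]; exact one_ne_zero), Fr.Hd_of_one h2, _root_.mul_inv_rev, inv_inv]

/-- The cocycle rule. -/
theorem Hd_trans {l m r : F × F} (h1 : dt l m ≠ 0) (h2 : dt m r ≠ 0) (h3 : dt l r ≠ 0) :
    Fr.Hd l r = Fr.Hd l m * Fr.Hd m r := by
  set d := Units.mk0 _ h3 with hd
  set e := Units.mk0 _ h2 with he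
  set T := ((e⁻¹ : Fˣ) : F) • m with hT
  set T' := ((d⁻¹ : Fˣ) : F) • l with hT'
  have hTr : dt T r = 1 := by
    rw [hT, dt_smul_left, he, Units.val_inv_eq_inv_val, Units.val_mk0, inv_mul_cancel₀ h2]
  have hT'r : dt T' r = 1 := by
    rw [hT', dt_smul_left, hd, Units.val_inv_eq_inv_val, Units.val_mk0, inv_mul_cancel₀ h3]
  have hTT' : dt T' T ≠ 0 := by
    rw [hT', hT, dt_smul_left, dt_smul_right]
    exact mul_ne_zero (Units.ne_zero _) (mul_ne_zero (Units.ne_zero _) h1)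
  obtain ⟨c, hc⟩ := exists_smul_of_dt (dt_ne_right (x := T) (by rw [hTr]; exact one_ne_zero))
    (show dt (T' + T) r = 0 by rw [dt_add_left, hT'r, hTr, CharTwo.add_self_eq_zero])
  have hTeq : T' = T + c • r := by rw [← hc, add_left_comm, CharTwo.add_self_eq_zero, add_zero]
  have hc0 : c ≠ 0 := fun e0 => hTT' (by rw [hTeq, e0, zero_smul, add_zero, dt_self])
  set cu := Units.mk0 c hc0 with hcu
  have key : Fr.η T' r = Fr.Hd T' T * Fr.η T r := by
    have hz := Fr.fh_zc cu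
    rw [Units.val_mk0] at hz
    have hzi : (Fr.zc c)⁻¹ = Fr.zc c := inv_eq_of_mul_eq_one_right (Fr.coord.zc_sq c)
    have hz2 : Fr.zc ((cu⁻¹ : Fˣ) : F) * Fr.pp r T = Fr.pp (r + ((cu⁻¹ : Fˣ) : F) • T) T :=
      (Fr.pp_add ((dt_comm r T).trans hTr) _).symm
    have hzc : Fr.zc c ∈ Q := Fr.coord.zc_mem c
    have hne : Fr.zc c * Fr.pp T r ≠ 1 := fun h0 => Fr.pp_sq hTr (by
      rw [← inv_eq_of_mul_eq_one_right h0, hzi, Fr.coord.zc_sq])
    obtain ⟨-, -, hmul⟩ := Fr.input.fh_mul hzc (Fr.pp_mem hTr) (fun h0 => hc0 (Fr.coord.zc_inj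
      (h0.trans Fr.coord.zc_zero.symm))) (Fr.pp_ne hTr) hne
    rw [← Fr.pp_add hTr, ← hTeq, hzi, hz.1, inv_eq_of_mul_eq_one_right (Fr.coord.zc_sq _), hz.2,
      ← Fr.pp_swap hTr, hz2] at hmul
    have e2 : r + ((cu⁻¹ : Fˣ) : F) • T = ((cu⁻¹ : Fˣ) : F) • T' := by
      rw [hTeq, smul_add, smul_smul ((cu⁻¹ : Fˣ) : F) c r, Units.val_inv_eq_inv_val, hcu, Units.val_mk0,
        inv_mul_cancel₀ hc0, one_smul, add_comm]
    have hd' : dt T' T = c := by
      rw [hTeq, dt_add_left, dt_self, zero_add, dt_smul_left, dt_comm, hTr, mul_one]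
    rw [η, hmul, e2, Hd, dif_neg hTT', show Units.mk0 (dt T' T) hTT' = cu from Units.ext hd', hd',
      map_inv, Units.val_inv_eq_inv_val, hcu, Units.val_mk0]
    rfl
  have el : l = (d : F) • T' := by rw [hT', smul_smul, ← Units.val_mul, mul_inv_cancel, Units.val_one, one_smul]
  have em : m = (e : F) • T := by rw [hT, smul_smul, ← Units.val_mul, mul_inv_cancel, Units.val_one, one_smul]
  rw [el, em, Fr.Hd_smul_left d (by rw [hT'r]; exact one_ne_zero),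
    Fr.Hd_smul_left d (by rw [dt_smul_right]; exact mul_ne_zero e.ne_zero hTT'),
    Fr.Hd_smul_right e hTT', Fr.Hd_smul_left e (by rw [hTr]; exact one_ne_zero),
    Fr.Hd_of_one hT'r, Fr.Hd_of_one hTr, key]
  simp only [mul_assoc, mul_inv_cancel_left]

/-- The base row. -/
def r₀ : F × F := (1, 0)

open scoped _root_.Classical in
/-- The potential of `h`. -/
noncomputable def Pi (x : F × F) : G :=
  if dt x r₀ = 0 then (if h : x.1 = 0 then 1 else (Fr.kl (Units.mk0 _ h))⁻¹) else Fr.Hd x r₀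

theorem Pi_line (l : Fˣ) : Fr.Pi ((l : F) • r₀) = (Fr.kl l)⁻¹ := by
  rw [Pi, if_pos (by rw [dt_smul_left, dt_self, mul_zero]), dif_neg (by simp [r₀]),
    show Units.mk0 _ _ = l from Units.ext (by simp [r₀])]

theorem Hd_eq_Pi (hd : dt x y ≠ 0) : Fr.Hd x y = Fr.Pi x * (Fr.Pi y)⁻¹ := by
  have hr : (r₀ : F × F) ≠ 0 := by simp [r₀]
  by_cases hy : dt y r₀ = 0
  · obtain ⟨c, hc⟩ := exists_smul_of_dt hr hy
    have hc0 : c ≠ 0 := fun e => dt_ne_right hd (by rw [hc, e, zero_smul])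
    have hx : dt x r₀ ≠ 0 := fun e => hd (by rw [hc, dt_smul_right, e, mul_zero])
    rw [hc, ← Units.val_mk0 hc0, Fr.Hd_smul_right _ hx, Fr.Pi_line, inv_inv, Pi, if_neg hx]
  · by_cases hx : dt x r₀ = 0
    · obtain ⟨c, hc⟩ := exists_smul_of_dt hr hx
      have hc0 : c ≠ 0 := fun e => dt_ne_left hd (by rw [hc, e, zero_smul])
      have hy' : dt r₀ y ≠ 0 := by rwa [dt_comm]
      rw [hc, ← Units.val_mk0 hc0, Fr.Hd_smul_left _ hy', Fr.Pi_line, Fr.Hd_swap hy, Pi, if_neg hy]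
    · rw [Pi, if_neg hx, Pi, if_neg hy, ← Fr.Hd_swap hy]
      exact Fr.Hd_trans hx (by rwa [dt_comm]) hd

end Frame

end Cfsg.Lib.BenderSuzuki.U3
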