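import Cfsg.Agent.BenderSuzuki.U3.Units
import Cfsg.Agent.BenderSuzuki.U3.Oval

/-!
The case `|Q| = q ^ 3`: `v` permutes the tangents of the arc through one scalar, so the arc is centred at zero.
-/

set_option autoImplicit false
set_option linter.unusedSectionVars false
set_option linter.unusedSimpArgs false

namespace Cfsg.Lib.BenderSuzuki.U3

open MulAction Cfsg.Lib.RankOne

universe u v

variable {G : Type u} {Ω : Type v} [Group G] [Finite G] [MulAction G Ω] {a : Ω} {t : G} {Q : Subgroup G}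

namespace Frame

variable {F E : Type} [Field F] [Fintype F] [CharP F 2] [Field E] [Fintype E] [CharP E 2] (Fr : Frame Ω a t Q F E)

/-- The direction of the tangent at the point of a unit. -/
noncomputable def tang (i : Fr.Un) : E := Fr.act (Fr.wi i)⁻¹ (Fr.φ i)

theorem wi_inv_a (i : Fr.Un) : (Fr.wi i)⁻¹ • a = a := Frame.W_a (inv_mem (Fr.wi_mem i))

theorem tang_ne (i : Fr.Un) : Fr.tang i ≠ 0 := Fr.act_ne_zero (Fr.wi_inv_a i) (Fr.φ_ne i)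

theorem eq_of_φ {i j : Fr.Un} {c : F} (hc : c ≠ 0) (h : Fr.φ i = Fr.ν c * Fr.φ j) : i = j ∧ c = 1 := by
  rw [φ, φ, ← Fr.Φ_smul] at h
  have h1 := Fr.Φ_bijective.1 h
  have h2 := (Fr.Fl_smul (Units.mk0 c hc) (Un.ne Fr j)).1
  rw [Units.val_mk0, ← h1, i.2.2, j.2.2, mul_one] at h2
  have h3 : c = 1 := (congrArg Units.val h2).symm
  refine ⟨Subtype.ext ?_, h3⟩
  rw [h1, h3, one_smul]

theorem sum_eq {i k : Fr.Un} (h : k ≠ i) : ∃ j : Fr.Un, j ≠ i ∧ ∃ c : F, c ≠ 0 ∧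
    Fr.bi i + Fr.bi k = Fr.ν c * Fr.act (Fr.wi i)⁻¹ (Fr.φ j) ∧
    ∃ c' : F, c' ≠ 0 ∧ Fr.bi i + Fr.bi j = Fr.ν c' * Fr.act (Fr.wi i)⁻¹ (Fr.φ k) := by
  obtain ⟨j, hj, -, -, -, h1, h2⟩ := Fr.step (i := i) h
  rw [Fr.act_ν (inv_mem (Fr.wi_mem i))] at h1 h2
  exact ⟨j, hj, _, by simpa using Un.dt_ne Fr hj.symm, h2, _, by simpa using Un.dt_ne Fr h.symm, h1⟩

theorem act_ν_cancel {i j k : Fr.Un} {c c' : F} (hc : c ≠ 0) (hc' : c' ≠ 0)
    (h : Fr.ν c * Fr.act (Fr.wi i)⁻¹ (Fr.φ j) = Fr.ν c' * Fr.act (Fr.wi i)⁻¹ (Fr.φ k)) : j = k := by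
  have hw := Fr.wi_mem i
  have h1 := congrArg (Fr.act (Fr.wi i)) h
  have hcancel : ∀ x, Fr.act (Fr.wi i) (Fr.act (Fr.wi i)⁻¹ x) = x := fun x => by
    have := Fr.act_inv_act (Fr.wi_inv_a i) x
    rwa [inv_inv] at this
  rw [Fr.act_ν hw, Fr.act_ν hw, hcancel, hcancel] at h1
  have hσ : ∀ x : F, x ≠ 0 → Fr.σ (Fr.wi i) x ≠ 0 := fun x hx => (map_ne_zero _).2 hx
  refine (Fr.eq_of_φ (c := (Fr.σ (Fr.wi i) c)⁻¹ * Fr.σ (Fr.wi i) c') (mul_ne_zero (inv_ne_zero (hσ c hc)) (hσ c' hc'))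
    ?_).1
  rw [map_mul, map_inv₀, mul_assoc, ← h1, inv_mul_cancel_left₀ ((map_ne_zero Fr.ν).2 (hσ c hc))]

theorem arc_tangent (i k : Fr.Un) (h : i ≠ k) (c : E) (hc : Fr.D.bar c = c) : Fr.bi i + Fr.bi k ≠ c * Fr.tang i := by
  intro e
  obtain ⟨x, rfl⟩ := Fr.ν_surj c hc
  obtain ⟨j, hj, c₁, hc₁, h1, -⟩ := Fr.sum_eq h.symm
  rw [h1] at e
  by_cases hx : x = 0
  · rw [hx, map_zero, zero_mul] at e
    exact mul_ne_zero ((map_ne_zero Fr.ν).2 hc₁) (Fr.act_ne_zero (Fr.wi_inv_a i) (Fr.φ_ne j)) e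
  · exact hj (Fr.act_ν_cancel hc₁ hx e)

theorem arc_secant (i k l : Fr.Un) (h1 : i ≠ k) (h2 : i ≠ l) (h3 : k ≠ l) (c : E) (hc : Fr.D.bar c = c) :
    Fr.bi i + Fr.bi k ≠ c * (Fr.bi i + Fr.bi l) := by
  intro e
  obtain ⟨x, rfl⟩ := Fr.ν_surj c hc
  obtain ⟨j, -, cj, hcj, ej, cj', hcj', ej'⟩ := Fr.sum_eq h1.symm
  obtain ⟨j', -, cl, hcl, el, cl', hcl', el'⟩ := Fr.sum_eq h2.symm
  rw [ej, el, ← mul_assoc, ← map_mul] at e
  by_cases hx : x = 0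
  · rw [hx, zero_mul, map_zero, zero_mul] at e
    exact mul_ne_zero ((map_ne_zero Fr.ν).2 hcj) (Fr.act_ne_zero (Fr.wi_inv_a i) (Fr.φ_ne j)) e
  · obtain rfl := Fr.act_ν_cancel hcj (mul_ne_zero hx hcl) e
    exact h3 (Fr.act_ν_cancel hcj' hcl' (ej'.symm.trans el'))

/-- The arc in the sense of the plane over the fixed field. -/
theorem arc_nucleus : (∀ i j : Fr.Un, i ≠ j → ∀ c : E, Fr.D.bar c = c → Fr.tang i ≠ c * Fr.tang j) ∧
    ∃ N0 : E, ∀ i, ∃ c : E, Fr.D.bar c = c ∧ Fr.bi i + N0 = c * Fr.tang i :=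
  oval_nucleus Fr.D Fr.card_Un Fr.bi Fr.tang Fr.tang_ne Fr.arc_tangent Fr.arc_secant

theorem exists_tang_dir {e : E} (he : e ≠ 0) : ∃ i : Fr.Un, ∃ c : E, Fr.D.bar c = c ∧ c ≠ 0 ∧ e = c * Fr.tang i := by
  classical
  let f : Fr.Un → {d : E // Fr.D.bar d * d = 1} := fun i => ⟨dir Fr.D (Fr.tang i), dir_norm Fr.D (Fr.tang_ne i)⟩
  have hf : Function.Injective f := fun i j h => by
    by_contra hne
    obtain ⟨c, hc, -, e'⟩ := exists_of_dir_eq Fr.D (Fr.tang_ne j) (congrArg Subtype.val h) (Fr.tang_ne i)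
    exact Fr.arc_nucleus.1 i j hne c hc e'
  obtain ⟨i, hi⟩ := (hf.bijective_of_nat_card_le (by
    rw [card_norm_one, Nat.card_eq_fintype_card, Fr.card_Un])).2 ⟨dir Fr.D e, dir_norm Fr.D he⟩
  obtain ⟨c, hc, hc0, e'⟩ := exists_of_dir_eq Fr.D (Fr.tang_ne i) (congrArg Subtype.val hi).symm he
  exact ⟨i, c, hc, hc0, e'⟩

/-! The permutation of the units given by `v`. -/

theorem θv_ne {x : F × F} (hx : x ≠ 0) : Fr.θv x ≠ 0 := fun h => by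
  have h1 := Fr.Φ_θv x
  rw [h, Fr.Φ_zero] at h1
  exact mul_ne_zero (fun e => by
    have := Fr.ε_norm
    rw [e, mul_zero] at this
    exact zero_ne_one this) (Fr.Φ_ne hx) h1.symm

theorem Hd_θv {x y : F × F} (h : dt x y ≠ 0) : Fr.Hd (Fr.θv x) (Fr.θv y) = Fr.v * Fr.Hd x y * Fr.v⁻¹ := by
  have h' : dt (Fr.θv x) (Fr.θv y) ≠ 0 := by rwa [Fr.dt_θv]
  have h1 : dt ((dt x y)⁻¹ • x) y = 1 := by rw [dt_smul_left, inv_mul_cancel₀ h]
  rw [Hd, dif_neg h', Hd, dif_neg h, show Units.mk0 _ h' = Units.mk0 _ h from Units.ext (Fr.dt_θv x y),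
    Fr.dt_θv, ← Fr.θv_smul, η, Fr.pp_θv h1,
    (Fr.input.fh_conj (Fr.pp_mem h1) (Fr.pp_ne h1) (Subgroup.mem_inf.1 Fr.v_mem).1).2,
    Fr.w_t (centI_le_centT (hS := Fr.input.setup) Fr.v_mem), η]
  have hc := (Fr.v_comm_kl (Units.mk0 _ h)).inv_right
  calc (Fr.kl (Units.mk0 _ h))⁻¹ * (Fr.v * Fr.input.hh (Fr.pp ((dt x y)⁻¹ • x) y) * Fr.v⁻¹)
      = ((Fr.kl (Units.mk0 _ h))⁻¹ * Fr.v) * Fr.input.hh (Fr.pp ((dt x y)⁻¹ • x) y) * Fr.v⁻¹ := by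
        simp only [mul_assoc]
    _ = _ := by rw [← hc.eq]; simp only [mul_assoc]

/-- The base unit. -/
noncomputable def u₀ : Fr.Un := ⟨r₀, by simp [r₀], (Fr.Fl_wt_unique (x := r₀) (l := 1) (one_mem _) (by
  have h := Fr.Pi_line 1
  rw [Units.val_one, one_smul] at h
  rw [h, mul_one])).1⟩

theorem wi_u₀ : Fr.wi Fr.u₀ = 1 := (Fr.Fl_wt_unique (x := r₀) (l := 1) (one_mem _) (by
  have h := Fr.Pi_line 1
  rw [Units.val_one, one_smul] at h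
  rw [h, mul_one])).2

/-- The constant of the permutation given by `v`. -/
noncomputable def C₀ : G := Fr.v⁻¹ * Fr.Pi (Fr.θv r₀)

theorem C₀_D : Fr.C₀ ∈ twoStab Ω a t :=
  mul_mem (inv_mem (Subgroup.mem_inf.1 Fr.v_mem).1) (Fr.Pi_D _)

theorem Pi_θv {x : F × F} (hx : x ≠ 0) : Fr.Pi (Fr.θv x) = Fr.v * Fr.Pi x * Fr.C₀ := by
  have key : ∀ i : Fr.Un, Fr.Pi (Fr.θv i.1) = Fr.v * Fr.Pi i.1 * Fr.C₀ := by
    intro i
    by_cases h : i = Fr.u₀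
    · subst h
      rw [Fr.Pi_unit, Fr.wi_u₀, mul_one, C₀, mul_inv_cancel_left]
      rfl
    · have hd : dt i.1 r₀ ≠ 0 := Un.dt_ne Fr h
      have h1 := Fr.Hd_θv hd
      rw [Fr.Hd_eq_Pi hd, Fr.Hd_eq_Pi (by rwa [Fr.dt_θv]), mul_inv_eq_iff_eq_mul] at h1
      have h2 : Fr.Pi r₀ = 1 := by rw [show r₀ = Fr.u₀.1 from rfl, Fr.Pi_unit, Fr.wi_u₀]
      rw [h1, h2, C₀]
      group
  have e : x = (Fr.Fl x : F) • (Fr.unit x hx).1 := by
    show x = (Fr.Fl x : F) • (((Fr.Fl x)⁻¹ : Fˣ) : F) • x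
    rw [smul_smul, ← Units.val_mul, mul_inv_cancel, Units.val_one, one_smul]
  rw [e, Fr.θv_smul, Fr.Pi_smul _ (Fr.θv_ne (Un.ne Fr _)), key, Fr.Pi_smul _ (Un.ne Fr _)]
  have hc := (Fr.v_comm_kl (Fr.Fl x)).inv_right
  rw [← mul_assoc, ← mul_assoc, ← hc.eq]
  simp only [mul_assoc]

theorem θv_iter (n : ℕ) (x : F × F) : Fr.θv^[n] x = rmul x (Fr.θ ^ n) := by
  induction n with
  | zero => simp [rmul]
  | succ n ih =>
    rw [Function.iterate_succ_apply', ih, θv, pow_succ]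
    simp only [rmul, Matrix.SpecialLinearGroup.coe_mul, Matrix.mul_apply, Fin.sum_univ_two, Prod.mk.injEq]
    constructor <;> ring

theorem θv_period (x : F × F) : Fr.θv^[orderOf Fr.v] x = x := by
  rw [θv_iter, Fr.θ_pow]
  simp [rmul]

theorem C₀_pow : Fr.C₀ ^ orderOf Fr.v = 1 := by
  have hr : (r₀ : F × F) ≠ 0 := by simp [r₀]
  have h : ∀ n : ℕ, Fr.θv^[n] r₀ ≠ 0 ∧ Fr.Pi (Fr.θv^[n] r₀) = Fr.v ^ n * Fr.C₀ ^ n := fun n => by
    induction n with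
    | zero =>
      refine ⟨hr, ?_⟩
      rw [Function.iterate_zero_apply, show r₀ = Fr.u₀.1 from rfl, Fr.Pi_unit, Fr.wi_u₀, pow_zero, pow_zero, mul_one]
    | succ n ih =>
      rw [Function.iterate_succ_apply']
      exact ⟨Fr.θv_ne ih.1, by rw [Fr.Pi_θv ih.1, ih.2, pow_succ' Fr.v, pow_succ Fr.C₀]; simp only [mul_assoc]⟩
  have h1 := (h (orderOf Fr.v)).2
  rw [Fr.θv_period, show r₀ = Fr.u₀.1 from rfl, Fr.Pi_unit, Fr.wi_u₀, pow_orderOf_eq_one, one_mul] at h1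
  exact h1.symm

/-- The permutation of the units given by `v`. -/
noncomputable def st (i : Fr.Un) : Fr.Un := Fr.unit (Fr.θv i.1) (Fr.θv_ne (Un.ne Fr i))

theorem st_ne (i : Fr.Un) : Fr.st i ≠ i := fun h => by
  have e : (((Fr.Fl (Fr.θv i.1))⁻¹ : Fˣ) : F) • Fr.θv i.1 = i.1 := congrArg Subtype.val h
  have h1 := congrArg Fr.Φ e
  rw [Fr.Φ_smul, Fr.Φ_θv, ← mul_assoc] at h1
  have h2 : Fr.ν (((Fr.Fl (Fr.θv i.1))⁻¹ : Fˣ) : F) * Fr.ε = 1 :=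
    mul_right_cancel₀ (Fr.φ_ne i) (h1.trans (one_mul _).symm)
  have h3 : Fr.D.bar Fr.ε = Fr.ε := by
    rw [eq_inv_of_mul_eq_one_right h2, map_inv₀, Fr.ν_fix]
  have h4 := Fr.ε_norm
  rw [h3] at h4
  exact Fr.ε_ne ((PerfectRing.bijective_frobenius (R := E) (p := 2)).injective (by
    show Fr.ε ^ 2 = 1 ^ 2
    rw [one_pow, pow_two, h4]))

theorem ν_pow_ne_one {x : F} (hx : x ≠ 0) (h : x ^ orderOf Fr.v = 1) : x = 1 := by
  -- the order of `v` is prime to `q - 1`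
  have hε : Fr.ε ^ orderOf Fr.v = 1 := by
    obtain ⟨p, hp, hp1⟩ := Fr.ca_surj 1
    have h : ∀ n : ℕ, ∀ e, Fr.act (Fr.v ^ n) e = Fr.ε ^ n * e := fun n => by
      induction n with
      | zero => intro e; rw [pow_zero, Fr.act_one, pow_zero, one_mul]
      | succ n ih =>
        intro e
        rw [pow_succ', Fr.act_mul Fr.v_a (Frame.D_a (pow_mem (Subgroup.mem_inf.1 Fr.v_mem).1 n)), ih, Fr.act_v,
          pow_succ', mul_assoc]
    have h1 := h (orderOf Fr.v) 1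
    rw [pow_orderOf_eq_one, Fr.act_one, mul_one] at h1
    exact h1.symm
  have hq : Nat.Coprime (orderOf Fr.v) (Fr.D.q - 1) := by
    refine (Fr.v_prime.coprime_iff_not_dvd).2 fun hd => Fr.ε_ne ?_
    have h1 : Fr.ε ^ (Fr.D.q - 1) = 1 := by
      obtain ⟨m, hm⟩ := hd
      rw [hm, pow_mul, hε, one_pow]
    have h2 : Fr.ε ^ (Fr.D.q + 1) = 1 := by rw [pow_succ, ← Fr.D.bar_apply]; exact Fr.ε_norm
    have := pow_gcd_eq_one.2 ⟨h2, h1⟩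
    rwa [Fr.D.coprime_add_sub, pow_one] at this
  have h2 : x ^ (Fr.D.q - 1) = 1 := by
    rw [Fr.q_eq, ← Fr.coord.card]
    exact FiniteField.pow_card_sub_one_eq_one x hx
  have := pow_gcd_eq_one.2 ⟨h, h2⟩
  rwa [hq, pow_one] at this

/-- The permutation given by `v` multiplies the points of the arc by one scalar. -/
theorem exists_scalar : ∃ (c₁ : G) (m : E), c₁ ∈ centI Ω a t ∧ m ≠ 1 ∧ Fr.D.bar m * m = 1 ∧
    m ^ orderOf Fr.v = 1 ∧ (∀ e, Fr.act c₁⁻¹ e = m * e) ∧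
    ∀ i, (Fr.st i).1 = Fr.θv i.1 ∧ Fr.wi (Fr.st i) = Fr.v * Fr.wi i * c₁ ∧ Fr.bi (Fr.st i) = m * Fr.bi i ∧
      Fr.tang (Fr.st i) = m * Fr.tang i := by
  have hS := Fr.input.setup
  obtain ⟨γ, c₁, hc₁, hC⟩ := Fr.exists_klw Fr.C₀_D
  set C₁ := c₁⁻¹ * (Fr.kl γ)⁻¹ with hC₁
  have hC₁a : C₁ • a = a := Frame.D_a (mul_mem (inv_mem (Subgroup.mem_inf.1 hc₁).1) (inv_mem (Fr.coord.kl_D γ)))
  have hC₁D : C₁ = t * Fr.C₀⁻¹ * t⁻¹ := by
    rw [t_inv hS, hC, mul_inv_rev, inv_inv]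
    calc C₁ = (t * c₁⁻¹ * t) * (t * Fr.kl γ * t) := by
          rw [Fr.w_t (inv_mem hc₁), Fr.coord.t_kl hS, map_inv, hC₁]
      _ = t * c₁⁻¹ * (t * t) * Fr.kl γ * t := by simp only [mul_assoc]
      _ = _ := by rw [hS.mul_self]; simp only [mul_assoc, one_mul]
  have hC₁pow : C₁ ^ orderOf Fr.v = 1 := by
    rw [hC₁D, conj_pow, inv_pow, Fr.C₀_pow, inv_one, mul_one, mul_inv_cancel]
  -- the images of a unit
  have hM : ∀ x, Fr.act C₁ x = Fr.act c₁⁻¹ (Fr.ν (γ : F) * x) := fun x => by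
    rw [hC₁, Fr.act_mul (Frame.W_a (inv_mem hc₁)) (Frame.D_a (inv_mem (Fr.coord.kl_D γ))), ← map_inv,
      Fr.act_kl_inv]
  have hst : ∀ i, ∃ l : Fˣ, (l : F) • (Fr.st i).1 = Fr.θv i.1 ∧ l = Units.map (Fr.σ (Fr.wi i) : F →* F) γ ∧
      Fr.wi (Fr.st i) = Fr.v * Fr.wi i * c₁ := by
    intro i
    set l := Units.map (Fr.σ (Fr.wi i) : F →* F) γ with hl
    have hvw : Fr.v * Fr.wi i * c₁ ∈ centT Ω a t :=
      mul_mem (mul_mem (centI_le_centT (hS := hS) Fr.v_mem) (Fr.wi_mem i)) hc₁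
    have h1 : Fr.Pi (Fr.θv i.1) = (Fr.kl l)⁻¹ * (Fr.v * Fr.wi i * c₁) := by
      rw [Fr.Pi_θv (Un.ne Fr i), Fr.Pi_unit, hC]
      have h2 : Fr.wi i * (Fr.kl γ)⁻¹ = (Fr.kl l)⁻¹ * Fr.wi i := by
        rw [hl, ← Fr.σ_kl (Fr.wi_mem i)]; group
      have h3 := (Fr.v_comm_kl l).inv_right
      calc Fr.v * Fr.wi i * ((Fr.kl γ)⁻¹ * c₁) = Fr.v * (Fr.wi i * (Fr.kl γ)⁻¹) * c₁ := by simp only [mul_assoc]
        _ = (Fr.v * (Fr.kl l)⁻¹) * Fr.wi i * c₁ := by rw [h2]; simp only [mul_assoc]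
        _ = _ := by rw [h3.eq]; simp only [mul_assoc]
    obtain ⟨hFl, hwt⟩ := Fr.Fl_wt_unique hvw h1
    refine ⟨l, ?_, rfl, ?_⟩
    · show (l : F) • (((Fr.Fl (Fr.θv i.1))⁻¹ : Fˣ) : F) • Fr.θv i.1 = _
      rw [hFl, smul_smul, ← Units.val_mul, mul_inv_cancel, Units.val_one, one_smul]
    · show Fr.wt ((((Fr.Fl (Fr.θv i.1))⁻¹ : Fˣ) : F) • Fr.θv i.1) = _
      rw [(Fr.Fl_smul _ (Fr.θv_ne (Un.ne Fr i))).2, hwt]
  have himg : ∀ i, Fr.bi (Fr.st i) = Fr.act C₁ (Fr.bi i) ∧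
      ∃ c : F, c ≠ 0 ∧ Fr.tang (Fr.st i) = Fr.ν c * Fr.act C₁ (Fr.tang i) := by
    intro i
    obtain ⟨l, h1, hl, h2⟩ := hst i
    have hφ : Fr.φ (Fr.st i) = Fr.ν ((l⁻¹ : Fˣ) : F) * (Fr.ε * Fr.φ i) := by
      show Fr.Φ _ = _ * (_ * Fr.Φ i.1)
      rw [← Fr.Φ_θv, ← Fr.Φ_smul, ← h1, smul_smul, ← Units.val_mul, inv_mul_cancel, Units.val_one, one_smul]
    have hwi' : (Fr.wi (Fr.st i))⁻¹ = c₁⁻¹ * (Fr.wi i)⁻¹ * Fr.v⁻¹ := by rw [h2]; group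
    have hγ : ∀ x, Fr.act (Fr.wi i)⁻¹ (Fr.ν (l : F) * x) = Fr.ν (γ : F) * Fr.act (Fr.wi i)⁻¹ x := fun x => by
      rw [Fr.act_ν (inv_mem (Fr.wi_mem i)), Fr.σ_inv (Fr.wi_mem i), hl, Units.coe_map]
      congr 2
      exact (Fr.σ (Fr.wi i)).symm_apply_apply _
    have hv : ∀ x, Fr.act Fr.v⁻¹ (Fr.ε * x) = x := fun x => by rw [← Fr.act_v, Fr.act_inv_act Fr.v_a]
    have hact : ∀ x, Fr.act (Fr.wi (Fr.st i))⁻¹ x = Fr.act c₁⁻¹ (Fr.act (Fr.wi i)⁻¹ (Fr.act Fr.v⁻¹ x)) := fun x => by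
      rw [hwi', Fr.act_mul _ (inv_smul_eq_iff.2 Fr.v_a.symm), Fr.act_mul (Frame.W_a (inv_mem hc₁)) (Fr.wi_inv_a i)]
      rw [mul_smul, Fr.wi_inv_a, Frame.W_a (inv_mem hc₁)]
    have hpull : ∀ (c : F) x, Fr.act Fr.v⁻¹ (Fr.ν c * (Fr.ε * x)) = Fr.ν c * x := fun c x => by
      rw [show Fr.ν c * (Fr.ε * x) = Fr.ε * (Fr.ν c * x) by ring, hv]
    refine ⟨?_, ?_⟩
    · show Fr.act (Fr.wi (Fr.st i))⁻¹ (Fr.Bf (Fr.φ (Fr.st i))) = _
      rw [hφ, Fr.Bf_smul _ (Units.ne_zero _) (mul_ne_zero (fun e => by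
          have := Fr.ε_norm; rw [e, mul_zero] at this; exact zero_ne_one this) (Fr.φ_ne i)),
        Fr.Bf_ε (Fr.φ_ne i), Units.val_inv_eq_inv_val, inv_inv, hact, hpull, hγ, hM]
      rfl
    · refine ⟨Fr.σ c₁⁻¹ ((γ : F)⁻¹ * (γ : F)⁻¹), (map_ne_zero _).2 (mul_ne_zero (by simp) (by simp)), ?_⟩
      show Fr.act (Fr.wi (Fr.st i))⁻¹ (Fr.φ (Fr.st i)) = _
      rw [hφ, hact, hpull, hM, Fr.act_ν (inv_mem (Fr.wi_mem i)), Fr.σ_inv (Fr.wi_mem i), hl,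
        ← Fr.act_ν (inv_mem hc₁)]
      congr 1
      rw [← mul_assoc, ← map_mul]
      congr 2
      rw [Units.val_inv_eq_inv_val, Units.coe_map, map_inv₀]
      have hs : (Fr.σ (Fr.wi i)).symm (Fr.σ (Fr.wi i) (γ : F)) = (γ : F) := RingEquiv.symm_apply_apply _ _
      calc ((Fr.σ (Fr.wi i)).symm ((Fr.σ (Fr.wi i) : F →* F) (γ : F)))⁻¹ = (γ : F)⁻¹ := by
            rw [show ((Fr.σ (Fr.wi i) : F →* F) (γ : F)) = Fr.σ (Fr.wi i) (γ : F) from rfl, hs]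
        _ = _ := by field_simp
  -- a line fixed by `C₁` gives a fixed unit
  have hfix : ∀ e : E, e ≠ 0 → Fr.act C₁ e ≠ e := by
    intro e he hce
    obtain ⟨i, c, hc, hc0, rfl⟩ := Fr.exists_tang_dir he
    obtain ⟨x, rfl⟩ := Fr.ν_surj c hc
    have hx : x ≠ 0 := fun e' => hc0 (by rw [e', map_zero])
    obtain ⟨-, c', hc', ht⟩ := himg i
    rw [hM, ← mul_assoc, ← map_mul, mul_comm (γ : F) x, map_mul, mul_assoc, Fr.act_ν (inv_mem hc₁), ← hM] at hce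
    set y := Fr.σ c₁⁻¹ x with hy
    have hy0 : y ≠ 0 := (map_ne_zero _).2 hx
    refine Fr.arc_nucleus.1 (Fr.st i) i (Fr.st_ne i) (Fr.ν (c' * y⁻¹ * x)) (Fr.ν_fix _) ?_
    rw [map_mul, map_mul, map_inv₀, mul_assoc _ (Fr.ν x), ← hce, ← mul_assoc, mul_assoc (Fr.ν c'),
      inv_mul_cancel₀ ((map_ne_zero Fr.ν).2 hy0), mul_one, ht]
  -- the automorphism is trivial
  obtain ⟨σE, c, hc0, hν, -, -, hca⟩ := Fr.σ_spec (inv_mem hc₁)
  have hlin : ∀ x, Fr.act C₁ x = c * σE (Fr.ν (γ : F)) * σE x := fun x => by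
    rw [hM, act, hca _ (Fr.lift_mem _), Fr.ca_lift, map_mul, mul_assoc]
  set c' := c * σE (Fr.ν (γ : F)) with hc'
  have hc'0 : c' ≠ 0 := mul_ne_zero hc0 ((map_ne_zero σE).2 ((map_ne_zero Fr.ν).2 γ.ne_zero))
  have hit : ∀ n : ℕ, ∃ d : E, d ≠ 0 ∧ ∀ x, Fr.act (C₁ ^ n) x = d * (σE ^ n) x := fun n => by
    induction n with
    | zero => exact ⟨1, one_ne_zero, fun x => by rw [pow_zero, Fr.act_one, pow_zero, one_mul]; rfl⟩
    | succ n ih =>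
      obtain ⟨d, hd, h⟩ := ih
      refine ⟨c' * σE d, mul_ne_zero hc'0 ((map_ne_zero σE).2 hd), fun x => ?_⟩
      rw [pow_succ', Fr.act_mul hC₁a (by
        induction n with
        | zero => rw [pow_zero, one_smul]
        | succ m ihm => exact Frame.D_a (pow_mem (mul_mem (inv_mem (Subgroup.mem_inf.1 hc₁).1)
            (inv_mem (Fr.coord.kl_D γ))) _)), h, hlin, map_mul, pow_succ', mul_assoc]
      show _ = c * σE (Fr.ν (γ : F)) * σE d * σE ((σE ^ n) x)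
      ring
  haveI := Fact.mk Fr.v_prime
  have hσℓ : σE ^ orderOf Fr.v = 1 := by
    obtain ⟨d, -, h⟩ := hit (orderOf Fr.v)
    rw [hC₁pow] at h
    have h1 := h 1
    rw [Fr.act_one, map_one, mul_one] at h1
    refine RingEquiv.ext fun x => ?_
    have h2 := h x
    rw [Fr.act_one, ← h1, one_mul] at h2
    exact h2.symm
  have hσ1 : σE = 1 := by
    by_contra hne
    have hord : orderOf σE = orderOf Fr.v := orderOf_eq_prime hσℓ hne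
    choose d hd hdx using hit
    let f : Fin (orderOf Fr.v) → (E →* E) := fun n => ((σE ^ (n : ℕ) : E ≃+* E) : E →* E)
    have hf : Function.Injective f := fun m n hmn => Fin.ext (by
      have h1 : σE ^ (m : ℕ) = σE ^ (n : ℕ) := RingEquiv.ext fun x => DFunLike.congr_fun hmn x
      exact pow_injOn_Iio_orderOf (by rw [Set.mem_Iio, hord]; exact m.2) (by rw [Set.mem_Iio, hord]; exact n.2) h1)
    have hli := (linearIndependent_monoidHom E E).comp f hf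
    rw [Fintype.linearIndependent_iff] at hli
    obtain ⟨x, hx⟩ : ∃ x, ∑ n : Fin (orderOf Fr.v), d n * (σE ^ (n : ℕ)) x ≠ 0 := by
      by_contra hall
      push Not at hall
      refine hd 0 (hli (fun n => d n) (funext fun x => ?_) ⟨0, Fr.v_prime.pos⟩)
      rw [Finset.sum_apply]
      simpa [f, smul_eq_mul] using hall x
    refine hfix _ hx ?_
    have hsum : ∀ n : Fin (orderOf Fr.v), d n * (σE ^ (n : ℕ)) x = Fr.act (C₁ ^ (n : ℕ)) x := fun n => (hdx n x).symm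
    simp only [hsum]
    have hadd : ∀ g : Fin (orderOf Fr.v) → E, Fr.act C₁ (∑ n, g n) = ∑ n, Fr.act C₁ (g n) := fun g =>
      map_sum (AddMonoidHom.mk' (Fr.act C₁) (Fr.act_add hC₁a)) g Finset.univ
    rw [hadd]
    have hpa : ∀ n : ℕ, (C₁ ^ n) • a = a := fun n => Frame.D_a (pow_mem (mul_mem (inv_mem (Subgroup.mem_inf.1 hc₁).1)
      (inv_mem (Fr.coord.kl_D γ))) n)
    have e1 : ∀ n : Fin (orderOf Fr.v), Fr.act C₁ (Fr.act (C₁ ^ (n : ℕ)) x) = Fr.act (C₁ ^ ((n : ℕ) + 1)) x :=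
      fun n => by rw [← Fr.act_mul hC₁a (hpa _), ← pow_succ']
    simp only [e1]
    rw [Fin.sum_univ_eq_sum_range (fun n => Fr.act (C₁ ^ (n + 1)) x) (orderOf Fr.v),
      Fin.sum_univ_eq_sum_range (fun n => Fr.act (C₁ ^ n) x) (orderOf Fr.v)]
    have h1 := Finset.sum_range_succ' (fun n => Fr.act (C₁ ^ n) x) (orderOf Fr.v)
    have h2 := Finset.sum_range_succ (fun n => Fr.act (C₁ ^ n) x) (orderOf Fr.v)
    rw [h1, hC₁pow] at h2
    rw [pow_zero] at h2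
    exact add_right_cancel h2
  -- `c₁` centralises the involutions
  have hσF : ∀ x, Fr.σ c₁⁻¹ x = x := fun x => Fr.ν_inj (by rw [← hν, hσ1]; rfl)
  have hV : c₁ ∈ centI Ω a t := by
    have h := inv_mem (Fr.mem_centI_of_σ (inv_mem hc₁) hσF)
    rwa [inv_inv] at h
  have hγ : γ = 1 := by
    have hcomm : Commute (Fr.kl γ)⁻¹ c₁ :=
      (show Commute (Fr.kl γ) c₁ from kl_comm_centI (hS := hS) hV (Fr.coord.kl_mem γ)).inv_left
    have h := Fr.C₀_pow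
    rw [hC, hcomm.mul_pow, ← map_inv, ← map_pow] at h
    have h' : Fr.kl (γ⁻¹ ^ orderOf Fr.v) * c₁ ^ orderOf Fr.v = Fr.kl 1 * 1 := by rw [h, map_one, mul_one]
    have h1 := (Fr.klw_unique (pow_mem hc₁ _) (one_mem _) h').1
    refine Units.ext (Fr.ν_pow_ne_one γ.ne_zero ?_)
    rw [← Units.val_pow_eq_pow_val, ← inv_inv (γ ^ orderOf Fr.v), ← inv_pow, h1, inv_one, Units.val_one]
  obtain ⟨m, hm1, hm2, hm3⟩ := Fr.act_centI (inv_mem hV)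
  have hMm : ∀ x, Fr.act C₁ x = m * x := fun x => by rw [hM, hγ, Units.val_one, map_one, one_mul, hm3]
  have hmne : m ≠ 1 := fun h => hfix 1 one_ne_zero (by rw [hMm, h, one_mul])
  refine ⟨c₁, m, hV, hmne, hm1, ?_, hm3, fun i => ?_⟩
  · have h : ∀ n : ℕ, Fr.act (C₁ ^ n) 1 = m ^ n := fun n => by
      induction n with
      | zero => rw [pow_zero, Fr.act_one, pow_zero]
      | succ n ih =>
        rw [pow_succ', Fr.act_mul hC₁a (Frame.D_a (pow_mem (mul_mem (inv_mem (Subgroup.mem_inf.1 hc₁).1)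
          (inv_mem (Fr.coord.kl_D γ))) n)), ih, hMm, pow_succ']
    have h1 := h (orderOf Fr.v)
    rw [hC₁pow, Fr.act_one] at h1
    exact h1.symm
  · obtain ⟨l, h1, hl, h2⟩ := hst i
    rw [hγ, map_one] at hl
    rw [hl, Units.val_one, one_smul] at h1
    refine ⟨h1, h2, by rw [(himg i).1, hMm], ?_⟩
    have hφ : Fr.φ (Fr.st i) = Fr.ε * Fr.φ i := by
      show Fr.Φ _ = _ * Fr.Φ i.1
      rw [h1, Fr.Φ_θv]
    show Fr.act (Fr.wi (Fr.st i))⁻¹ _ = _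
    rw [hφ, h2, mul_inv_rev, mul_inv_rev, Fr.act_mul (Frame.W_a (inv_mem hc₁)) (by
        rw [mul_smul, inv_smul_eq_iff.2 Fr.v_a.symm, Fr.wi_inv_a]),
      Fr.act_mul (Fr.wi_inv_a i) (inv_smul_eq_iff.2 Fr.v_a.symm), ← Fr.act_v, Fr.act_inv_act Fr.v_a, hm3]
    rfl

/-- The point of the arc at a unit lies in the direction of the tangent. -/
theorem bi_tang : ∀ i, ∃ c : F, c ≠ 0 ∧ Fr.tang i = Fr.ν c * Fr.bi i := by
  obtain ⟨c₁, m, -, hm, hmn, -, -, hst⟩ := Fr.exists_scalar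
  obtain ⟨hdir, N0, hN⟩ := Fr.arc_nucleus
  have hm0 : m ≠ 0 := fun e => by rw [e, mul_zero] at hmn; exact zero_ne_one hmn
  have hN0 : N0 = 0 := by
    have hboth : ∀ i, ∃ c : E, Fr.D.bar c = c ∧ N0 + m * N0 = c * Fr.tang (Fr.st i) := fun i => by
      obtain ⟨c, hc, e⟩ := hN i
      obtain ⟨c', hc', e'⟩ := hN (Fr.st i)
      refine ⟨c + c', by rw [map_add, hc, hc'], ?_⟩
      rw [(hst i).2.2.1] at e'
      rw [add_mul, ← e', show c * Fr.tang (Fr.st i) = m * (Fr.bi i + N0) by rw [e, (hst i).2.2.2]; ring]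
      linear_combination -(m * Fr.bi i) * CharTwo.two_eq_zero (R := E)
    by_contra h0
    obtain ⟨c, hc, e⟩ := hboth Fr.u₀
    obtain ⟨c', hc', e'⟩ := hboth (Fr.st Fr.u₀)
    have hne : N0 + m * N0 ≠ 0 := fun h => by
      rw [show N0 + m * N0 = (1 + m) * N0 by ring, mul_eq_zero, or_iff_left h0] at h
      exact hm (CharTwo.add_eq_zero.1 h).symm
    have hc'0 : c' ≠ 0 := fun h => hne (by rw [e', h, zero_mul])
    refine hdir (Fr.st (Fr.st Fr.u₀)) (Fr.st Fr.u₀) (Fr.st_ne _) (c'⁻¹ * c) (by rw [map_mul, map_inv₀, hc, hc']) ?_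
    rw [mul_assoc, ← e, e', inv_mul_cancel_left₀ hc'0]
  intro i
  obtain ⟨c, hc, e⟩ := hN i
  rw [hN0, add_zero] at e
  have hb : Fr.bi i ≠ 0 := by
    intro h0
    obtain ⟨k, hk⟩ : ∃ k, k ≠ i := ⟨Fr.st i, Fr.st_ne i⟩
    obtain ⟨ck, hck, ek⟩ := hN k
    rw [hN0, add_zero] at ek
    exact Fr.arc_tangent k i hk ck hck (by rw [h0, add_zero, ek])
  obtain ⟨x, rfl⟩ := Fr.ν_surj c hc
  have hx : x ≠ 0 := fun h => hb (by rw [e, h, map_zero, zero_mul])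
  exact ⟨x⁻¹, inv_ne_zero hx, by rw [e, ← mul_assoc, ← map_mul, inv_mul_cancel₀ hx, map_one, one_mul]⟩

/-- The image of the twisted square lies on the line of its argument. -/
theorem Bf_line {e : E} (he : e ≠ 0) : ∃ c : F, c ≠ 0 ∧ Fr.Bf e = Fr.ν c * e := by
  obtain ⟨y, hy⟩ := Fr.Φ_surj e
  have hy0 : y ≠ 0 := fun h => he (by rw [← hy, h, Fr.Φ_zero])
  set i := Fr.unit y hy0 with hi
  have hey : e = Fr.ν (Fr.Fl y : F) * Fr.φ i := by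
    rw [← hy, φ, ← Fr.Φ_smul]
    congr 1
    show y = (Fr.Fl y : F) • (((Fr.Fl y)⁻¹ : Fˣ) : F) • y
    rw [smul_smul, ← Units.val_mul, mul_inv_cancel, Units.val_one, one_smul]
  obtain ⟨c, hc, hci⟩ := Fr.bi_tang i
  have hcancel : ∀ x, Fr.act (Fr.wi i) (Fr.act (Fr.wi i)⁻¹ x) = x := fun x => by
    have := Fr.act_inv_act (Fr.wi_inv_a i) x
    rwa [inv_inv] at this
  have h1 := congrArg (Fr.act (Fr.wi i)) hci
  rw [tang, bi, Fr.act_ν (Fr.wi_mem i), hcancel, hcancel] at h1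
  set d := Fr.σ (Fr.wi i) c
  have hd : d ≠ 0 := (map_ne_zero _).2 hc
  set l := (Fr.Fl y : F)
  have hl : l ≠ 0 := Units.ne_zero _
  refine ⟨l⁻¹ * d⁻¹ * l⁻¹, mul_ne_zero (mul_ne_zero (inv_ne_zero hl) (inv_ne_zero hd)) (inv_ne_zero hl), ?_⟩
  rw [hey, Fr.Bf_smul _ hl (Fr.φ_ne i), show Fr.Bf (Fr.φ i) = Fr.β i from rfl, h1, map_mul, map_mul, map_inv₀,
    map_inv₀]
  field_simp
  rw [mul_div_mul_right _ _ ((map_ne_zero Fr.ν).2 hd)]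

end Frame

end Cfsg.Lib.BenderSuzuki.U3
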