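import Cfsg.Agent.BenderSuzuki.U3.Frame

/-!
The case `|Q| = q ^ 3`: the maps `f` and `h` given by `t * p * t = f p * h p * t * r`.
-/

set_option autoImplicit false
set_option linter.unusedSectionVars false

namespace Cfsg.Lib.BenderSuzuki.U3

open MulAction Cfsg.Lib.RankOne

universe u v

variable {G : Type u} {Ω : Type v} [Group G] [Finite G] [MulAction G Ω] {a : Ω} {t : G} {Q : Subgroup G}

namespace Input

variable (I : Input Ω a t Q)
include I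

theorem exists_fh (p : G) : ∃ r h : G, p ∈ Q → p ≠ 1 → r ∈ Q ∧ h ∈ twoStab Ω a t ∧
    ∃ r' ∈ Q, t * p * t = r * h * t * r' := by
  by_cases hp : p ∈ Q ∧ p ≠ 1
  · have hg : t * p * t ∉ stabilizer G a := fun h => hp.2 (I.eq_one_of_pts hp.1 (by
      have h1 : (t * p * t) • a = a := h
      rwa [mul_smul, mul_smul, smul_eq_iff_eq_inv_smul, t_inv I.setup] at h1))
    obtain ⟨⟨g, r'⟩, ⟨hg', hr', e⟩, -⟩ := bruhat I.setup hg
    obtain ⟨r, hr, d, hd, rfl⟩ := qd I.setup (show g ∈ stabilizer G a from hg')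
    exact ⟨r, d, fun _ _ => ⟨hr, hd, r', hr', e⟩⟩
  · exact ⟨1, 1, fun h1 h2 => absurd ⟨h1, h2⟩ hp⟩

/-- The left part of `t * p * t`. -/
noncomputable def f (p : G) : G := (I.exists_fh p).choose

/-- The middle part of `t * p * t`. -/
noncomputable def hh (p : G) : G := (I.exists_fh p).choose_spec.choose

theorem fh_spec {p : G} (hp : p ∈ Q) (hp1 : p ≠ 1) :
    I.f p ∈ Q ∧ I.hh p ∈ twoStab Ω a t ∧ ∃ r' ∈ Q, t * p * t = I.f p * I.hh p * t * r' :=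
  (I.exists_fh p).choose_spec.choose_spec hp hp1

theorem f_mem {p : G} (hp : p ∈ Q) (hp1 : p ≠ 1) : I.f p ∈ Q := (I.fh_spec hp hp1).1

theorem hh_mem {p : G} (hp : p ∈ Q) (hp1 : p ≠ 1) : I.hh p ∈ twoStab Ω a t := (I.fh_spec hp hp1).2.1

theorem fh_unique {p r h r' : G} (hp : p ∈ Q) (hp1 : p ≠ 1) (hr : r ∈ Q) (hh' : h ∈ twoStab Ω a t) (hr' : r' ∈ Q)
    (e : t * p * t = r * h * t * r') : I.f p = r ∧ I.hh p = h := by
  obtain ⟨h1, h2, r₁, h3, e'⟩ := I.fh_spec hp hp1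
  obtain ⟨ea, eb, -⟩ := coords I.setup h2 h3 hh' hr' h1 hr (e'.symm.trans e)
  exact ⟨ea, eb⟩

theorem f_pt {p : G} (hp : p ∈ Q) (hp1 : p ≠ 1) : t • p • t • a = I.f p • t • a := by
  obtain ⟨h1, h2, r', h3, e⟩ := I.fh_spec hp hp1
  have h := congrArg (fun g : G => g • a) e
  simp only [mul_smul, fix_a I.setup h3] at h
  rwa [show I.hh p • t • a = t • a from (Subgroup.mem_inf.1 h2).2] at h

theorem f_ne {p : G} (hp : p ∈ Q) (hp1 : p ≠ 1) : I.f p ≠ 1 := fun h => by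
  have e := I.f_pt hp hp1
  rw [h, one_smul] at e
  exact ta_ne I.setup (smul_left_cancel p ((smul_left_cancel t e).trans (fix_a I.setup hp).symm))

theorem f_f {p : G} (hp : p ∈ Q) (hp1 : p ≠ 1) : I.f (I.f p) = p := by
  refine I.pts_inj (I.f_mem (I.f_mem hp hp1) (I.f_ne hp hp1)) hp ?_
  rw [← I.f_pt (I.f_mem hp hp1) (I.f_ne hp hp1), ← I.f_pt hp hp1, ← mul_smul, I.setup.mul_self, one_smul]

/-- The right part of `t * p * t` is `(f p⁻¹)⁻¹`. -/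
theorem fh_eq {p : G} (hp : p ∈ Q) (hp1 : p ≠ 1) :
    t * p * t = I.f p * I.hh p * t * (I.f p⁻¹)⁻¹ ∧ I.hh p⁻¹ = t * (I.hh p)⁻¹ * t := by
  obtain ⟨h1, h2, r', h3, e⟩ := I.fh_spec hp hp1
  obtain ⟨g1, g2, r₁, g3, e1⟩ := I.fh_spec (inv_mem hp) (inv_ne_one.2 hp1)
  obtain ⟨a1, b1⟩ := (transport I.setup p _ _ r' h1 h2 h3 e).1 _ _ r₁ g1 g2 g3 e1
  refine ⟨?_, b1⟩
  have := (transport I.setup p⁻¹ _ _ r₁ g1 g2 g3 e1).1 _ _ r' h1 h2 h3 (by rwa [inv_inv])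
  rwa [← this.1]

theorem hh_f {p : G} (hp : p ∈ Q) (hp1 : p ≠ 1) : I.hh (I.f p) = (I.hh p)⁻¹ := by
  have hS := I.setup
  set r := I.f p with hr
  have hrQ := I.f_mem hp hp1
  have hr1 := I.f_ne hp hp1
  have hpi := inv_mem hp
  have hpi1 := inv_ne_one.2 hp1
  -- the right part of `t * p⁻¹ * t` is `r⁻¹`
  have e1 := (I.fh_eq hpi hpi1).1
  rw [inv_inv] at e1
  obtain ⟨g1, g2, r₁, g3, e2⟩ := I.fh_spec (inv_mem hrQ) (inv_ne_one.2 hr1)
  have h := ((transport hS p⁻¹ _ _ r⁻¹ (I.f_mem hpi hpi1) (I.hh_mem hpi hpi1) (inv_mem hrQ) e1).2.1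
    hpi _ _ r₁ g1 g2 g3 e2).2
  have h2 := (I.fh_eq hrQ hr1).2
  rw [h, (I.fh_eq hp hp1).2] at h2
  have h3 : (I.hh r)⁻¹ = (t * (t * (I.hh p)⁻¹ * t)⁻¹ * t) := by
    rw [h2]
    simp only [mul_assoc, hS.mul_self, mul_one]
    rw [← mul_assoc, hS.mul_self, one_mul]
  rw [← inv_inv (I.hh r), h3]
  simp only [mul_inv_rev, inv_inv, t_inv hS, mul_assoc, hS.mul_self, mul_one]

theorem fh_conj {p d : G} (hp : p ∈ Q) (hp1 : p ≠ 1) (hd : d ∈ twoStab Ω a t) :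
    I.f (d * p * d⁻¹) = t * d * t * I.f p * (t * d * t)⁻¹ ∧
      I.hh (d * p * d⁻¹) = t * d * t * I.hh p * d⁻¹ := by
  have hS := I.setup
  obtain ⟨h1, h2, r', h3, e⟩ := I.fh_spec hp hp1
  have hd' := conj_D' hS hd
  have hda : d • a = a := (Subgroup.mem_inf.1 hd).1
  have hd'a : (t * d * t) • a = a := (Subgroup.mem_inf.1 hd').1
  refine I.fh_unique (hS.conj_mem d hda p hp) (fun h => hp1 (conj_eq_one_iff.1 h))
    (hS.conj_mem _ hd'a _ h1) (mul_mem (mul_mem hd' h2) (inv_mem hd)) (hS.conj_mem _ hd'a _ h3) ?_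
  have e1 : t * d⁻¹ * t = (t * d * t)⁻¹ := by simp only [mul_inv_rev, t_inv hS, mul_assoc]
  calc t * (d * p * d⁻¹) * t = (t * d * t) * (t * p * t) * (t * d⁻¹ * t) := by
        calc t * (d * p * d⁻¹) * t = t * d * ((t * t) * p * (t * t)) * d⁻¹ * t := by rw [hS.mul_self]; group
          _ = _ := by simp only [mul_assoc]
    _ = (t * d * t) * (I.f p * I.hh p * t * r') * (t * d * t)⁻¹ := by rw [e, e1]
    _ = t * d * t * I.f p * (t * d * t)⁻¹ * (t * d * t * I.hh p) * (t * (t * d * t)⁻¹ * t) * t *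
          (t * d * t * r' * (t * d * t)⁻¹) := by
        rw [show ∀ x y : G, x * (t * (t * d * t)⁻¹ * t) * t * y = x * t * (t * d * t)⁻¹ * (t * t) * y by
          intro x y; simp only [mul_assoc], hS.mul_self]
        group
    _ = _ := by
        congr 2
        rw [mul_assoc (t * d * t * I.f p * (t * d * t)⁻¹)]
        congr 1
        rw [← e1, show t * (t * d⁻¹ * t) * t = (t * t) * d⁻¹ * (t * t) by simp only [mul_assoc], hS.mul_self,
          one_mul, mul_one]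

theorem fh_mul {x y : G} (hx : x ∈ Q) (hy : y ∈ Q) (hx1 : x ≠ 1) (hy1 : y ≠ 1) (hxy : x * y ≠ 1) :
    (I.f x⁻¹)⁻¹ * I.f y ≠ 1 ∧
    I.f (x * y) = I.f x * (I.hh x * I.f ((I.f x⁻¹)⁻¹ * I.f y) * (I.hh x)⁻¹) ∧
    I.hh (x * y) = I.hh x * I.hh ((I.f x⁻¹)⁻¹ * I.f y) * I.hh y := by
  have hS := I.setup
  have ex := (I.fh_eq hx hx1).1
  have ey := (I.fh_eq hy hy1).1
  have fxi := inv_mem (I.f_mem (inv_mem hx) (inv_ne_one.2 hx1))
  have fyi := inv_mem (I.f_mem (inv_mem hy) (inv_ne_one.2 hy1))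
  obtain ⟨hne, -⟩ := product_formula hS x y _ _ _ _ _ _ hxy hx hy (I.f_mem hx hx1) (I.hh_mem hx hx1) fxi ex
    (I.f_mem hy hy1) (I.hh_mem hy hy1) fyi ey
  refine ⟨hne, ?_⟩
  set u := (I.f x⁻¹)⁻¹ * I.f y with hu
  have huQ : u ∈ Q := mul_mem fxi (I.f_mem hy hy1)
  obtain ⟨u1, u2, ru, u3, eu⟩ := I.fh_spec huQ hne
  set d := t * I.hh y * t with hd
  have hdD : d ∈ twoStab Ω a t := conj_D' hS (I.hh_mem hy hy1)
  have hda : d • a = a := (Subgroup.mem_inf.1 hdD).1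
  refine I.fh_unique (mul_mem hx hy) hxy
    (mul_mem (I.f_mem hx hx1) (hS.conj_mem _ (Subgroup.mem_inf.1 (I.hh_mem hx hx1)).1 _ u1))
    (mul_mem (mul_mem (I.hh_mem hx hx1) u2) (I.hh_mem hy hy1))
    (r' := d⁻¹ * ru * d * (I.f y⁻¹)⁻¹) (mul_mem (by
      have := hS.conj_mem d⁻¹ (inv_mem (show d ∈ stabilizer G a from hda)) ru u3
      rwa [inv_inv] at this) fyi) ?_
  have htd : t * d = I.hh y * t := by rw [hd, ← mul_assoc, ← mul_assoc, hS.mul_self, one_mul]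
  calc t * (x * y) * t = (t * x * t) * (t * y * t) := by
        rw [show t * x * t * (t * y * t) = t * x * (t * t) * y * t by simp only [mul_assoc], hS.mul_self]; group
    _ = I.f x * I.hh x * t * (u * I.hh y * t) * (I.f y⁻¹)⁻¹ := by rw [ex, ey, hu]; group
    _ = I.f x * I.hh x * (t * u * t) * (t * I.hh y * t) * (I.f y⁻¹)⁻¹ := by
        rw [show ∀ X Y : G, X * (t * u * t) * (t * I.hh y * t) * Y = X * t * (u * (t * t) * I.hh y * t) * Y by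
          intro X Y; simp only [mul_assoc], hS.mul_self, mul_one]
    _ = I.f x * I.hh x * (I.f u * I.hh u * t * ru) * d * (I.f y⁻¹)⁻¹ := by rw [eu]
    _ = I.f x * (I.hh x * I.f u * (I.hh x)⁻¹) * (I.hh x * I.hh u) * (t * d) * (d⁻¹ * ru * d * (I.f y⁻¹)⁻¹) := by group
    _ = _ := by rw [htd]; group

end Input

namespace Frame

variable {F E : Type} [Field F] [Fintype F] [CharP F 2] [Field E] [Fintype E] [CharP E 2] (Fr : Frame Ω a t Q F E)

theorem zc_ne (l : Fˣ) : Fr.zc (l : F) ≠ 1 := fun h =>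
  l.ne_zero (Fr.coord.zc_inj (h.trans Fr.coord.zc_zero.symm))

theorem fh_zc (l : Fˣ) : Fr.input.f (Fr.zc (l : F)) = Fr.zc ((l⁻¹ : Fˣ) : F) ∧
    Fr.input.hh (Fr.zc (l : F)) = Fr.kl l⁻¹ :=
  Fr.input.fh_unique (Fr.coord.zc_mem _) (Fr.zc_ne l) (Fr.coord.zc_mem _) (Fr.coord.kl_D _) (Fr.coord.zc_mem _)
    (Fr.coord.t_zc l)

end Frame

end Cfsg.Lib.BenderSuzuki.U3
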