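import Cfsg.Agent.BenderSuzuki.U3.Cocycle

/-!
The case `|Q| = q ^ 3`: the units, one on each line of rows, and the equation of the coordinates.
-/

set_option autoImplicit false
set_option linter.unusedSectionVars false
set_option linter.unusedSimpArgs false

namespace Cfsg.Lib.BenderSuzuki.U3

open MulAction Cfsg.Lib.RankOne

universe u v

variable {G : Type u} {Ω : Type v} [Group G] [Finite G] [MulAction G Ω] {a : Ω} {t : G} {Q : Subgroup G}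

namespace Frame

variable {F E : Type} [Field F] [Fintype F] [CharP F 2] [Field E] [Fintype E] [CharP E 2] (Fr : Frame Ω a t Q F E)

theorem exists_klw {d : G} (hd : d ∈ twoStab Ω a t) : ∃ (l : Fˣ) (w : G), w ∈ centT Ω a t ∧ d = (Fr.kl l)⁻¹ * w := by
  have hS := Fr.input.setup
  obtain ⟨⟨w, k⟩, ⟨hw, hk, e⟩, -⟩ := factor hS.mul_self hS.odd_card (fun x hx => conj_D hS hx) hd
  simp only at hw hk e
  obtain ⟨l, rfl⟩ := Fr.coord.kl_surj k hk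
  exact ⟨(Units.map (Fr.σ w : F →* F) l)⁻¹, w, hw, by rw [map_inv, inv_inv, ← Fr.σ_kl hw, inv_mul_cancel_right, e]⟩

theorem klw_unique {l l' : Fˣ} {w w' : G} (hw : w ∈ centT Ω a t) (hw' : w' ∈ centT Ω a t)
    (e : Fr.kl l * w = Fr.kl l' * w') : l = l' ∧ w = w' := by
  have hS := Fr.input.setup
  have h1 : Fr.kl (l'⁻¹ * l) = w' * w⁻¹ := by
    rw [map_mul, map_inv]
    calc (Fr.kl l')⁻¹ * Fr.kl l = (Fr.kl l')⁻¹ * (Fr.kl l * w) * w⁻¹ := by group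
      _ = w' * w⁻¹ := by rw [e]; group
  have h2 : Fr.kl (l'⁻¹ * l) = 1 := by
    refine eq_one_of_odd_inv (orderOf_odd_mem hS.odd_card (Fr.coord.kl_D _)) ?_
    have h3 := Fr.w_t (mul_mem hw' (inv_mem hw))
    rw [← h1, Fr.coord.t_kl hS, map_inv] at h3
    exact h3
  refine ⟨(inv_mul_eq_one.1 (Fr.coord.kl_inj (h2.trans (map_one _).symm))).symm, ?_⟩
  rw [h2] at h1
  exact (mul_inv_eq_one.1 h1.symm).symm

theorem Pi_D (x : F × F) : Fr.Pi x ∈ twoStab Ω a t := by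
  unfold Pi
  split
  · split
    · exact one_mem _
    · exact inv_mem (Fr.coord.kl_D _)
  · rename_i h
    rw [Hd, dif_neg h]
    exact mul_mem (inv_mem (Fr.coord.kl_D _)) (Fr.η_D (by rw [dt_smul_left, inv_mul_cancel₀ h]))

/-- The length of a row. -/
noncomputable def Fl (x : F × F) : Fˣ := (Fr.exists_klw (Fr.Pi_D x)).choose

/-- The element of `W` of the line of a row. -/
noncomputable def wt (x : F × F) : G := (Fr.exists_klw (Fr.Pi_D x)).choose_spec.choose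

theorem wt_mem (x : F × F) : Fr.wt x ∈ centT Ω a t := (Fr.exists_klw (Fr.Pi_D x)).choose_spec.choose_spec.1

theorem Pi_eq (x : F × F) : Fr.Pi x = (Fr.kl (Fr.Fl x))⁻¹ * Fr.wt x :=
  (Fr.exists_klw (Fr.Pi_D x)).choose_spec.choose_spec.2

theorem Fl_wt_unique {x : F × F} {l : Fˣ} {w : G} (hw : w ∈ centT Ω a t) (e : Fr.Pi x = (Fr.kl l)⁻¹ * w) :
    Fr.Fl x = l ∧ Fr.wt x = w := by
  rw [Fr.Pi_eq, ← map_inv, ← map_inv] at e
  obtain ⟨h1, h2⟩ := Fr.klw_unique (Fr.wt_mem x) hw e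
  exact ⟨inv_injective h1, h2⟩

theorem Pi_smul (l : Fˣ) {x : F × F} (hx : x ≠ 0) : Fr.Pi ((l : F) • x) = (Fr.kl l)⁻¹ * Fr.Pi x := by
  by_cases h : dt x r₀ = 0
  · obtain ⟨c, hc⟩ := exists_smul_of_dt (show (r₀ : F × F) ≠ 0 by simp [r₀]) h
    have hc0 : c ≠ 0 := fun e => hx (by rw [hc, e, zero_smul])
    rw [hc, smul_smul, ← Units.val_mk0 hc0, ← Units.val_mul, Fr.Pi_line, Fr.Pi_line, ← map_inv, ← map_inv,
      ← map_inv, ← map_mul, mul_inv]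
  · rw [Pi, if_neg (by rw [dt_smul_left]; exact mul_ne_zero l.ne_zero h), Fr.Hd_smul_left l h, Pi, if_neg h]

theorem Fl_smul (l : Fˣ) {x : F × F} (hx : x ≠ 0) :
    Fr.Fl ((l : F) • x) = l * Fr.Fl x ∧ Fr.wt ((l : F) • x) = Fr.wt x :=
  Fr.Fl_wt_unique (Fr.wt_mem x) (by
    rw [Fr.Pi_smul l hx, Fr.Pi_eq, ← map_inv, ← map_inv, ← map_inv, ← mul_assoc, ← map_mul, mul_inv])

/-- The units: rows of length one. -/
def Un : Type := {x : F × F // x ≠ 0 ∧ Fr.Fl x = 1}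

noncomputable instance : Fintype Fr.Un := by
  haveI : Finite Fr.Un := inferInstanceAs (Finite {x : F × F // x ≠ 0 ∧ Fr.Fl x = 1})
  exact Fintype.ofFinite _

/-- The unit on a line. -/
noncomputable def unit (x : F × F) (hx : x ≠ 0) : Fr.Un :=
  ⟨(((Fr.Fl x)⁻¹ : Fˣ) : F) • x, smul_ne_zero (Units.ne_zero _) hx, by rw [(Fr.Fl_smul _ hx).1, inv_mul_cancel]⟩

theorem Un.ne (i : Fr.Un) : i.1 ≠ 0 := i.2.1

theorem Un.dt_ne {i j : Fr.Un} (h : i ≠ j) : dt i.1 j.1 ≠ 0 := by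
  intro e
  obtain ⟨c, hc⟩ := exists_smul_of_dt (Un.ne Fr j) e
  have hc0 : c ≠ 0 := fun e0 => Un.ne Fr i (by rw [hc, e0, zero_smul])
  apply h
  apply Subtype.ext
  have h1 := (Fr.Fl_smul (Units.mk0 c hc0) (Un.ne Fr j)).1
  rw [Units.val_mk0, ← hc, i.2.2, j.2.2, mul_one] at h1
  rw [hc, show c = 1 from (congrArg Units.val h1).symm, one_smul]

theorem card_Un : Fintype.card Fr.Un = Fr.D.q + 1 := by
  classical
  have hq := Fr.D.hq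
  let e : Fˣ × Fr.Un ≃ {x : F × F // x ≠ 0} :=
    { toFun := fun z => ⟨(z.1 : F) • z.2.1, smul_ne_zero z.1.ne_zero (Un.ne Fr z.2)⟩
      invFun := fun x => (Fr.Fl x.1, Fr.unit x.1 x.2)
      left_inv := fun z => by
        have h := (Fr.Fl_smul z.1 (Un.ne Fr z.2)).1
        rw [z.2.2.2, mul_one] at h
        refine Prod.ext h (Subtype.ext ?_)
        show (((Fr.Fl ((z.1 : F) • z.2.1))⁻¹ : Fˣ) : F) • (z.1 : F) • z.2.1 = z.2.1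
        rw [h, smul_smul, ← Units.val_mul, inv_mul_cancel, Units.val_one, one_smul]
      right_inv := fun x => Subtype.ext (by
        show (Fr.Fl x.1 : F) • (((Fr.Fl x.1)⁻¹ : Fˣ) : F) • x.1 = x.1
        rw [smul_smul, ← Units.val_mul, mul_inv_cancel, Units.val_one, one_smul]) }
  have h := Nat.card_congr e
  rw [Nat.card_prod, Nat.card_units, Nat.card_eq_fintype_card, Nat.card_eq_fintype_card, Fr.coord.card, ← Fr.q_eq,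
    Nat.card_eq_fintype_card, Fintype.card_subtype_compl, Fintype.card_subtype_eq, Fintype.card_prod, Fr.coord.card,
    ← Fr.q_eq] at h
  have h2 : Fr.D.q * Fr.D.q - 1 = (Fr.D.q - 1) * (Fr.D.q + 1) := by
    rw [← pow_two, Fr.D.q_sq_sub_one, mul_comm]
  rw [h2] at h
  exact Nat.eq_of_mul_eq_mul_left (by omega) h

/-- The element of `W` of a unit. -/
noncomputable def wi (i : Fr.Un) : G := Fr.wt i.1

theorem wi_mem (i : Fr.Un) : Fr.wi i ∈ centT Ω a t := Fr.wt_mem _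

theorem Pi_unit (i : Fr.Un) : Fr.Pi i.1 = Fr.wi i := by
  rw [Fr.Pi_eq, i.2.2, map_one, inv_one, one_mul]
  rfl

/-- The coordinate of a unit. -/
noncomputable def φ (i : Fr.Un) : E := Fr.Φ i.1

theorem φ_ne (i : Fr.Un) : Fr.φ i ≠ 0 := Fr.Φ_ne (Un.ne Fr i)

/-- The twisted square of `v`. -/
noncomputable def δh (e : E) : G := (Fr.lift e)⁻¹ * (Fr.v * Fr.lift e * Fr.v⁻¹)

theorem δh_eq {p : G} (hp : p ∈ Q) : p⁻¹ * (Fr.v * p * Fr.v⁻¹) = Fr.δh (Fr.ca p) := by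
  obtain ⟨c, hc⟩ := Fr.exists_zc_of_ca_eq (Fr.lift_mem (Fr.ca p)) hp (Fr.ca_lift _)
  rw [δh, hc]
  calc p⁻¹ * (Fr.v * p * Fr.v⁻¹) = p⁻¹ * (Fr.zc c)⁻¹ * (Fr.zc c * (Fr.v * p * Fr.v⁻¹)) := by group
    _ = _ := by
      rw [mul_inv_rev, show Fr.v * (Fr.zc c * p) * Fr.v⁻¹ = Fr.v * Fr.zc c * p * Fr.v⁻¹ by group,
        (Fr.v_comm_zc c).eq]
      group

theorem δh_mem (e : E) : Fr.δh e ∈ Q :=
  mul_mem (inv_mem (Fr.lift_mem e)) (Fr.input.setup.conj_mem _ Fr.v_a _ (Fr.lift_mem e))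

theorem ca_δh (e : E) : Fr.ca (Fr.δh e) = (1 + Fr.ε) * e := by
  rw [δh, Fr.ca_mul _ (inv_mem (Fr.lift_mem e)) _ (Fr.input.setup.conj_mem _ Fr.v_a _ (Fr.lift_mem e)),
    Fr.ca_inv (Fr.lift_mem e), Fr.ca_v _ (Fr.lift_mem e), Fr.ca_lift, add_mul, one_mul]

theorem one_add_ε_ne : 1 + Fr.ε ≠ 0 := fun h => Fr.ε_ne (CharTwo.add_eq_zero.1 h).symm

theorem δh_ne {e : E} (he : e ≠ 0) : Fr.δh e ≠ 1 := fun h => by
  have h1 := Fr.ca_δh e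
  rw [h, Fr.ca_one] at h1
  exact mul_ne_zero Fr.one_add_ε_ne he h1.symm

/-- The coordinate of the image of the twisted square. -/
noncomputable def Bf (e : E) : E := Fr.ca (Fr.input.f (Fr.δh e))

theorem δh_conj_v (e : E) : Fr.δh (Fr.ε * e) = Fr.v * Fr.δh e * Fr.v⁻¹ := by
  rw [← Fr.ca_lift e, ← Fr.ca_v _ (Fr.lift_mem e), ← Fr.δh_eq (Fr.input.setup.conj_mem _ Fr.v_a _ (Fr.lift_mem e)),
    Fr.ca_lift]
  show _ = Fr.v * ((Fr.lift e)⁻¹ * (Fr.v * Fr.lift e * Fr.v⁻¹)) * Fr.v⁻¹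
  group

theorem Bf_smul (c : F) (hc : c ≠ 0) {e : E} (he : e ≠ 0) : Fr.Bf (Fr.ν c * e) = Fr.ν c⁻¹ * Fr.Bf e := by
  set l := Units.mk0 c hc with hl
  set k := Fr.kl l⁻¹ with hk
  have hp := Fr.lift_mem e
  have hkD : k ∈ twoStab Ω a t := Fr.coord.kl_D _
  have hkp := Fr.input.setup.conj_mem k (Frame.D_a hkD) _ hp
  have h1 : Fr.δh (Fr.ν c * e) = k * Fr.δh e * k⁻¹ := by
    have h2 : Fr.ca (k * Fr.lift e * k⁻¹) = Fr.ν c * e := by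
      rw [← Fr.act_ca (Frame.D_a hkD) hp, Fr.ca_lift, hk, Fr.act_kl_inv]; rfl
    rw [← h2, ← Fr.δh_eq hkp]
    show _ = k * ((Fr.lift e)⁻¹ * (Fr.v * Fr.lift e * Fr.v⁻¹)) * k⁻¹
    have hc' : Commute Fr.v k := (kl_comm_centI (hS := Fr.input.setup) Fr.v_mem (Fr.coord.kl_mem _)).symm
    calc (k * Fr.lift e * k⁻¹)⁻¹ * (Fr.v * (k * Fr.lift e * k⁻¹) * Fr.v⁻¹)
        = k * (Fr.lift e)⁻¹ * k⁻¹ * ((Fr.v * k) * Fr.lift e * (Fr.v * k)⁻¹) := by group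
      _ = k * (Fr.lift e)⁻¹ * k⁻¹ * ((k * Fr.v) * Fr.lift e * (k * Fr.v)⁻¹) := by rw [hc'.eq]
      _ = _ := by group
  rw [Bf, h1, (Fr.input.fh_conj (Fr.δh_mem e) (Fr.δh_ne he) hkD).1, hk, Fr.coord.t_kl Fr.input.setup, inv_inv,
    ← Fr.act_ca (Fr.kl_a l) (Fr.input.f_mem (Fr.δh_mem e) (Fr.δh_ne he))]
  have h3 := Fr.act_kl_inv l⁻¹ (Fr.Bf e)
  rw [inv_inv] at h3
  show Fr.act (Fr.kl l) (Fr.Bf e) = _
  rw [h3, Units.val_inv_eq_inv_val, hl, Units.val_mk0]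

theorem Bf_ε {e : E} (he : e ≠ 0) : Fr.Bf (Fr.ε * e) = Fr.ε * Fr.Bf e := by
  rw [Bf, Fr.δh_conj_v, (Fr.input.fh_conj (Fr.δh_mem e) (Fr.δh_ne he) (Subgroup.mem_inf.1 Fr.v_mem).1).1,
    Fr.w_t (centI_le_centT (hS := Fr.input.setup) Fr.v_mem),
    Fr.ca_v _ (Fr.input.f_mem (Fr.δh_mem e) (Fr.δh_ne he))]
  rfl

/-- The value of the coordinate of the image of the twisted square at a unit. -/
noncomputable def β (i : Fr.Un) : E := Fr.Bf (Fr.φ i)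

/-- The same, moved by the element of `W` of the unit. -/
noncomputable def bi (i : Fr.Un) : E := Fr.act (Fr.wi i)⁻¹ (Fr.β i)

/-- The top of `p` in normal form. -/
theorem top_eq {T : F × F} {i : Fr.Un} (h : dt T i.1 = 1) :
    ∃ j : Fr.Un, j ≠ i ∧ T = (dt i.1 j.1)⁻¹ • j.1 := by
  have hT : T ≠ 0 := dt_ne_left (y := i.1) (by rw [h]; exact one_ne_zero)
  refine ⟨Fr.unit T hT, fun e => ?_, ?_⟩
  · have h1 : dt ((((Fr.Fl T)⁻¹ : Fˣ) : F) • T) i.1 = 0 := by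
      rw [show (((Fr.Fl T)⁻¹ : Fˣ) : F) • T = i.1 from congrArg Subtype.val e, dt_self]
    rw [dt_smul_left, h, mul_one] at h1
    exact Units.ne_zero _ h1
  · show T = (dt i.1 ((((Fr.Fl T)⁻¹ : Fˣ) : F) • T))⁻¹ • (((Fr.Fl T)⁻¹ : Fˣ) : F) • T
    rw [dt_smul_right, dt_comm i.1, h, mul_one, smul_smul, Units.val_inv_eq_inv_val, inv_inv,
      mul_inv_cancel₀ (Units.ne_zero _), one_smul]

theorem η_unit {i j : Fr.Un} (h : j ≠ i) :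
    Fr.η ((dt i.1 j.1)⁻¹ • j.1) i.1 = Fr.kl (Units.mk0 _ (Un.dt_ne Fr h.symm)) * (Fr.wi i * (Fr.wi j)⁻¹)⁻¹ := by
  have hd := Un.dt_ne Fr h.symm
  have h1 : dt ((dt i.1 j.1)⁻¹ • j.1) i.1 = 1 := by rw [dt_smul_left, dt_comm j.1, inv_mul_cancel₀ hd]
  have e : (dt i.1 j.1)⁻¹ = (((Units.mk0 _ hd)⁻¹ : Fˣ) : F) := by rw [Units.val_inv_eq_inv_val, Units.val_mk0]
  rw [← Fr.Hd_of_one h1, Fr.Hd_eq_Pi (by rw [h1]; exact one_ne_zero), e, Fr.Pi_smul _ (Un.ne Fr j), Fr.Pi_unit,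
    Fr.Pi_unit, map_inv, inv_inv]
  group

/-- The relations belonging to an element and its inverse. -/
theorem pair_rel {i j k : Fr.Un} (hj : j ≠ i) (hk : k ≠ i)
    (hinv : (Fr.pp ((dt i.1 j.1)⁻¹ • j.1) i.1)⁻¹ = Fr.pp ((dt i.1 k.1)⁻¹ • k.1) i.1) :
    Fr.wi k * (Fr.wi i)⁻¹ = Fr.wi i * (Fr.wi j)⁻¹ ∧
    dt i.1 k.1 = Fr.σ (Fr.wi i * (Fr.wi j)⁻¹) (dt i.1 j.1) ∧
    Fr.bi i + Fr.bi k = Fr.act (Fr.wi i)⁻¹ (Fr.ν (dt i.1 j.1)⁻¹ * Fr.φ j) := by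
  have hS := Fr.input.setup
  have hdj := Un.dt_ne Fr hj.symm
  have hdk := Un.dt_ne Fr hk.symm
  set T := (dt i.1 j.1)⁻¹ • j.1 with hT
  set T' := (dt i.1 k.1)⁻¹ • k.1 with hT'
  have hTr : dt T i.1 = 1 := by rw [hT, dt_smul_left, dt_comm j.1, inv_mul_cancel₀ hdj]
  have hT'r : dt T' i.1 = 1 := by rw [hT', dt_smul_left, dt_comm k.1, inv_mul_cancel₀ hdk]
  set u := Fr.wi i * (Fr.wi j)⁻¹ with hu
  set u' := Fr.wi k * (Fr.wi i)⁻¹ with hu'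
  have huW : u ∈ centT Ω a t := mul_mem (Fr.wi_mem i) (inv_mem (Fr.wi_mem j))
  have hu'W : u' ∈ centT Ω a t := mul_mem (Fr.wi_mem k) (inv_mem (Fr.wi_mem i))
  set p := Fr.pp T i.1 with hp
  have hpQ := Fr.pp_mem hTr
  have hp1 := Fr.pp_ne hTr
  have hη : Fr.η T' i.1 = t * (Fr.η T i.1)⁻¹ * t := by
    rw [η, η, ← hp, ← hinv, (Fr.input.fh_eq hpQ hp1).2]
  rw [hT, hT', Fr.η_unit hj, Fr.η_unit hk] at hη
  have e2 : Fr.wi i * (Fr.wi k)⁻¹ = u'⁻¹ := by rw [hu', mul_inv_rev, inv_inv]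
  rw [e2, inv_inv, mul_inv_rev, inv_inv, ← hu] at hη
  have h3 : t * (u * (Fr.kl (Units.mk0 _ hdj))⁻¹) * t =
      Fr.kl (Units.map (Fr.σ u : F →* F) (Units.mk0 _ hdj)) * u := by
    calc t * (u * (Fr.kl (Units.mk0 _ hdj))⁻¹) * t = (t * u * t) * (t * (Fr.kl (Units.mk0 _ hdj))⁻¹ * t) := by
          rw [show (t * u * t) * (t * (Fr.kl (Units.mk0 _ hdj))⁻¹ * t) =
            t * u * (t * t) * (Fr.kl (Units.mk0 _ hdj))⁻¹ * t by simp only [mul_assoc], hS.mul_self, mul_one]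
          simp only [mul_assoc]
      _ = u * Fr.kl (Units.mk0 _ hdj) := by rw [Fr.w_t huW, ← map_inv, Fr.coord.t_kl hS, inv_inv]
      _ = _ := by rw [← Fr.σ_kl huW, inv_mul_cancel_right]
  rw [h3] at hη
  obtain ⟨hd, huu⟩ := Fr.klw_unique hu'W huW hη
  have hd' : dt i.1 k.1 = Fr.σ u (dt i.1 j.1) := congrArg Units.val hd
  refine ⟨huu, hd', ?_⟩
  -- the product rule
  set y := Fr.v * p⁻¹ * Fr.v⁻¹ with hy
  have hyQ : y ∈ Q := hS.conj_mem _ Fr.v_a _ (inv_mem hpQ)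
  have hy1 : y ≠ 1 := fun h => hp1 (inv_eq_one.1 (conj_eq_one_iff.1 h))
  have hxy : p * y = Fr.δh (Fr.φ i) := by
    rw [φ, ← Fr.ca_pp hTr, ← hp, ← Fr.ca_inv hpQ, ← Fr.δh_eq (inv_mem hpQ), inv_inv, hy]
  obtain ⟨-, hmul, -⟩ := Fr.input.fh_mul hpQ hyQ hp1 hy1 (hxy ▸ Fr.δh_ne (Fr.φ_ne i))
  have hpi : p⁻¹ = Fr.pp T' i.1 := hinv
  have hfi : Fr.input.f p⁻¹ = Fr.pp i.1 T' := by rw [hpi, Fr.pp_swap hT'r]
  have hfiQ := Fr.pp_mem ((dt_comm i.1 T').trans hT'r)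
  have hfy : Fr.input.f y = Fr.v * Fr.input.f p⁻¹ * Fr.v⁻¹ := by
    rw [hy, (Fr.input.fh_conj (inv_mem hpQ) (inv_ne_one.2 hp1) (Subgroup.mem_inf.1 Fr.v_mem).1).1,
      Fr.w_t (centI_le_centT (hS := hS) Fr.v_mem)]
  rw [hxy, hfy, hfi, Fr.δh_eq hfiQ, Fr.ca_pp ((dt_comm i.1 T').trans hT'r)] at hmul
  have hA : Fr.ν (dt i.1 k.1)⁻¹ * Fr.φ k ≠ 0 := mul_ne_zero ((map_ne_zero Fr.ν).2 (inv_ne_zero hdk)) (Fr.φ_ne k)
  have hTk : Fr.Φ T' = Fr.ν (dt i.1 k.1)⁻¹ * Fr.φ k := Fr.Φ_smul _ _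
  rw [hTk] at hmul
  have hda : Fr.η T i.1 • a = a := Frame.D_a (Fr.η_D hTr)
  have hfu := Fr.input.f_mem (Fr.δh_mem _) (Fr.δh_ne hA)
  have hB : Fr.β i = Fr.ν (dt i.1 j.1)⁻¹ * Fr.φ j + Fr.act (Fr.η T i.1) (Fr.Bf (Fr.ν (dt i.1 k.1)⁻¹ * Fr.φ k)) := by
    rw [β, Bf, hmul, show Fr.input.hh p = Fr.η T i.1 from rfl]
    rw [Fr.ca_mul _ (Fr.input.f_mem hpQ hp1) _ (hS.conj_mem _ hda _ hfu)]
    congr 1
    · rw [← Fr.pp_swap hTr, Fr.ca_pp ((dt_comm i.1 T).trans hTr)]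
      exact Fr.Φ_smul _ _
    · show _ = Fr.act (Fr.η T i.1) (Fr.ca _)
      rw [Fr.act_ca hda hfu]
  have hwi : (Fr.wi i)⁻¹ ∈ centT Ω a t := inv_mem (Fr.wi_mem i)
  rw [hT, Fr.η_unit hj, ← hu, Fr.Bf_smul _ (inv_ne_zero hdk) (Fr.φ_ne k), inv_inv,
    Fr.act_mul (Fr.kl_a _) (Frame.W_a (inv_mem huW)), Fr.act_ν (inv_mem huW),
    Fr.σ_inv huW, hd', RingEquiv.symm_apply_apply] at hB
  have h4 : Fr.act (Fr.kl (Units.mk0 _ hdj)) (Fr.ν (dt i.1 j.1) * Fr.act u⁻¹ (Fr.β k)) = Fr.act u⁻¹ (Fr.β k) := by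
    have h5 := Fr.act_kl_inv (Units.mk0 _ hdj)⁻¹ (Fr.ν (dt i.1 j.1) * Fr.act u⁻¹ (Fr.β k))
    rw [inv_inv] at h5
    rw [h5, ← mul_assoc, ← map_mul, Units.val_inv_eq_inv_val, Units.val_mk0, inv_mul_cancel₀ hdj, map_one, one_mul]
  rw [show Fr.Bf (Fr.φ k) = Fr.β k from rfl, h4] at hB
  have h6 : Fr.act (Fr.wi i)⁻¹ (Fr.act u⁻¹ (Fr.β k)) = Fr.bi k := by
    rw [bi, ← Fr.act_mul (Frame.W_a hwi) (Frame.W_a (inv_mem huW))]
    congr 1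
    rw [← huu, hu']
    group
  show Fr.act (Fr.wi i)⁻¹ (Fr.β i) + _ = _
  rw [hB, Fr.act_add (Frame.W_a hwi), h6, add_assoc, CharTwo.add_self_eq_zero, add_zero]

/-- Each unit other than `i` has a partner. -/
theorem step {i j : Fr.Un} (hj : j ≠ i) : ∃ k : Fr.Un, k ≠ i ∧ k ≠ j ∧
    Fr.wi k * (Fr.wi i)⁻¹ = Fr.wi i * (Fr.wi j)⁻¹ ∧
    dt i.1 k.1 = Fr.σ (Fr.wi i * (Fr.wi j)⁻¹) (dt i.1 j.1) ∧
    Fr.bi i + Fr.bi k = Fr.act (Fr.wi i)⁻¹ (Fr.ν (dt i.1 j.1)⁻¹ * Fr.φ j) ∧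
    Fr.bi i + Fr.bi j = Fr.act (Fr.wi i)⁻¹ (Fr.ν (dt i.1 k.1)⁻¹ * Fr.φ k) := by
  have hdj := Un.dt_ne Fr hj.symm
  set T := (dt i.1 j.1)⁻¹ • j.1 with hT
  have hTr : dt T i.1 = 1 := by rw [hT, dt_smul_left, dt_comm j.1, inv_mul_cancel₀ hdj]
  have hp := Fr.pp_mem hTr
  obtain ⟨c, hc⟩ := Fr.exists_zc_of_ca_eq (inv_mem hp) hp (Fr.ca_inv hp)
  have hc0 : c ≠ 0 := fun e => Fr.pp_sq hTr (by
    rw [e, Fr.coord.zc_zero, one_mul] at hc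
    nth_rw 1 [← hc]
    exact inv_mul_cancel _)
  rw [← Fr.pp_add hTr] at hc
  have hT'r : dt (T + c • i.1) i.1 = 1 := by rw [dt_add_left, hTr, dt_smul_left, dt_self, mul_zero, add_zero]
  obtain ⟨k, hk, he⟩ := Fr.top_eq hT'r
  rw [he] at hc
  have hkj : k ≠ j := by
    rintro rfl
    rw [← hT, add_eq_left, smul_eq_zero] at he
    exact he.elim hc0 (Un.ne Fr i)
  obtain ⟨h1, h2, h3⟩ := Fr.pair_rel hj hk hc
  obtain ⟨-, -, h4⟩ := Fr.pair_rel hk hj (by rw [← hc, inv_inv])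
  exact ⟨k, hk, hkj, h1, h2, h3, h4⟩

end Frame

end Cfsg.Lib.BenderSuzuki.U3
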