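import Cfsg.Agent.BenderSuzuki.U3.Basic
import Cfsg.Agent.RankOne.IrreducibleCoords
import Cfsg.Agent.OddLocal.CNSolvable

/-!
The case `|Q| = q ^ 3`: the field on the central involutions, and a normal subgroup of prime order of `V`.
-/

set_option autoImplicit false
set_option linter.unusedSectionVars false
set_option linter.style.haveILetI false

namespace Cfsg.Lib.BenderSuzuki.U3

open MulAction Cfsg.Lib.RankOne

universe u v

variable {G : Type u} {Ω : Type v} [Group G] [Finite G] [MulAction G Ω] {a : Ω} {t : G} {Q : Subgroup G}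

/-- Coordinates on the central involutions and on the inverted elements. -/
structure ZCoord (Ω : Type v) [MulAction G Ω] (a : Ω) (t : G) (Q : Subgroup G) (F : Type) [Field F] [Fintype F]
    (zc : F → G) (kl : Fˣ →* G) : Prop where
  card : Fintype.card F = qNum G a
  char_two : CharP F 2
  zc_inj : Function.Injective zc
  zc_add : ∀ c c', zc (c + c') = zc c * zc c'
  mem_range : ∀ x, x ∈ Set.range zc ↔ x ∈ Q ∧ x * x = 1
  kl_mem : ∀ l, kl l ∈ invK Ω a t
  kl_surj : ∀ k ∈ invK Ω a t, ∃ l, kl l = k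
  kl_inj : Function.Injective kl
  kl_zc : ∀ (l : Fˣ) c, kl l * zc c * (kl l)⁻¹ = zc ((l : F) * l * c)
  t_zc : ∀ l : Fˣ, t * zc (l : F) * t = zc ((l⁻¹ : Fˣ) : F) * kl l⁻¹ * t * zc ((l⁻¹ : Fˣ) : F)

namespace ZCoord

variable {F : Type} [Field F] [Fintype F] {zc : F → G} {kl : Fˣ →* G} (C : ZCoord Ω a t Q F zc kl)
include C

theorem zc_zero : zc 0 = 1 := by
  have h := C.zc_add 0 0
  rw [add_zero] at h
  exact left_eq_mul.1 h

theorem zc_mem (c : F) : zc c ∈ Q := ((C.mem_range _).1 ⟨c, rfl⟩).1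

theorem zc_sq (c : F) : zc c * zc c = 1 := ((C.mem_range _).1 ⟨c, rfl⟩).2

theorem zc_invl {c : F} (hc : c ≠ 0) (hS : Cfsg.IsRankOneSetup G Ω a t Q) : zc c ∈ invl G a :=
  ⟨hS.le (C.zc_mem c), fun h => hc (C.zc_inj (h.trans C.zc_zero.symm)), C.zc_sq c⟩

theorem eq_zc_of_invl {x : G} (hS : Cfsg.IsRankOneSetup G Ω a t Q) (hx : x ∈ invl G a) : ∃ c, zc c = x :=
  (C.mem_range x).2 ⟨inv_mem_Q hS hx.1 hx.2.2, hx.2.2⟩

theorem kl_D (l : Fˣ) : kl l ∈ twoStab Ω a t := (C.kl_mem l).1

theorem t_kl (hS : Cfsg.IsRankOneSetup G Ω a t Q) (l : Fˣ) : t * kl l * t = kl l⁻¹ := by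
  have h := (C.kl_mem l).2
  rwa [t_inv hS, ← map_inv] at h

end ZCoord

theorem Input.exists_zcoord (I : Input Ω a t Q) :
    ∃ (F : Type) (_ : Field F) (_ : Fintype F) (zc : F → G) (kl : Fˣ →* G), ZCoord Ω a t Q F zc kl := by
  classical
  have hS := I.setup
  obtain ⟨C, hC, hCcyc, hCn⟩ := inverted_subgroup hS I.two
  have hCmem : ∀ x, x ∈ C ↔ x ∈ invK Ω a t := Set.ext_iff.1 hC
  haveI hZab : IsMulCommutative I.Z := ⟨⟨fun x y => Subtype.ext (I.Z_comm x.2 (I.Z_le y.2))⟩⟩
  have hCab : ∀ x ∈ C, ∀ y ∈ C, x * y = y * x := fun x hx y hy =>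
    congrArg Subtype.val ((IsCyclic.isMulCommutative (α := C)).is_comm.comm ⟨x, hx⟩ ⟨y, hy⟩)
  have hfix : ∀ u ∈ C, u • a = a := fun u hu => (Subgroup.mem_inf.1 ((hCmem u).1 hu).1).1
  have hcardZ := I.card_Z
  have hq := I.q_four
  obtain ⟨F, iF, iFF, ιF, χ, hcardF, hι, hι0, hιadd, hχ0, hχinj, hχmul, hχact, -⟩ :=
    exists_irreducible_coords I.Z C hZab hCab (fun u hu x hx => I.Z_conj (hfix u hu) hx)
      (fun u hu hu1 x hx h => by
        by_contra hx1
        refine hu1 (I.mem_V_of_commute ((hCmem u).1 hu) (one_mem _) (I.Z_le hx) hx1 ?_)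
        rw [mul_one]
        exact h)
      (by rw [hcardZ]; omega)
      (fun W hW hWinv => by
        rcases eq_or_ne W ⊥ with h | h
        · exact Or.inl h
        refine Or.inr (le_antisymm hW fun y hy => ?_)
        obtain ⟨⟨x, hx⟩, hx1⟩ := Subgroup.ne_bot_iff_exists_ne_one.1 h
        have hxi : x ∈ invl G a := (hW hx).resolve_left fun e => hx1 (Subtype.ext e)
        rcases hy with rfl | hy
        · exact one_mem _
        obtain ⟨k, hk, rfl⟩ := conj_surj hS hxi hy
        have := hWinv k⁻¹ (C.inv_mem ((hCmem k).2 hk)) x hx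
        rwa [inv_inv] at this)
  letI := iF
  letI := iFF
  have hcF : Fintype.card F = qNum G a := hcardF.trans hcardZ
  obtain ⟨e, he⟩ := I.exists_exp
  haveI hchar : CharP F 2 := by
    haveI := Fact.mk Nat.prime_two
    refine charP_of_card_eq_prime_pow (f := e) ?_
    rw [Fintype.card_eq_nat_card, ← Fintype.card_eq_nat_card, hcF, he]
  haveI : Fact (Nat.Prime 2) := ⟨Nat.prime_two⟩
  -- the units
  let χu : C → Fˣ := fun u => Units.mk0 (χ u) (hχ0 u)
  have hχu : Function.Bijective χu := by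
    refine Function.Injective.bijective_of_nat_card_le
      (fun u w h => hχinj (congrArg Units.val h)) ?_
    have h1 : Nat.card C = Nat.card (invl G a) := by
      rw [show Nat.card C = Nat.card (invK Ω a t) from Nat.card_congr (Equiv.setCongr hC)]
      exact swap_card hS
    rw [Nat.card_units, Nat.card_eq_fintype_card, hcF, h1]
    show Nat.card (invl G a) + 1 - 1 ≤ _
    omega
  let χe : C ≃* Fˣ := MulEquiv.ofBijective (MonoidHom.mk' χu (fun u w => Units.ext (hχmul u w))) hχu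
  let kl : Fˣ →* G := C.subtype.comp (χe.symm.toMonoidHom.comp (powMonoidHom 2))
  have hsqinj : Function.Injective fun l : Fˣ => l ^ 2 := fun l m h =>
    Units.ext ((PerfectRing.bijective_frobenius (R := F) (p := 2)).injective (by
      show (l : F) ^ 2 = (m : F) ^ 2
      exact_mod_cast congrArg Units.val h))
  obtain ⟨s, hs, hst⟩ := I.partner_eq
  obtain ⟨c0, hc0⟩ := hι.2 ⟨s, Or.inr hs⟩
  have hc00 : c0 ≠ 0 := fun h => hs.2.1 (by
    have := congrArg Subtype.val hc0
    rw [h, hι0] at this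
    exact this.symm)
  let zc : F → G := fun c => (ιF (c0 * c) : G)
  have hzadd : ∀ c c', zc (c + c') = zc c * zc c' := fun c c' => by
    show (ιF (c0 * (c + c')) : G) = _
    rw [mul_add, hιadd]
    rfl
  have hzinj : Function.Injective zc := fun c c' h => mul_left_cancel₀ hc00 (hι.1 (Subtype.ext h))
  have hkz : ∀ (l : Fˣ) c, kl l * zc c * (kl l)⁻¹ = zc ((l : F) * l * c) := fun l c => by
    show _ = (ιF (c0 * ((l : F) * l * c)) : G)
    have h2 : χ (χe.symm (l ^ 2)) = (l : F) * l := by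
      rw [← pow_two, ← Units.val_pow_eq_pow_val]
      exact congrArg Units.val (χe.apply_symm_apply (l ^ 2))
    rw [show c0 * ((l : F) * l * c) = χ (χe.symm (l ^ 2)) * (c0 * c) by rw [h2]; ring, hχact]
    rfl
  have hklC : ∀ l, kl l ∈ C := fun l => by
    show ((χe.symm (l ^ 2) : C) : G) ∈ C
    exact (χe.symm (l ^ 2)).2
  refine ⟨F, iF, iFF, zc, kl, hcF, hchar, hzinj, hzadd, fun x => ?_, fun l => (hCmem _).1 (hklC l), fun k hk => ?_,
    fun l m h => hsqinj (χe.symm.injective (Subtype.ext h)), hkz, fun l => ?_⟩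
  · rw [← I.mem_Z]
    refine ⟨by rintro ⟨c, rfl⟩; exact (ιF _).2, fun hx => ?_⟩
    obtain ⟨y, hy⟩ := hι.2 ⟨x, hx⟩
    exact ⟨c0⁻¹ * y, by show (ιF _ : G) = x; rw [mul_inv_cancel_left₀ hc00, hy]⟩
  · obtain ⟨l, hl⟩ := (Finite.injective_iff_surjective.1 hsqinj) (χe ⟨k, (hCmem k).2 hk⟩)
    refine ⟨l, ?_⟩
    show ((χe.symm (l ^ 2)) : G) = k
    rw [show l ^ 2 = χe ⟨k, (hCmem k).2 hk⟩ from hl, χe.symm_apply_apply]
  · -- the relation with `t`
    have hz1 : zc 1 = s := by
      show (ιF (c0 * 1) : G) = s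
      rw [mul_one, hc0]
    obtain ⟨m, hm⟩ := (Finite.injective_iff_surjective.1 hsqinj) l
    have hml : (m : F) * m * 1 = (l : F) := by
      rw [mul_one, ← Units.val_mul, ← pow_two]
      exact congrArg Units.val hm
    set k := kl m with hk
    have hkt : t * k = k⁻¹ * t := by
      rw [← ((hCmem _).1 (hklC m)).2, inv_mul_cancel_right]
    have hki : t * k⁻¹ = k * t := by
      calc t * k⁻¹ = k * (k⁻¹ * t) * k⁻¹ := by group
        _ = k * (t * k) * k⁻¹ := by rw [hkt]
        _ = k * t := by group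
    have hk2 : k * k = kl l := by rw [hk, ← map_mul, ← pow_two, show m ^ 2 = l from hm]
    have hzl : k * s * k⁻¹ = zc (l : F) := by rw [← hz1, hkz, hml]
    have hzl' : k⁻¹ * s * k = zc ((l⁻¹ : Fˣ) : F) := by
      rw [← hz1, show k⁻¹ * zc 1 * k = kl m⁻¹ * zc 1 * (kl m⁻¹)⁻¹ by rw [map_inv, inv_inv], hkz,
        mul_one, ← Units.val_mul, ← pow_two, inv_pow, show m ^ 2 = l from hm]
    calc t * zc (l : F) * t = (t * k) * s * (k⁻¹ * t) := by rw [← hzl]; group
      _ = (k⁻¹ * t) * s * (t * k) := by rw [hkt]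
      _ = k⁻¹ * (t * s * t) * k := by group
      _ = k⁻¹ * (s * t * s) * k := by rw [hst]
      _ = (k⁻¹ * s * k) * ((k⁻¹ * t) * k) * (k⁻¹ * s * k) := by group
      _ = (k⁻¹ * s * k) * (k * k)⁻¹ * t * (k⁻¹ * s * k) := by
          rw [mul_assoc k⁻¹ t k, hkt]
          group
      _ = _ := by rw [hzl', hk2, map_inv]

theorem Input.exists_v (I : Input Ω a t Q) :
    ∃ v ∈ centI Ω a t, (orderOf v).Prime ∧ ∀ w ∈ centT Ω a t, w * v * w⁻¹ ∈ Subgroup.zpowers v := by
  classical
  have hS := I.setup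
  -- the quotient modulo the involutions
  let S := stabilizer G a
  let Z' := I.Z.subgroupOf S
  haveI hZn : Z'.Normal := ⟨fun x hx g => by
    simp only [Z', Subgroup.mem_subgroupOf] at hx ⊢
    exact I.Z_conj g.2 hx⟩
  let π := QuotientGroup.mk' Z'
  let H := (Q.subgroupOf S).map π
  let V := centI Ω a t
  have hVS : V ≤ S := fun x hx => (Subgroup.mem_inf.1 (Subgroup.mem_inf.1 hx).1).1
  let f : V →* S ⧸ Z' := π.comp (Subgroup.inclusion hVS)
  have hf : Function.Injective f := by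
    rw [injective_iff_map_eq_one]
    rintro ⟨x, hx⟩ h
    have hxZ : x ∈ I.Z := Subgroup.mem_subgroupOf.1 ((QuotientGroup.eq_one_iff (N := Z') _).1 h)
    have := Subgroup.orderOf_dvd_natCard _ (Subgroup.mem_inf.1 hx).1
    refine Subtype.ext (eq_one_of_odd (orderOf_odd_mem hS.odd_card (Subgroup.mem_inf.1 hx).1) ?_)
    exact (I.mem_Z.1 hxZ).2
  have hoddV : Odd (Nat.card V) := hS.odd_card.of_dvd_nat (Subgroup.card_dvd_of_le inf_le_left)
  have hnorm : f.range ≤ Subgroup.normalizer (H : Set (S ⧸ Z')) := by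
    haveI : (Q.subgroupOf S).Normal := ⟨fun x hx g => by
      simp only [Subgroup.mem_subgroupOf] at hx ⊢
      exact hS.conj_mem g g.2 _ hx⟩
    haveI : H.Normal := Subgroup.Normal.map inferInstance π (QuotientGroup.mk'_surjective Z')
    rw [Subgroup.normalizer_eq_top (H := H)]
    exact le_top
  have hne : H ≠ ⊥ := by
    intro h
    have hq := I.q_four
    have hle : Q ≤ I.Z := fun x hx => by
      have h1 : π ⟨x, hS.le hx⟩ ∈ H := Subgroup.mem_map_of_mem _ (Subgroup.mem_subgroupOf.2 hx)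
      rw [h, Subgroup.mem_bot] at h1
      exact Subgroup.mem_subgroupOf.1 ((QuotientGroup.eq_one_iff (N := Z') _).1 h1)
    have := Subgroup.card_le_of_le hle
    rw [I.card_Q, I.card_Z] at this
    exact absurd this (not_le.2 (lt_self_pow₀ (by omega) (by omega)))
  have hfpf : Cfsg.Lib.Frobenius.Fpf f.range H := by
    rintro _ ⟨⟨x, hx⟩, rfl⟩ hx1
    rw [Subgroup.eq_bot_iff_forall]
    rintro _ ⟨⟨p, hp, rfl⟩, hc⟩
    replace hc := Subgroup.mem_centralizer_singleton_iff.1 hc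
    have hh : (p : G)⁻¹ * (x * p * x⁻¹) ∈ I.Z := by
      have := (QuotientGroup.eq (s := Z') (a := p) (b := (⟨x, hVS hx⟩ : S) * p * (⟨x, hVS hx⟩ : S)⁻¹)).1 (by
        show π p = π _
        rw [map_mul, map_mul, map_inv]
        exact (eq_mul_inv_of_mul_eq hc))
      exact this
    refine (QuotientGroup.eq_one_iff (N := Z') _).2 (Subgroup.mem_subgroupOf.2 (I.mem_Z_of_fixed (k := 1) (w := x)
      ⟨one_mem _, by rw [mul_one, mul_inv_cancel, inv_one]⟩ hx ?_ hp ?_))
    · rw [one_mul]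
      exact fun e => hx1 (by rw [show (⟨x, hx⟩ : V) = 1 from Subtype.ext e, map_one])
    · rw [one_mul]
      exact hh
  haveI hZr : IsZGroup f.range := Cfsg.Lib.CN.isZGroup_of_fpf_odd hnorm hfpf hne (by
    rw [← Nat.card_congr (MonoidHom.ofInjective hf).toEquiv]
    exact hoddV.not_two_dvd_nat)
  haveI : IsZGroup V := IsZGroup.of_injective (f := (MonoidHom.ofInjective hf).toMonoidHom) (MulEquiv.injective _)
  -- a cyclic subgroup invariant under `W`
  have hVn : ∀ w ∈ centT Ω a t, ∀ x ∈ V, w * x * w⁻¹ ∈ V := by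
    intro w hw x hx
    have hwD := (Subgroup.mem_inf.1 hw).1
    obtain ⟨hxD, hxc⟩ := Subgroup.mem_inf.1 hx
    refine Subgroup.mem_inf.2 ⟨mul_mem (mul_mem hwD hxD) (inv_mem hwD),
      Subgroup.mem_centralizer_iff.2 fun s hs => ?_⟩
    have hs' : w⁻¹ * s * w ∈ invl G a := by
      have := conj_invol hS (x := w⁻¹) (inv_smul_eq_iff.2 (Subgroup.mem_inf.1 hwD).1.symm) hs
      rwa [inv_inv] at this
    have h := Subgroup.mem_centralizer_iff.1 hxc _ hs'
    calc s * (w * x * w⁻¹) = w * (w⁻¹ * s * w * x) * w⁻¹ := by group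
      _ = w * (x * (w⁻¹ * s * w)) * w⁻¹ := by rw [h]
      _ = _ := by group
  obtain ⟨A, hAV, hAcyc, hAne, hAn⟩ : ∃ A : Subgroup G, A ≤ V ∧ IsCyclic A ∧ A ≠ ⊥ ∧
      ∀ w ∈ centT Ω a t, ∀ x ∈ A, w * x * w⁻¹ ∈ A := by
    by_cases hc : ⁅V, V⁆ = ⊥
    · have hab : IsMulCommutative V := by
        rw [Subgroup.commutator_eq_bot_iff_le_centralizer] at hc
        exact ⟨⟨fun x y => Subtype.ext (Subgroup.mem_centralizer_iff.1 (hc y.2) x x.2)⟩⟩
      haveI := hab
      haveI : Group.IsNilpotent V := by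
        letI : CommGroup V := { (inferInstance : Group V) with mul_comm := hab.is_comm.comm }
        infer_instance
      exact ⟨V, le_rfl, inferInstance, I.vne, hVn⟩
    · refine ⟨⁅V, V⁆, Subgroup.commutator_le_self V, ?_, hc, fun w hw x hx => ?_⟩
      · rw [← Subgroup.map_subtype_commutator]
        haveI := IsZGroup.isCyclic_commutator V
        exact isCyclic_of_surjective _ ((commutator V).equivMapOfInjective V.subtype V.subtype_injective).surjective
      · have hmap : (⁅V, V⁆).map (MulAut.conj w).toMonoidHom ≤ ⁅V, V⁆ := by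
          rw [Subgroup.map_commutator]
          have hle : V.map (MulAut.conj w).toMonoidHom ≤ V := by
            rintro _ ⟨y, hy, rfl⟩
            exact hVn w hw y hy
          exact Subgroup.commutator_mono hle hle
        exact hmap ⟨x, hx, rfl⟩
  haveI := hAcyc
  obtain ⟨l, hl, hld⟩ := Nat.exists_prime_and_dvd (n := Nat.card A) (fun h => hAne (Subgroup.card_eq_one.1 h))
  haveI := Fact.mk hl
  obtain ⟨v, hv⟩ := exists_prime_orderOf_dvd_card' (G := A) l hld
  refine ⟨v, hAV v.2, by rw [Subgroup.orderOf_coe, hv]; exact hl, fun w hw => ?_⟩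
  haveI := Fintype.ofFinite A
  set y : A := ⟨w * v * w⁻¹, hAn w hw v v.2⟩ with hy
  suffices y ∈ Subgroup.zpowers v by
    obtain ⟨i, hi⟩ := this
    exact ⟨i, congrArg Subtype.val hi⟩
  have hyl : y ^ l = 1 := Subtype.ext (by
    show (w * (v : G) * w⁻¹) ^ l = 1
    rw [conj_pow, ← hv, ← Subgroup.orderOf_coe, pow_orderOf_eq_one, mul_one, mul_inv_cancel])
  have h1 : (Subgroup.zpowers v : Set A).toFinset ⊆ Finset.univ.filter fun x : A => x ^ l = 1 := by
    intro x hx
    rw [Set.mem_toFinset] at hx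
    obtain ⟨i, rfl⟩ := hx
    rw [Finset.mem_filter]
    refine ⟨Finset.mem_univ _, ?_⟩
    rw [← hv, ← zpow_natCast, ← zpow_mul, mul_comm, zpow_mul, zpow_natCast, pow_orderOf_eq_one, one_zpow]
  have h2 := Finset.eq_of_subset_of_card_le h1 (by
    refine (IsCyclic.card_pow_eq_one_le hl.pos).trans (le_of_eq ?_)
    rw [Set.toFinset_card, Fintype.card_eq_nat_card, SetLike.coe_sort_coe, Nat.card_zpowers, hv])
  have h3 : y ∈ Finset.univ.filter fun x : A => x ^ l = 1 := Finset.mem_filter.2 ⟨Finset.mem_univ _, hyl⟩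
  rw [← h2, Set.mem_toFinset] at h3
  exact h3

end Cfsg.Lib.BenderSuzuki.U3
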